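import Mathlib
import Cfsg.Agent.Lib.Lie.HallJankoPairs

/-!
Groups of Hall–Janko type: the extraspecial core of the involution centralizer as a module for `A₅`.
-/

set_option autoImplicit false
set_option linter.style.haveILetI false
set_option linter.unusedSectionVars false

namespace Cfsg.Agent.Lie.HJType

open Equiv

universe u

/-- the hypothesis, for subgroups of the ambient group -/
structure Hyp {G : Type u} [Group G] [Finite G] (z : G) (Q : Subgroup G) : Prop where
  S : CentTransfer.Setting z Q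
  card : Nat.card Q = 32
  quot : ∃ f : Subgroup.centralizer ({z} : Set G) →* alternatingGroup (Fin 5),
    Function.Surjective f ∧ f.ker = Q.subgroupOf (Subgroup.centralizer ({z} : Set G))
  nwc : ∃ u ∈ Q, u ≠ z ∧ IsConj z u
  cl : ∃ x y : G, orderOf x = 2 ∧ orderOf y = 2 ∧ ¬ IsConj x y

/-- the five classes of non-central involutions of the core, and the action on them -/
structure Frame {G : Type u} [Group G] [Finite G] (z : G) (Q : Subgroup G) where
  S : CentTransfer.Setting z Q
  card : Nat.card Q = 32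
  π : Subgroup.centralizer ({z} : Set G) →* alternatingGroup (Fin 5)
  surj : Function.Surjective π
  ker : ∀ c : Subgroup.centralizer ({z} : Set G), π c = 1 ↔ (c : G) ∈ Q
  u : Fin 5 → G
  mem : ∀ i, u i ∈ Q
  sq : ∀ i, u i * u i = 1
  ne_one : ∀ i, u i ≠ 1
  ne_z : ∀ i, u i ≠ z
  nc : ∀ i j, Commute (u i) (u j) → i = j
  all : ∀ x ∈ Q, x * x = 1 → x = 1 ∨ x = z ∨ ∃ i, x = u i ∨ x = u i * z
  act : ∀ (c : Subgroup.centralizer ({z} : Set G)) (i : Fin 5),
    (c : G) * u i * (c : G)⁻¹ = u ((π c : Perm (Fin 5)) i) ∨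
      (c : G) * u i * (c : G)⁻¹ = u ((π c : Perm (Fin 5)) i) * z

variable {G : Type u} [Group G] [Finite G] {z : G} {Q : Subgroup G}

theorem mem_cent {c : G} : c ∈ Subgroup.centralizer ({z} : Set G) ↔ Commute c z :=
  Subgroup.mem_centralizer_singleton_iff

theorem exists_frame_of (S : CentTransfer.Setting z Q) (hQ : Nat.card Q = 32)
    (hquot : ∃ f : Subgroup.centralizer ({z} : Set G) →* alternatingGroup (Fin 5),
      Function.Surjective f ∧ f.ker = Q.subgroupOf (Subgroup.centralizer ({z} : Set G)))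
    (hinv : ∃ u ∈ Q, u * u = 1 ∧ u ≠ 1 ∧ u ≠ z) : Nonempty (Frame z Q) := by
  classical
  haveI : Fact (Nat.Prime 2) := ⟨Nat.prime_two⟩
  haveI : Fact (Nat.Prime 5) := ⟨by norm_num⟩
  haveI : Fintype G := Fintype.ofFinite G
  have hzz := S.xt.sq
  have hzQ := S.xt.mem
  have hzc : ∀ x ∈ Q, Commute z x := S.xt.cen
  set H := Subgroup.centralizer ({z} : Set G) with hH
  obtain ⟨f, hf, hker⟩ : ∃ f : H →* alternatingGroup (Fin 5), Function.Surjective f ∧ f.ker = Q.subgroupOf H := hquot
  have hkz : ∀ c : H, Commute (c : G) z := fun c => mem_cent.1 c.2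
  have hfker : ∀ c : H, f c = 1 ↔ (c : G) ∈ Q := fun c => by
    rw [← MonoidHom.mem_ker, hker, Subgroup.mem_subgroupOf]
  have hnorm : ∀ c : H, ∀ q ∈ Q, (c : G) * q * (c : G)⁻¹ ∈ Q := fun c q hq => S.norm c (hkz c) q hq
  have hconjz : ∀ (c : H) (x : G), (c : G) * (x * z) * (c : G)⁻¹ = (c : G) * x * (c : G)⁻¹ * z := fun c x => by
    rw [mul_assoc (c : G), mul_assoc x, ← (hkz c).inv_left.eq]; group
  -- an element of order five is fixed-point-free
  obtain ⟨c5, hc5⟩ : ∃ c : H, orderOf c = 5 := by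
    refine exists_prime_orderOf_dvd_card' 5 ?_
    have h2 : f.ker.index = 60 := by
      rw [Subgroup.index_ker, Nat.card_congr (Equiv.subtypeUnivEquiv fun x => MonoidHom.mem_range.2 (hf x)),
        nat_card_alternatingGroup, Nat.card_fin]
      rfl
    exact dvd_trans (by rw [h2]; norm_num) f.ker.index_dvd_card
  have hc5Q : (c5 : G) ∉ Q := by
    intro hq
    obtain ⟨n, hn⟩ := IsPGroup.iff_orderOf.1 S.two ⟨c5, hq⟩
    rw [Subgroup.orderOf_mk, Subgroup.orderOf_coe, hc5] at hn
    rcases n with _ | n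
    · norm_num at hn
    · have : 2 ∣ 5 := ⟨2 ^ n, by rw [hn, pow_succ']⟩
      norm_num at this
  have hfpf : ∀ x ∈ Q, ((c5 : G) * x * (c5 : G)⁻¹ = x ∨ (c5 : G) * x * (c5 : G)⁻¹ = x * z) → x = 1 ∨ x = z := by
    intro x hx hor
    have hcomm : Commute (c5 : G) x := by
      rcases hor with h | h
      · exact mul_inv_eq_iff_eq_mul.1 h
      · exfalso
        have h2 : ∀ n : ℕ, (c5 : G) ^ n * x * ((c5 : G) ^ n)⁻¹ = x * z ^ n := by
          intro n
          induction n with
          | zero => simp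
          | succ n ih =>
            rw [pow_succ', mul_inv_rev, show (c5 : G) * (c5 : G) ^ n * x * (((c5 : G) ^ n)⁻¹ * (c5 : G)⁻¹) =
                (c5 : G) * ((c5 : G) ^ n * x * ((c5 : G) ^ n)⁻¹) * (c5 : G)⁻¹ by group,
              ih, show (c5 : G) * (x * z ^ n) * (c5 : G)⁻¹ = ((c5 : G) * x * (c5 : G)⁻¹) * ((c5 : G) * z ^ n * (c5 : G)⁻¹) by group, h,
              ((hkz c5).pow_right n).eq, mul_inv_cancel_right, mul_assoc, ← pow_succ']
        have h5 := h2 5
        rw [show ((c5 : G)) ^ 5 = 1 by rw [← hc5, ← Subgroup.orderOf_coe, pow_orderOf_eq_one], one_mul, inv_one, mul_one,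
          show (5 : ℕ) = 2 * 2 + 1 by norm_num, pow_succ, pow_mul, sq z, hzz, one_pow, one_mul] at h5
        exact S.xt.ne (left_eq_mul.1 h5)
    set A := Subgroup.zpowers c5
    have hA : IsPGroup 5 A := IsPGroup.of_card (n := 1) (by rw [Nat.card_zpowers, hc5, pow_one])
    letI : MulAction A Q :=
      { smul := fun a q => ⟨((a : H) : G) * q * ((a : H) : G)⁻¹, hnorm a q q.2⟩
        one_smul := fun q => Subtype.ext (show (((1 : A) : H) : G) * q * (((1 : A) : H) : G)⁻¹ = q by simp)
        mul_smul := fun a b q => Subtype.ext (show (((a * b : A) : H) : G) * q * (((a * b : A) : H) : G)⁻¹ =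
          ((a : H) : G) * (((b : H) : G) * q * ((b : H) : G)⁻¹) * ((a : H) : G)⁻¹ by simp [mul_assoc]) }
    set C : Subgroup G := Q ⊓ Subgroup.centralizer ({(c5 : G)} : Set G)
    have hfix : Nat.card (MulAction.fixedPoints A Q) = Nat.card C := by
      refine Nat.card_congr
        { toFun := fun q => ⟨q.1, q.1.2, Subgroup.mem_centralizer_singleton_iff.2
            (mul_inv_eq_iff_eq_mul.1 (congrArg Subtype.val (q.2 ⟨c5, Subgroup.mem_zpowers c5⟩))).symm⟩
          invFun := fun c => ⟨⟨c, c.2.1⟩, fun a => Subtype.ext (by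
            obtain ⟨j, hj⟩ := Subgroup.mem_zpowers_iff.1 a.2
            have hc : Commute (c : G) (c5 : G) := Subgroup.mem_centralizer_singleton_iff.1 c.2.2
            show ((a : H) : G) * c * ((a : H) : G)⁻¹ = c
            rw [← hj, Subgroup.coe_zpow, ← (hc.zpow_right j).eq, mul_inv_cancel_right])⟩
          left_inv := fun _ => rfl
          right_inv := fun _ => rfl }
    have hmod := hA.card_modEq_card_fixedPoints Q
    rw [hfix, hQ] at hmod
    obtain ⟨j, hj, hj'⟩ := (Nat.dvd_prime_pow Nat.prime_two).1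
      (show Nat.card C ∣ 2 ^ 5 from (by norm_num : (32 : ℕ) = 2 ^ 5) ▸ hQ ▸ Subgroup.card_dvd_of_le inf_le_left)
    have hxC : x ∈ C := ⟨hx, Subgroup.mem_centralizer_singleton_iff.2 hcomm.symm.eq⟩
    rw [hj'] at hmod
    have hj1 : j = 1 ∨ j = 5 := by
      interval_cases j <;> first | omega | (exfalso; revert hmod; decide)
    rcases hj1 with rfl | rfl
    · by_contra! hne
      have hz' : z ∈ C := ⟨hzQ, Subgroup.mem_centralizer_singleton_iff.2 (hkz c5).symm.eq⟩
      have hsub : (({1, z, x} : Finset G) : Set G) ⊆ C := by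
        intro y hy
        simp only [Finset.coe_insert, Finset.coe_singleton, Set.mem_insert_iff, Set.mem_singleton_iff] at hy
        rcases hy with rfl | rfl | rfl <;> [exact C.one_mem; exact hz'; exact hxC]
      have hle := Nat.card_mono (Set.toFinite _) hsub
      rw [Nat.card_coe_set_eq, Set.ncard_coe_finset, Finset.card_eq_three.2 ⟨1, z, x, S.xt.ne.symm, hne.1.symm, hne.2.symm, rfl⟩] at hle
      change 3 ≤ Nat.card C at hle
      omega
    · exfalso
      have hCQ : C = Q := Subgroup.eq_of_le_of_card_ge inf_le_left (by rw [hQ, hj']; norm_num)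
      exact hc5Q (S.cent (Subgroup.mem_centralizer_iff.2 fun q hq =>
        Subgroup.mem_centralizer_singleton_iff.1 (hCQ.ge hq).2))
  -- noncentral involutions of `Q`
  let I : Finset G := Finset.univ.filter fun u => u ∈ Q ∧ u * u = 1 ∧ u ≠ 1 ∧ u ≠ z
  have hI : ∀ {u : G}, u ∈ I ↔ u ∈ Q ∧ u * u = 1 ∧ u ≠ 1 ∧ u ≠ z := fun {u} => by simp [I]
  have hIconj : ∀ (c : H) {u : G}, u ∈ I → (c : G) * u * (c : G)⁻¹ ∈ I := by
    intro c u hu
    obtain ⟨hq, huu, hu1, huz⟩ := hI.1 hu
    refine hI.2 ⟨hnorm c u hq, by rw [conj_mul, huu]; group, fun e => hu1 (conj_eq_one_iff.1 e), fun e => huz ?_⟩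
    exact mul_left_cancel (a := (c : G)) (mul_right_cancel (b := (c : G)⁻¹) (e.trans (by rw [(hkz c).eq]; group)))
  have hImulz : ∀ {u : G}, u ∈ I → u * z ∈ I := by
    intro u hu
    obtain ⟨hq, huu, hu1, huz⟩ := hI.1 hu
    refine hI.2 ⟨Q.mul_mem hq hzQ, by rw [(hzc u hq).mul_mul_mul_comm u z, huu, hzz, one_mul], fun e => huz ?_,
      fun e => hu1 ?_⟩
    · rw [mul_eq_one_iff_eq_inv.1 e, inv_eq_of_mul_eq_one_right hzz]
    · exact mul_eq_right.1 e
  have hdiv5 : 5 ∣ I.card := by
    set A := Subgroup.zpowers c5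
    have hA : IsPGroup 5 A := IsPGroup.of_card (n := 1) (by rw [Nat.card_zpowers, hc5, pow_one])
    letI : MulAction A I :=
      { smul := fun a q => ⟨((a : H) : G) * q * ((a : H) : G)⁻¹, hIconj a q.2⟩
        one_smul := fun q => Subtype.ext (show (((1 : A) : H) : G) * q * (((1 : A) : H) : G)⁻¹ = q by simp)
        mul_smul := fun a b q => Subtype.ext (show (((a * b : A) : H) : G) * q * (((a * b : A) : H) : G)⁻¹ =
          ((a : H) : G) * (((b : H) : G) * q * ((b : H) : G)⁻¹) * ((a : H) : G)⁻¹ by simp [mul_assoc]) }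
    have hempty : IsEmpty (MulAction.fixedPoints A I) := ⟨fun q => by
      obtain ⟨hq, -, hu1, huz⟩ := hI.1 q.1.2
      rcases hfpf _ hq (Or.inl (congrArg Subtype.val (q.2 ⟨c5, Subgroup.mem_zpowers c5⟩))) with e | e
      · exact hu1 e
      · exact huz e⟩
    have hmod := hA.card_modEq_card_fixedPoints I
    rw [Nat.card_of_isEmpty (α := MulAction.fixedPoints A I), Nat.card_eq_fintype_card, Fintype.card_coe] at hmod
    exact (Nat.modEq_zero_iff_dvd).1 hmod
  obtain ⟨u₁, hu₁⟩ : ∃ u, u ∈ I := by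
    obtain ⟨u, hu⟩ := hinv
    exact ⟨u, hI.2 hu⟩
  have hnc : ∀ {u v : G}, u ∈ I → v ∈ I → Commute u v → v = u ∨ v = u * z := by
    intro u v hu hv huv
    obtain ⟨huQ, huu, hu1, huz⟩ := hI.1 hu
    obtain ⟨hvQ, hvv, hv1, hvz⟩ := hI.1 hv
    by_contra! hne
    have hext := HallJankoPairs.extraspecial_of_setting S hQ
    let f₀ : Fin 2 × Fin 2 × Fin 2 → G := fun i => z ^ (i.1 : ℕ) * u ^ (i.2.1 : ℕ) * v ^ (i.2.2 : ℕ)
    have hinj : Function.Injective f₀ :=
      HallJankoPairs.quad_inj hzz S.xt.ne huu hu1 huz (hzc u huQ) hv1 hvz hne.1 (fun e => hne.2 (e.trans (hzc u huQ).eq))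
    set A : Subgroup Q := Subgroup.closure {⟨z, hzQ⟩, ⟨u, huQ⟩, ⟨v, hvQ⟩}
    have hgen : ∀ x ∈ ({⟨z, hzQ⟩, ⟨u, huQ⟩, ⟨v, hvQ⟩} : Set Q), x ^ 2 = 1 ∧
        ∀ y ∈ ({⟨z, hzQ⟩, ⟨u, huQ⟩, ⟨v, hvQ⟩} : Set Q), x * y = y * x := by
      intro x hx
      simp only [Set.mem_insert_iff, Set.mem_singleton_iff] at hx
      refine ⟨Subtype.ext ?_, fun y hy => Subtype.ext ?_⟩
      · rw [Subgroup.coe_pow, sq]
        rcases hx with rfl | rfl | rfl <;> assumption
      · simp only [Set.mem_insert_iff, Set.mem_singleton_iff] at hy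
        rcases hx with rfl | rfl | rfl <;> rcases hy with rfl | rfl | rfl <;>
          first | rfl | exact (hzc u huQ).eq | exact (hzc u huQ).symm.eq | exact (hzc v hvQ).eq |
            exact (hzc v hvQ).symm.eq | exact huv.eq | exact huv.symm.eq
    haveI hAc : IsMulCommutative A := Subgroup.isMulCommutative_closure fun x hx y hy => (hgen x hx).2 y hy
    have hAe : Cfsg.IsElementaryAbelian 2 A := by
      refine ⟨hAc, fun x hx => ?_⟩
      induction hx using Subgroup.closure_induction with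
      | mem x hx => exact (hgen x hx).1
      | one => exact one_pow _
      | mul a b ha hb ea eb =>
        have hab : Commute a b := congrArg Subtype.val (mul_comm' (⟨a, ha⟩ : A) ⟨b, hb⟩)
        rw [hab.mul_pow, ea, eb, one_mul]
      | inv a _ ea => rw [inv_pow, ea, inv_one]
    have hfA : ∀ i, ∃ hi : f₀ i ∈ Q, (⟨f₀ i, hi⟩ : Q) ∈ A := fun i =>
      ⟨Q.mul_mem (Q.mul_mem (Q.pow_mem hzQ _) (Q.pow_mem huQ _)) (Q.pow_mem hvQ _),
        A.mul_mem (A.mul_mem (A.pow_mem (Subgroup.subset_closure (Or.inl rfl)) _)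
          (A.pow_mem (Subgroup.subset_closure (Or.inr (Or.inl rfl))) _))
          (A.pow_mem (Subgroup.subset_closure (Or.inr (Or.inr rfl))) _)⟩
    have h8 : 8 ≤ Nat.card A := by
      have := Nat.card_le_card_of_injective (fun i => (⟨⟨f₀ i, (hfA i).1⟩, (hfA i).2⟩ : A))
        (fun i j e => hinj (congrArg (fun x : A => ((x : Q) : G)) e))
      simpa using this
    obtain ⟨n, hn⟩ := (S.two.to_subgroup A).exists_card_eq
    have hn3 : 3 ≤ n := by
      by_contra! hlt
      interval_cases n <;> omega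
    obtain ⟨B, hB⟩ := Sylow.exists_subgroup_card_pow_prime (G := A) 2 (n := 3) (hn ▸ pow_dvd_pow 2 hn3)
    have hB8 : Nat.card (B.map A.subtype) = 2 ^ (2 + 1) := by
      rw [Subgroup.card_map_of_injective A.subtype_injective, hB]
    have hBe : Cfsg.IsElementaryAbelian 2 (B.map A.subtype) := by
      have hle : B.map A.subtype ≤ A := Subgroup.map_subtype_le _
      exact ⟨⟨⟨fun x y => Subtype.ext (congrArg Subtype.val (mul_comm' (⟨x, hle x.2⟩ : A) ⟨y, hle y.2⟩) :)⟩⟩,
        fun x hx => hAe.2 x (hle hx)⟩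
    have h20 := LocalEven.ExtraspecialFive.card_sq_eq_one (m := 2) hext (by rw [hQ]; norm_num) hBe hB8
    have hset : Nat.card {x : Q // x ^ 2 = 1} = I.card + 2 := by
      have e1 : (I ∪ ({1, z} : Finset G)).card = I.card + 2 := by
        rw [Finset.card_union_of_disjoint, Finset.card_pair S.xt.ne.symm]
        rw [Finset.disjoint_left]
        intro x hx hx'
        simp only [Finset.mem_insert, Finset.mem_singleton] at hx'
        rcases hx' with e | e
        · exact (hI.1 hx).2.2.1 e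
        · exact (hI.1 hx).2.2.2 e
      have hm : ∀ x : G, x ∈ I ∪ ({1, z} : Finset G) ↔ x ∈ Q ∧ x * x = 1 := by
        intro x
        simp only [Finset.mem_union, Finset.mem_insert, Finset.mem_singleton]
        refine ⟨?_, fun h => ?_⟩
        · rintro (h | rfl | rfl)
          · exact ⟨(hI.1 h).1, (hI.1 h).2.1⟩
          · exact ⟨Q.one_mem, one_mul 1⟩
          · exact ⟨hzQ, hzz⟩
        · by_cases h1 : x = 1
          · exact Or.inr (Or.inl h1)
          by_cases h2 : x = z
          · exact Or.inr (Or.inr h2)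
          exact Or.inl (hI.2 ⟨h.1, h.2, h1, h2⟩)
      rw [← e1, ← Fintype.card_coe, ← Nat.card_eq_fintype_card]
      exact Nat.card_congr
        { toFun := fun x => ⟨((x : Q) : G), (hm _).2 ⟨x.1.2, by
            have := congrArg Subtype.val x.2
            rwa [Subgroup.coe_pow, sq] at this⟩⟩
          invFun := fun x => ⟨⟨x, ((hm _).1 x.2).1⟩, Subtype.ext (by rw [Subgroup.coe_pow, sq]; exact ((hm _).1 x.2).2)⟩
          left_inv := fun _ => rfl
          right_inv := fun _ => rfl }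
    rw [hset] at h20
    omega
  have hcls : ∀ {u : G}, u ≠ u * z := fun {u} h => S.xt.ne (left_eq_mul.1 h)
  let cls : G → Finset G := fun u => {u, u * z}
  have hclsz : ∀ {u : G}, cls (u * z) = cls u := fun {u} => by
    show ({u * z, u * z * z} : Finset G) = {u, u * z}
    rw [mul_assoc, hzz, mul_one, Finset.pair_comm]
  have hclsiff : ∀ {u v : G}, cls u = cls v ↔ v = u ∨ v = u * z := by
    intro u v
    refine ⟨fun h => ?_, ?_⟩
    · have : v ∈ cls u := h ▸ Finset.mem_insert_self _ _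
      simpa [cls] using this
    · rintro (rfl | rfl)
      · rfl
      · exact hclsz.symm
  let P : Finset (Finset G) := I.image cls
  have hfib : ∀ u ∈ I, (I.filter fun x => cls x = cls u) = cls u := by
    intro u hu
    ext x
    simp only [Finset.mem_filter, cls, Finset.mem_insert, Finset.mem_singleton]
    refine ⟨fun h => hclsiff.1 h.2.symm, ?_⟩
    rintro (rfl | rfl)
    · exact ⟨hu, rfl⟩
    · exact ⟨hImulz hu, hclsz⟩
  have hP2 : I.card = 2 * P.card := by
    rw [Finset.card_eq_sum_card_fiberwise (f := cls) (t := P) (fun x hx => Finset.mem_image_of_mem cls hx),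
      Finset.sum_congr rfl (fun c hc => by
        obtain ⟨u, hu, rfl⟩ := Finset.mem_image.1 hc
        rw [hfib u hu, Finset.card_pair hcls] : ∀ c ∈ P, (I.filter fun x => cls x = c).card = 2),
      Finset.sum_const, smul_eq_mul, mul_comm]
  have hI10 : I.card = 10 := by
    obtain ⟨hu₁Q, -, hu₁1, hu₁z⟩ := hI.1 hu₁
    have h16 := HallJankoPairs.card_centralizer_in S hQ hu₁Q hu₁1 hu₁z
    let Qf : Finset G := Finset.univ.filter fun x => x ∈ Q
    let Cf : Finset G := Finset.univ.filter fun x => x ∈ (Q ⊓ Subgroup.centralizer ({u₁} : Set G) : Subgroup G)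
    have hQf : Qf.card = 32 := by
      rw [← hQ, Nat.card_eq_fintype_card]
      exact (Fintype.card_subtype _).symm
    have hCf : Cf.card = 16 := by
      rw [← h16, Nat.card_eq_fintype_card]
      exact (Fintype.card_subtype _).symm
    have hsub : I ⊆ cls u₁ ∪ (Qf \ Cf) := by
      intro x hx
      rw [Finset.mem_union]
      by_cases h : Commute u₁ x
      · left
        simpa [cls] using hnc hu₁ hx h
      · right
        simp only [Finset.mem_sdiff, Qf, Cf, Finset.mem_filter, Finset.mem_univ, true_and]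
        exact ⟨(hI.1 hx).1, fun h' => h (Subgroup.mem_centralizer_singleton_iff.1 h'.2).symm⟩
    have hCQ : Cf ⊆ Qf := fun x hx => by
      simp only [Qf, Cf, Finset.mem_filter, Finset.mem_univ, true_and] at hx ⊢
      exact hx.1
    have hle : I.card ≤ 18 := by
      refine ((Finset.card_le_card hsub).trans (Finset.card_union_le _ _)).trans ?_
      rw [Finset.card_sdiff_of_subset hCQ, hQf, hCf]
      have : (cls u₁).card ≤ 2 := Finset.card_le_two
      omega
    have hpos : 0 < I.card := Finset.card_pos.2 ⟨u₁, hu₁⟩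
    omega
  have hP5 : P.card = 5 := by omega
  -- the action on the five classes
  have himg : ∀ (c : H) (u : G), (cls u).image (fun x => (c : G) * x * (c : G)⁻¹) = cls ((c : G) * u * (c : G)⁻¹) := by
    intro c u
    simp [cls, Finset.image_insert, hconjz c]
  letI actP : MulAction H P :=
    { smul := fun k c => ⟨(c : Finset G).image (fun x => (k : G) * x * (k : G)⁻¹), by
        obtain ⟨u, hu, hcu⟩ := Finset.mem_image.1 c.2
        rw [← hcu, himg k]
        exact Finset.mem_image_of_mem cls (hIconj k hu)⟩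
      one_smul := fun c => Subtype.ext (show (c : Finset G).image (fun x => ((1 : H) : G) * x * ((1 : H) : G)⁻¹) = c by simp)
      mul_smul := fun a b c => Subtype.ext (show (c : Finset G).image (fun x => ((a * b : H) : G) * x * ((a * b : H) : G)⁻¹) =
          ((c : Finset G).image (fun x => (b : G) * x * (b : G)⁻¹)).image (fun x => (a : G) * x * (a : G)⁻¹) by
        rw [Finset.image_image]; congr 1; ext x; simp [mul_assoc]) }
  let eP : P ≃ Fin 5 := Fintype.equivFinOfCardEq (by rw [Fintype.card_coe, hP5])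
  let ψ : H →* Perm (Fin 5) := eP.permCongrHom.toMonoidHom.comp (MulAction.toPermHom H P)
  have hψ : ∀ (k : H) (c : P), ψ k (eP c) = eP (k • c) := fun k c => by
    show eP ((MulAction.toPerm k : Perm P) (eP.symm (eP c))) = _
    rw [eP.symm_apply_apply]; rfl
  have hψQ : f.ker ≤ ψ.ker := by
    intro k hk
    refine MonoidHom.mem_ker.2 (Equiv.ext fun i => ?_)
    obtain ⟨c, rfl⟩ := eP.surjective i
    rw [hψ, Perm.one_apply]
    refine congrArg eP (Subtype.ext ?_)
    obtain ⟨u, hu, hcu⟩ := Finset.mem_image.1 c.2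
    show (c : Finset G).image (fun x => (k : G) * x * (k : G)⁻¹) = c
    rw [← hcu, himg k]
    exact (hclsiff.2 (S.xt.comm _ ((hfker k).1 hk) u (hI.1 hu).1)).symm
  obtain ⟨g, hg⟩ : ∃ g : alternatingGroup (Fin 5) →* Perm (Fin 5), ∀ k, g (f k) = ψ k :=
    ⟨MonoidHom.liftOfSurjective f hf ⟨ψ, hψQ⟩, fun k => MonoidHom.liftOfRightInverse_comp_apply f _ _ _ k⟩
  have hginj : Function.Injective g := by
    rw [← MonoidHom.ker_eq_bot_iff]
    refine ((alternatingGroup.isSimpleGroup (α := Fin 5) (by rw [Nat.card_fin])).eq_bot_or_eq_top_of_normal g.ker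
      (MonoidHom.normal_ker g)).resolve_right fun htop => ?_
    have h1 : ψ c5 = 1 := by
      rw [← hg]; exact MonoidHom.mem_ker.1 (htop ▸ Subgroup.mem_top _)
    have h2 := hψ c5 ⟨cls u₁, Finset.mem_image_of_mem cls hu₁⟩
    rw [h1, Perm.one_apply] at h2
    have h3 : cls u₁ = cls ((c5 : G) * u₁ * (c5 : G)⁻¹) := (congrArg Subtype.val (eP.injective h2)).trans (himg c5 u₁)
    obtain ⟨hu₁Q, -, hu₁1, hu₁z⟩ := hI.1 hu₁
    rcases hfpf u₁ hu₁Q (hclsiff.1 h3) with e | e
    · exact hu₁1 e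
    · exact hu₁z e
  have hrange : g.range = alternatingGroup (Fin 5) := by
    refine Equiv.Perm.eq_alternatingGroup_of_index_eq_two ?_
    have h := Subgroup.card_mul_index g.range
    rw [← Nat.card_congr (MonoidHom.ofInjective hginj).toEquiv, nat_card_alternatingGroup, Nat.card_perm,
      Nat.card_fin, show Nat.factorial 5 = 120 from rfl] at h
    omega
  let π' : H →* alternatingGroup (Fin 5) := ψ.codRestrict _ fun k => hrange ▸ ⟨f k, hg k⟩
  have hu : ∀ i, ∃ u ∈ I, cls u = (eP.symm i : Finset G) := fun i => Finset.mem_image.1 (eP.symm i).2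
  choose u huI hucls using hu
  refine ⟨{
    S := S
    card := hQ
    π := π'
    surj := fun σ => ?_
    ker := fun c => ?_
    u := u
    mem := fun i => (hI.1 (huI i)).1
    sq := fun i => (hI.1 (huI i)).2.1
    ne_one := fun i => (hI.1 (huI i)).2.2.1
    ne_z := fun i => (hI.1 (huI i)).2.2.2
    nc := fun i j hc => ?_
    all := fun x hx hxx => ?_
    act := fun c i => ?_ }⟩
  · obtain ⟨a, ha⟩ : (σ : Perm (Fin 5)) ∈ g.range := by rw [hrange]; exact σ.2
    obtain ⟨c, rfl⟩ := hf a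
    exact ⟨c, Subtype.ext ((hg c).symm.trans ha)⟩
  · rw [← hfker c, ← hginj.eq_iff (a := f c), hg, map_one]
    exact Subtype.ext_iff
  · refine eP.symm.injective (Subtype.ext ?_)
    rw [← hucls i, ← hucls j]
    exact hclsiff.2 (hnc (huI i) (huI j) hc)
  · by_cases h1 : x = 1
    · exact Or.inl h1
    by_cases h2 : x = z
    · exact Or.inr (Or.inl h2)
    refine Or.inr (Or.inr ⟨eP ⟨cls x, Finset.mem_image_of_mem cls (hI.2 ⟨hx, hxx, h1, h2⟩)⟩, ?_⟩)
    refine hclsiff.1 ?_
    rw [hucls, eP.symm_apply_apply]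
  · refine hclsiff.1 ?_
    rw [hucls, ← himg c, hucls]
    have h1 := hψ c (eP.symm i)
    rw [eP.apply_symm_apply] at h1
    show (eP.symm (ψ c i) : Finset G) = ((c • eP.symm i : P) : Finset G)
    rw [h1, eP.symm_apply_apply]

theorem exists_frame (h : Hyp z Q) : Nonempty (Frame z Q) := by
  refine exists_frame_of h.S h.card h.quot ?_
  obtain ⟨u, hu, hne, hc⟩ := h.nwc
  obtain ⟨g, rfl⟩ := isConj_iff.1 hc
  exact ⟨_, hu, by rw [conj_mul, h.S.xt.sq, mul_one, mul_inv_cancel], fun e => h.S.xt.ne (conj_eq_one_iff.1 e), hne⟩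

/-- the vector of a class: the involution `u i` commutes only with its own class -/
def E (i : Fin 5) : Fin 5 → ZMod 2 := fun k => if k = i then 0 else 1

/-- sums of the first four classes -/
def gen (a : Fin 4 → ZMod 2) : Fin 5 → ZMod 2 :=
  (if a 0 = 1 then E 0 else 0) + (if a 1 = 1 then E 1 else 0) + (if a 2 = 1 then E 2 else 0) +
    (if a 3 = 1 then E 3 else 0)

def Even5 (v : Fin 5 → ZMod 2) : Prop := v 0 + v 1 + v 2 + v 3 + v 4 = 0

instance : DecidablePred Even5 := fun v => inferInstanceAs (Decidable (v 0 + v 1 + v 2 + v 3 + v 4 = 0))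

theorem gen_injective : Function.Injective gen := by decide +kernel

theorem gen_even : ∀ a, Even5 (gen a) := by decide +kernel

theorem gen_surj : ∀ v, Even5 v → ∃ a, gen a = v := by decide +kernel

theorem E_injective : Function.Injective E := by decide +kernel

variable (F : Frame z Q)

open scoped Classical in
/-- the class vector of an element of the core -/
noncomputable def Frame.vec (q : G) : Fin 5 → ZMod 2 := fun i => if Commute q (F.u i) then 0 else 1

theorem Frame.vec_eq_zero_iff {q : G} {i : Fin 5} : F.vec q i = 0 ↔ Commute q (F.u i) := by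
  unfold Frame.vec
  by_cases h : Commute q (F.u i) <;> simp [h]

theorem Frame.vec_one : F.vec 1 = 0 := funext fun _ => F.vec_eq_zero_iff.2 (Commute.one_left _)

theorem Frame.vec_z : F.vec z = 0 := funext fun i => F.vec_eq_zero_iff.2 (F.S.xt.cen _ (F.mem i))

theorem Frame.vec_mul {q r : G} (hq : q ∈ Q) (hr : r ∈ Q) : F.vec (q * r) = F.vec q + F.vec r := by
  classical
  funext i
  show F.vec (q * r) i = F.vec q i + F.vec r i
  unfold Frame.vec
  by_cases h1 : Commute q (F.u i) <;> by_cases h2 : Commute r (F.u i)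
  · simp [h1, h2, h1.mul_left h2]
  · have h3 : ¬ Commute (q * r) (F.u i) := fun h => h2 (by simpa using h1.inv_left.mul_left h)
    simp [h1, h2, h3]
  · have h3 : ¬ Commute (q * r) (F.u i) := fun h => h1 (by simpa using h.mul_left h2.inv_left)
    simp [h1, h2, h3]
  · simp [h1, h2, CentTransfer.mul_commute F.S hq hr (F.mem i) h1 h2]
    decide

theorem Frame.vec_u (i : Fin 5) : F.vec (F.u i) = E i := by
  classical
  funext k
  unfold Frame.vec E
  by_cases h : k = i
  · simp [h]
  · rw [if_neg h, if_neg fun hc => h (F.nc i k hc).symm]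

/-- the class vector as a homomorphism -/
noncomputable def Frame.vecHom : Q →* Multiplicative (Fin 5 → ZMod 2) where
  toFun q := Multiplicative.ofAdd (F.vec q)
  map_one' := by rw [OneMemClass.coe_one, F.vec_one]; rfl
  map_mul' q r := by rw [Subgroup.coe_mul, F.vec_mul q.2 r.2]; rfl

theorem Frame.vec_gen (a : Fin 4 → ZMod 2) : ∃ q ∈ Q, F.vec q = gen a := by
  classical
  let g : Fin 4 → G := fun j => if a j = 1 then F.u (Fin.castSucc j) else 1
  have hg : ∀ j, g j ∈ Q := fun j => by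
    show (if a j = 1 then F.u (Fin.castSucc j) else 1) ∈ Q
    split
    · exact F.mem _
    · exact Q.one_mem
  have hv : ∀ j, F.vec (g j) = if a j = 1 then E (Fin.castSucc j) else 0 := fun j => by
    show F.vec (if a j = 1 then F.u (Fin.castSucc j) else 1) = _
    by_cases h : a j = 1
    · rw [if_pos h, if_pos h, F.vec_u]
    · rw [if_neg h, if_neg h, F.vec_one]
  refine ⟨g 0 * g 1 * g 2 * g 3, Q.mul_mem (Q.mul_mem (Q.mul_mem (hg 0) (hg 1)) (hg 2)) (hg 3), ?_⟩
  rw [F.vec_mul (Q.mul_mem (Q.mul_mem (hg 0) (hg 1)) (hg 2)) (hg 3), F.vec_mul (Q.mul_mem (hg 0) (hg 1)) (hg 2),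
    F.vec_mul (hg 0) (hg 1), hv, hv, hv, hv]
  rfl

theorem Frame.vec_facts : (∀ q ∈ Q, Even5 (F.vec q)) ∧ ∀ q ∈ Q, F.vec q = 0 → q = 1 ∨ q = z := by
  classical
  set f := F.vecHom with hf
  have h32 : Nat.card f.ker * Nat.card f.range = 32 := by
    rw [← Subgroup.index_ker, Subgroup.card_mul_index, F.card]
  have hgen : ∀ a, Multiplicative.ofAdd (gen a) ∈ f.range := fun a => by
    obtain ⟨q, hq, e⟩ := F.vec_gen a
    exact ⟨⟨q, hq⟩, congrArg Multiplicative.ofAdd e⟩
  let γ : (Fin 4 → ZMod 2) → f.range := fun a => ⟨_, hgen a⟩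
  have hγ : Function.Injective γ := fun a b e => gen_injective (congrArg Subtype.val e :)
  have h16 : 16 ≤ Nat.card f.range := by simpa using Nat.card_le_card_of_injective γ hγ
  let zq : f.ker := ⟨⟨z, F.S.xt.mem⟩, congrArg Multiplicative.ofAdd F.vec_z⟩
  have hzq : zq ≠ 1 := fun e => F.S.xt.ne (congrArg (fun x : f.ker => ((x : Q) : G)) e)
  have h2 : 2 ≤ Nat.card f.ker := by
    haveI : Nontrivial f.ker := ⟨⟨zq, 1, hzq⟩⟩
    exact Finite.one_lt_card
  have hk : Nat.card f.ker = 2 := by nlinarith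
  have hr : Nat.card f.range = 16 := by rw [hk] at h32; omega
  refine ⟨fun q hq => ?_, fun q hq h0 => ?_⟩
  · obtain ⟨a, ha⟩ := ((Nat.bijective_iff_injective_and_card γ).2 ⟨hγ, by rw [hr]; simp⟩).2 ⟨f ⟨q, hq⟩, ⟨_, rfl⟩⟩
    have : gen a = F.vec q := Multiplicative.ofAdd.injective (congrArg Subtype.val ha :)
    exact this ▸ gen_even a
  · obtain ⟨y, -, hy⟩ := (Nat.card_eq_two_iff' (1 : f.ker)).1 hk
    by_cases h1 : q = 1
    · exact Or.inl h1
    refine Or.inr ?_
    have e1 := hy ⟨⟨q, hq⟩, congrArg Multiplicative.ofAdd h0⟩ fun e => h1 (congrArg (fun x : f.ker => ((x : Q) : G)) e)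
    exact congrArg (fun x : f.ker => ((x : Q) : G)) (e1.trans (hy zq hzq).symm)

theorem Frame.vec_inv {q : G} (hq : q ∈ Q) : F.vec q⁻¹ = F.vec q := by
  funext i
  have h : ∀ x : G, F.vec x⁻¹ i = 0 ↔ F.vec x i = 0 := fun x => by
    rw [F.vec_eq_zero_iff, F.vec_eq_zero_iff, Commute.inv_left_iff]
  have h2 : ∀ a b : ZMod 2, (a = 0 ↔ b = 0) → a = b := by decide
  exact h2 _ _ (h q)

theorem Frame.vec_eq {q r : G} (hq : q ∈ Q) (hr : r ∈ Q) (h : F.vec q = F.vec r) : q = r ∨ q = r * z := by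
  have h2 : F.vec (r⁻¹ * q) = 0 := by
    rw [F.vec_mul (Q.inv_mem hr) hq, F.vec_inv hr, h]
    funext i
    exact CharTwo.add_self_eq_zero _
  rcases F.vec_facts.2 _ (Q.mul_mem (Q.inv_mem hr) hq) h2 with e | e
  · exact Or.inl (inv_mul_eq_one.1 e).symm
  · exact Or.inr (inv_mul_eq_iff_eq_mul.1 e)

theorem Frame.vec_surj {v : Fin 5 → ZMod 2} (hv : Even5 v) : ∃ q ∈ Q, F.vec q = v := by
  obtain ⟨a, rfl⟩ := gen_surj v hv
  exact F.vec_gen a

/-- the square of an element of the core is decided by its vector -/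
theorem Frame.vec_of_sq {q : G} (hq : q ∈ Q) (hqq : q * q = 1) : F.vec q = 0 ∨ ∃ i, F.vec q = E i := by
  rcases F.all q hq hqq with e | e | ⟨i, e | e⟩
  · exact Or.inl (e ▸ F.vec_one)
  · exact Or.inl (e ▸ F.vec_z)
  · exact Or.inr ⟨i, e ▸ F.vec_u i⟩
  · refine Or.inr ⟨i, ?_⟩
    rw [e, F.vec_mul (F.mem i) F.S.xt.mem, F.vec_z, add_zero, F.vec_u]

theorem Frame.conj_commute_iff {c q : G} (hc : Commute c z) (hq : q ∈ Q) (i : Fin 5) :
    Commute (c * q * c⁻¹) (F.u ((F.π ⟨c, mem_cent.2 hc⟩ : Perm (Fin 5)) i)) ↔ Commute q (F.u i) := by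
  have hqz : Commute q z := (F.S.xt.cen q hq).symm
  rcases F.act ⟨c, mem_cent.2 hc⟩ i with e | e
  · dsimp only at e
    rw [← e, Commute.conj_iff]
  · dsimp only at e
    have e' : F.u ((F.π ⟨c, mem_cent.2 hc⟩ : Perm (Fin 5)) i) = c * (F.u i * z) * c⁻¹ := by
      rw [show c * (F.u i * z) * c⁻¹ = c * F.u i * c⁻¹ * (c * z * c⁻¹) by group, hc.eq, mul_inv_cancel_right, e,
        mul_assoc, F.S.xt.sq, mul_one]
    rw [e', Commute.conj_iff]
    refine ⟨fun h => ?_, fun h => h.mul_right hqz⟩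
    simpa [mul_assoc, F.S.xt.sq] using h.mul_right hqz

theorem Frame.vec_conj {c q : G} (hc : Commute c z) (hq : q ∈ Q) :
    F.vec (c * q * c⁻¹) = fun k => F.vec q ((F.π ⟨c, mem_cent.2 hc⟩ : Perm (Fin 5))⁻¹ k) := by
  funext k
  have h2 : ∀ a b : ZMod 2, (a = 0 ↔ b = 0) → a = b := by decide
  refine h2 _ _ ?_
  rw [F.vec_eq_zero_iff, F.vec_eq_zero_iff]
  have h := F.conj_commute_iff hc hq ((F.π ⟨c, mem_cent.2 hc⟩ : Perm (Fin 5))⁻¹ k)
  rwa [Perm.coe_inv, Equiv.apply_symm_apply] at h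

end Cfsg.Agent.Lie.HJType
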