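import Mathlib
import Cfsg.Agent.Lib.Lie.HJType.Frame
import Cfsg.Agent.Lib.Lie.InvCentralizerFour

/-!
Groups of Hall–Janko type: the involutions outside the extraspecial core.
-/

set_option autoImplicit false
set_option linter.style.haveILetI false
set_option linter.unusedSectionVars false

namespace Cfsg.Agent.Lie.HJType

open Equiv

universe u

local notation "A5" => alternatingGroup (Fin 5)

/-- the permutation action on class vectors -/
def actv (s : A5) (v : Fin 5 → ZMod 2) : Fin 5 → ZMod 2 := fun k => v ((s : Perm (Fin 5))⁻¹ k)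

theorem a5_fix : ∀ s : A5, s * s = 1 → s ≠ 1 →
    ∃ i, (s : Perm (Fin 5)) i = i ∧ ∀ j, (s : Perm (Fin 5)) j = j → j = i := by decide +kernel

theorem a5_four : ∀ g : A5, g * g * (g * g) = 1 → g * g = 1 := by decide +kernel

theorem a5_stab_conj : ∀ (i : Fin 5) (g : A5), (g : Perm (Fin 5)) i = i → g * g = 1 → g ≠ 1 →
    ∀ s : A5, (s : Perm (Fin 5)) i = i → s * s = 1 → s ≠ 1 →
      ∃ h : A5, (h : Perm (Fin 5)) i = i ∧ h * g * h⁻¹ = s := by decide +kernel

theorem a5_inv_conj : ∀ g : A5, g * g = 1 → g ≠ 1 → ∀ s : A5, s * s = 1 → s ≠ 1 →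
    ∃ h : A5, h * g * h⁻¹ = s := by decide +kernel

theorem a5_comm : ∀ s : A5, s * s = 1 → s ≠ 1 → ∀ g : A5, g * s = s * g →
    g * g = 1 ∧ ∀ i, (s : Perm (Fin 5)) i = i → (g : Perm (Fin 5)) i = i := by decide +kernel

theorem a5_cent_card : ∀ s : A5, s * s = 1 → s ≠ 1 →
    Fintype.card {g : A5 // g * s = s * g} = 4 := by decide +kernel

theorem a5_trans : ∀ i j : Fin 5, ∃ σ : A5, (σ : Perm (Fin 5)) i = j := by decide +kernel

theorem fix_aux : ∀ s : A5, s * s = 1 → s ≠ 1 → ∀ i, (s : Perm (Fin 5)) i = i →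
    ∀ v, Even5 v → (actv s v + v = 0 ∨ actv s v + v = E i) → v i = 0 := by decide +kernel

theorem fixed_is_comm : ∀ s : A5, s * s = 1 → s ≠ 1 → ∀ v, Even5 v → actv s v = v →
    ∃ w, Even5 w ∧ actv s w + w = v := by decide +kernel

theorem fixed_plain : ∀ s : A5, s * s = 1 → s ≠ 1 →
    ∃ v, Even5 v ∧ actv s v = v ∧ v ≠ 0 ∧ ∀ j, v ≠ E j := by decide +kernel

theorem plain_at : ∀ i : Fin 5, ∃ v, Even5 v ∧ v i = 0 ∧ v ≠ 0 ∧ ∀ j, v ≠ E j := by decide +kernel

theorem even_one_at : ∀ i : Fin 5, ∃ v, Even5 v ∧ v i = 1 := by decide +kernel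

theorem act_E : ∀ (s : A5) (j : Fin 5), actv s (E j) = E ((s : Perm (Fin 5)) j) := by decide +kernel

theorem act_one (v : Fin 5 → ZMod 2) : actv 1 v = v := rfl

theorem add_eq_zero_iff' {v w : Fin 5 → ZMod 2} : v + w = 0 ↔ v = w :=
  ⟨fun h => funext fun k => CharTwo.add_eq_zero.1 (congrFun h k),
    fun h => h ▸ funext fun _ => CharTwo.add_self_eq_zero _⟩

variable {G : Type u} [Group G] [Finite G] {z : G} {Q : Subgroup G}

theorem comm_inverted {t : G} (htt : t * t = 1) (r : G) :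
    t * (t * r * t * r⁻¹) * t = (t * r * t * r⁻¹)⁻¹ := by
  rw [show t * (t * r * t * r⁻¹) * t = (t * t) * r * t * r⁻¹ * t by group, htt, one_mul, mul_inv_rev, mul_inv_rev,
    mul_inv_rev, inv_inv, inv_eq_of_mul_eq_one_right htt]
  simp only [mul_assoc]

theorem mem_conj_map {g x : G} {P : Subgroup G} :
    x ∈ P.map (MulAut.conj g).toMonoidHom ↔ g⁻¹ * x * g ∈ P := by
  rw [Subgroup.mem_map_equiv, MulAut.conj_symm_apply]

theorem Hyp.conj (h : Hyp z Q) (g : G) : Hyp (g * z * g⁻¹) (Q.map (MulAut.conj g).toMonoidHom) := by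
  obtain ⟨f, hf, hker⟩ := h.quot
  have hcm : ∀ {x : G}, Commute x (g * z * g⁻¹) ↔ Commute (g⁻¹ * x * g) z := fun {x} => by
    conv_lhs => rw [show x = g * (g⁻¹ * x * g) * g⁻¹ by group]
    exact Commute.conj_iff g
  refine ⟨⟨h.S.xt.conj g, ?_, ?_, ?_, h.S.two.map _⟩, ?_, ?_, ?_, h.cl⟩
  · rintro _ ⟨a, ha, rfl⟩
    show g * a * g⁻¹ * (g * a * g⁻¹) = 1 ∨ g * a * g⁻¹ * (g * a * g⁻¹) = g * z * g⁻¹
    rw [conj_mul]
    rcases h.S.sq a ha with e | e <;> rw [e]
    · exact Or.inl (by group)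
    · exact Or.inr rfl
  · intro x hx
    refine mem_conj_map.2 (h.S.cent (Subgroup.mem_centralizer_iff.2 fun q hq => ?_))
    have := Subgroup.mem_centralizer_iff.1 hx (g * q * g⁻¹) ⟨q, hq, rfl⟩
    have h' : Commute (g * q * g⁻¹) (g * (g⁻¹ * x * g) * g⁻¹) := by
      rw [show g * (g⁻¹ * x * g) * g⁻¹ = x by group]; exact this
    exact ((Commute.conj_iff g).1 h').eq
  · intro x hx a ha
    have := h.S.norm _ (hcm.1 hx) _ (mem_conj_map.1 ha)
    refine mem_conj_map.2 ?_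
    convert this using 1
    group
  · rw [Subgroup.card_map_of_injective (MulEquiv.injective _), h.card]
  · let φ : Subgroup.centralizer ({g * z * g⁻¹} : Set G) →* Subgroup.centralizer ({z} : Set G) :=
      { toFun := fun x => ⟨g⁻¹ * x * g, mem_cent.2 (hcm.1 (mem_cent.1 x.2))⟩
        map_one' := Subtype.ext (by simp)
        map_mul' := fun x y => Subtype.ext (by simp [mul_assoc]) }
    refine ⟨f.comp φ, hf.comp fun y => ⟨⟨g * y * g⁻¹, mem_cent.2 (hcm.2 ?_)⟩, Subtype.ext ?_⟩, ?_⟩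
    · simpa [mul_assoc] using mem_cent.1 y.2
    · show g⁻¹ * (g * (y : G) * g⁻¹) * g = y
      group
    · ext x
      rw [MonoidHom.mem_ker, MonoidHom.comp_apply, ← MonoidHom.mem_ker, hker, Subgroup.mem_subgroupOf,
        Subgroup.mem_subgroupOf, mem_conj_map]
      rfl
  · obtain ⟨u, hu, hne, hc⟩ := h.nwc
    refine ⟨g * u * g⁻¹, ⟨u, hu, rfl⟩, fun e => hne ((mul_right_inj g).1 (mul_left_inj g⁻¹ |>.1 e)), ?_⟩
    exact ((isConj_iff.2 ⟨g⁻¹, by group⟩ : IsConj (g * z * g⁻¹) z).trans hc).trans (isConj_iff.2 ⟨g, rfl⟩)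

section FrameLemmas
variable (F : Frame z Q)
include F

/-- centralizer elements from commutation -/
def cen (z : G) {c : G} (hc : Commute c z) : Subgroup.centralizer ({z} : Set G) := ⟨c, mem_cent.2 hc⟩

theorem Frame.comm_z (c : Subgroup.centralizer ({z} : Set G)) : Commute (c : G) z := mem_cent.1 c.2

theorem Frame.cen_Q {q : G} (hq : q ∈ Q) : Commute q z := (F.S.xt.cen q hq).symm

theorem Frame.pi_Q {q : G} (hq : q ∈ Q) : F.π (cen z (F.cen_Q hq)) = 1 := (F.ker _).2 hq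

theorem Frame.vconj (c : Subgroup.centralizer ({z} : Set G)) {q : G} (hq : q ∈ Q) :
    F.vec ((c : G) * q * (c : G)⁻¹) = actv (F.π c) (F.vec q) :=
  F.vec_conj (F.comm_z c) hq

theorem Frame.fix_of_commute {c : Subgroup.centralizer ({z} : Set G)} {i : Fin 5}
    (h : Commute (c : G) (F.u i)) : (F.π c : Perm (Fin 5)) i = i := by
  have e0 : (c : G) * F.u i * (c : G)⁻¹ = F.u i := by rw [h.eq, mul_inv_cancel_right]
  rcases F.act c i with e | e <;> rw [e0] at e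
  · exact F.nc _ _ (by rw [← e])
  · refine F.nc _ _ ?_
    rw [e]
    exact ((Commute.refl _).mul_right (F.cen_Q (F.mem _)))

theorem Frame.lift (i : Fin 5) {g : A5} (hg : (g : Perm (Fin 5)) i = i) :
    ∃ c : Subgroup.centralizer ({z} : Set G), F.π c = g ∧ Commute (c : G) (F.u i) := by
  obtain ⟨c, rfl⟩ := F.surj g
  rcases F.act c i with e | e <;> rw [hg] at e
  · exact ⟨c, rfl, mul_inv_eq_iff_eq_mul.1 e⟩
  · obtain ⟨v, hv, hvi⟩ := even_one_at i
    obtain ⟨q, hq, rfl⟩ := F.vec_surj hv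
    have hn : ¬ Commute q (F.u i) := fun h => by
      rw [F.vec_eq_zero_iff.2 h] at hvi
      exact absurd hvi (by decide)
    refine ⟨cen z (F.cen_Q hq) * c, by rw [map_mul, F.pi_Q hq, one_mul], mul_inv_eq_iff_eq_mul.1 ?_⟩
    show q * c * F.u i * (q * c)⁻¹ = F.u i
    rw [show q * (c : G) * F.u i * (q * c)⁻¹ = q * ((c : G) * F.u i * (c : G)⁻¹) * q⁻¹ by group, e,
      show q * (F.u i * z) * q⁻¹ = q * F.u i * q⁻¹ * (q * z * q⁻¹) by group,
      F.S.xt.move hq (F.mem i) hn, (F.cen_Q hq).eq, mul_inv_cancel_right, mul_assoc, F.S.xt.sq, mul_one]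

theorem Frame.sq_eq_z {q : G} (hq : q ∈ Q) (h0 : F.vec q ≠ 0) (hE : ∀ j, F.vec q ≠ E j) : q * q = z := by
  refine (F.S.sq q hq).resolve_left fun e => ?_
  rcases F.vec_of_sq hq e with h | ⟨j, h⟩
  · exact h0 h
  · exact hE j h

theorem Frame.isConj_core (h : Hyp z Q) {x : G} (hx : x ∈ Q) (hxx : x * x = 1) (hx1 : x ≠ 1) :
    IsConj z x := by
  have hswap : ∀ i, IsConj (F.u i) (F.u i * z) := fun i => by
    obtain ⟨q, hq, hn⟩ := CentTransfer.exists_not_commute F.S (F.mem i) (F.ne_one i) (F.ne_z i)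
    exact isConj_iff.2 ⟨q, F.S.xt.move hq (F.mem i) fun h' => hn h'.symm⟩
  have htrans : ∀ i j, IsConj (F.u i) (F.u j) := fun i j => by
    obtain ⟨σ, hσ⟩ := a5_trans i j
    obtain ⟨c, rfl⟩ := F.surj σ
    rcases F.act c i with e | e <;> rw [hσ] at e
    · exact isConj_iff.2 ⟨_, e⟩
    · exact (isConj_iff.2 ⟨_, e⟩ : IsConj _ _).trans (hswap j).symm
  obtain ⟨u, hu, hne, hc⟩ := h.nwc
  obtain ⟨g, hg⟩ := isConj_iff.1 hc
  have huu : u * u = 1 := by rw [← hg, conj_mul, F.S.xt.sq, mul_one, mul_inv_cancel]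
  have hu1 : u ≠ 1 := fun e => F.S.xt.ne (conj_eq_one_iff.1 (hg.trans e))
  obtain ⟨j, hj⟩ : ∃ j, IsConj (F.u j) u := by
    rcases F.all u hu huu with e | e | ⟨j, e | e⟩
    · exact absurd e hu1
    · exact absurd e hne
    · exact ⟨j, e ▸ IsConj.refl _⟩
    · exact ⟨j, e ▸ hswap j⟩
  rcases F.all x hx hxx with e | e | ⟨i, e | e⟩
  · exact absurd e hx1
  · exact e ▸ IsConj.refl _
  · exact e ▸ hc.trans (hj.symm.trans (htrans j i))
  · exact e ▸ (hc.trans (hj.symm.trans (htrans j i))).trans (hswap i)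

end FrameLemmas

theorem core_conj (h : Hyp z Q) {x : G} (hx : x ∈ Q) (hxx : x * x = 1) (hx1 : x ≠ 1) : IsConj z x :=
  (exists_frame h).elim fun F => F.isConj_core h hx hxx hx1

section FrameLemmas
variable (F : Frame z Q)
include F

/-- lifts of involutions fixing a class, with square in `⟨u i⟩` -/
theorem Frame.lift_in_core (h : Hyp z Q) (i : Fin 5) {s : A5} (hs : s * s = 1) (hs1 : s ≠ 1)
    (hsi : (s : Perm (Fin 5)) i = i) :
    ∃ c : Subgroup.centralizer ({z} : Set G), F.π c = s ∧ Commute (c : G) (F.u i) ∧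
      ((c : G) * c = 1 ∨ (c : G) * c = F.u i) := by
  haveI : Fact (Nat.Prime 2) := ⟨Nat.prime_two⟩
  set w := F.u i with hw
  obtain ⟨g, hg⟩ := isConj_iff.1 (F.isConj_core h (F.mem i) (F.sq i) (F.ne_one i))
  have h' : Hyp w (Q.map (MulAut.conj g).toMonoidHom) := by
    have := h.conj g
    rwa [hg] at this
  set Qw := Q.map (MulAut.conj g).toMonoidHom
  obtain ⟨F'⟩ := exists_frame h'
  -- `z` lies in the core at `w`
  obtain ⟨v, hv, hvi, hv0, hvE⟩ := plain_at i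
  obtain ⟨q, hq, rfl⟩ := F.vec_surj hv
  have hqq := F.sq_eq_z hq hv0 hvE
  have hqw : Commute q w := F.vec_eq_zero_iff.1 hvi
  have hzQ : z ∈ Qw := by
    have hq2 : (cen w hqw) * (cen w hqw) * ((cen w hqw) * (cen w hqw)) = 1 := Subtype.ext (by
      show q * q * (q * q) = 1
      rw [hqq, F.S.xt.sq])
    have h4 := a5_four (F'.π (cen w hqw)) (by rw [← map_mul, ← map_mul, hq2, map_one])
    rw [← map_mul, F'.ker] at h4
    change q * q ∈ Qw at h4
    rwa [hqq] at h4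
  set D : Subgroup G := Qw ⊓ Subgroup.centralizer ({z} : Set G)
  have hD16 : Nat.card D = 16 := HallJankoPairs.card_centralizer_in F'.S F'.card hzQ F.S.xt.ne (fun e => F.ne_z i e.symm)
  have hDw : ∀ {x : G}, x ∈ D → Commute x w := fun {x} hx => F'.cen_Q hx.1
  -- some element of `D` is outside `Q`
  obtain ⟨d, hd, hdQ⟩ : ∃ d ∈ D, d ∉ Q := by
    by_contra! hall
    have h16 := HallJankoPairs.card_centralizer_in F.S F.card (F.mem i) (F.ne_one i) (F.ne_z i)
    have hle : D ≤ Q ⊓ Subgroup.centralizer ({w} : Set G) := fun x hx =>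
      ⟨hall x hx, Subgroup.mem_centralizer_singleton_iff.2 (hDw hx).eq⟩
    have heq : D = Q ⊓ Subgroup.centralizer ({w} : Set G) :=
      Subgroup.eq_of_le_of_card_ge hle (by rw [hD16, h16])
    have hqD : q ∈ D := heq.ge ⟨hq, Subgroup.mem_centralizer_singleton_iff.2 hqw.eq⟩
    rcases F'.S.sq q hqD.1 with e | e <;> rw [hqq] at e
    · exact F.S.xt.ne e
    · exact F.ne_z i e.symm
  have hdz : Commute d z := mem_cent.1 hd.2
  have hd2 : ∀ {x : G}, x ∈ D → x * x = 1 ∨ x * x = w := fun {x} hx => F'.S.sq x hx.1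
  have hsq : ∀ (x : Subgroup.centralizer ({z} : Set G)), (x : G) ∈ D → F.π x * F.π x = 1 := fun x hx => by
    rw [← map_mul, F.ker]
    rcases hd2 hx with e | e <;> rw [Subgroup.coe_mul, e]
    · exact Q.one_mem
    · exact F.mem i
  have hg1 : F.π (cen z hdz) ≠ 1 := fun e => hdQ ((F.ker _).1 e)
  obtain ⟨hh, hhi, hhs⟩ := a5_stab_conj i _ (F.fix_of_commute (c := cen z hdz) (hDw hd)) (hsq _ hd) hg1 s hsi hs hs1
  obtain ⟨c, rfl, hcw⟩ := F.lift i hhi
  have hcD : (c : G) * d * (c : G)⁻¹ ∈ D :=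
    ⟨F'.S.norm c hcw d hd.1, mem_cent.2 ((c * cen z hdz * c⁻¹ : Subgroup.centralizer ({z} : Set G)) |> F.comm_z)⟩
  exact ⟨c * cen z hdz * c⁻¹, by rw [map_mul, map_mul, map_inv, hhs], hDw hcD, hd2 hcD⟩

/-- two elements over the same involution with squares in `⟨z, u i⟩` -/
theorem Frame.fix_core {c c' : Subgroup.centralizer ({z} : Set G)} {s : A5} (hs : s * s = 1) (hs1 : s ≠ 1)
    {i : Fin 5} (hsi : (s : Perm (Fin 5)) i = i) (hc : F.π c = s) (hc' : F.π c' = s) (hcc : (c : G) * c ∈ Q)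
    (hv : F.vec ((c : G) * c) = 0 ∨ F.vec ((c : G) * c) = E i)
    (hv' : F.vec ((c' : G) * c') = 0 ∨ F.vec ((c' : G) * c') = E i) : Commute ((c : G)⁻¹ * c') (F.u i) := by
  set q := (c : G)⁻¹ * c' with hq
  have hqQ : q ∈ Q := (F.ker (c⁻¹ * c')).1 (by rw [map_mul, map_inv, hc, hc', inv_mul_cancel])
  have e : (c' : G) * c' = (c : G) * c * (((c⁻¹ : Subgroup.centralizer ({z} : Set G)) : G) * q *
      ((c⁻¹ : Subgroup.centralizer ({z} : Set G)) : G)⁻¹) * q := by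
    rw [hq, Subgroup.coe_inv]; group
  have hπ : F.π c⁻¹ = s := by rw [map_inv, hc, inv_eq_of_mul_eq_one_right hs]
  have hcq : ((c⁻¹ : Subgroup.centralizer ({z} : Set G)) : G) * q *
      ((c⁻¹ : Subgroup.centralizer ({z} : Set G)) : G)⁻¹ ∈ Q := F.S.norm _ (F.comm_z c⁻¹) q hqQ
  rw [e, F.vec_mul (Q.mul_mem hcc hcq) hqQ, F.vec_mul hcc hcq, F.vconj _ hqQ, hπ, add_assoc] at hv'
  refine F.vec_eq_zero_iff.1 (fix_aux s hs hs1 i hsi _ (F.vec_facts.1 q hqQ) ?_)
  rcases hv with e1 | e1 <;> rw [e1] at hv'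
  · rwa [zero_add] at hv'
  · rcases hv' with e2 | e2
    · exact Or.inr (add_eq_zero_iff'.1 e2).symm
    · exact Or.inl (add_eq_left.1 e2)

section Invol

variable {t : G} (htz : Commute t z) (htt : t * t = 1) (htQ : t ∉ Q)
include htt htQ

theorem Frame.pi_inv : F.π (cen z htz) * F.π (cen z htz) = 1 ∧ F.π (cen z htz) ≠ 1 := by
  refine ⟨?_, fun e => htQ ((F.ker _).1 e)⟩
  rw [← map_mul, show cen z htz * cen z htz = 1 from Subtype.ext htt, map_one]

include htz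

theorem Frame.vconj_inv {q : G} (hq : q ∈ Q) : F.vec (t * q * t) = actv (F.π (cen z htz)) (F.vec q) := by
  have h := F.vconj (cen z htz) hq
  show F.vec (t * q * t) = _
  rw [← h]
  show F.vec (t * q * t) = F.vec (t * q * t⁻¹)
  rw [inv_eq_of_mul_eq_one_right htt]

/-- the elements with fixed vector are inverted, indeed they are commutators with `t` -/
theorem Frame.commutator_of_fixed {q : G} (hq : q ∈ Q) (hfix : actv (F.π (cen z htz)) (F.vec q) = F.vec q) :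
    ∃ r ∈ Q, t * r * t * r⁻¹ = q := by
  obtain ⟨hs, hs1⟩ := Frame.pi_inv (F := F) htz htt htQ
  have hti : t⁻¹ = t := inv_eq_of_mul_eq_one_right htt
  have hnormt : ∀ {r : G}, r ∈ Q → t * r * t ∈ Q := fun {r} hr => by
    have := F.S.norm t htz r hr; rwa [hti] at this
  have hvv : ∀ {r : G}, r ∈ Q → F.vec (t * r * t * r⁻¹) = actv (F.π (cen z htz)) (F.vec r) + F.vec r := fun {r} hr => by
    rw [F.vec_mul (hnormt hr) (Q.inv_mem hr), F.vconj_inv htz htt htQ hr, F.vec_inv hr]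
  obtain ⟨w, hw, hwq⟩ := fixed_is_comm _ hs hs1 _ (F.vec_facts.1 q hq) hfix
  obtain ⟨r, hr, rfl⟩ := F.vec_surj hw
  rcases F.vec_eq hq (Q.mul_mem (hnormt hr) (Q.inv_mem hr)) (hwq.symm.trans (hvv hr).symm) with e | e
  · exact ⟨r, hr, e.symm⟩
  obtain ⟨v, hv, hvf, hv0, hvE⟩ := fixed_plain _ hs hs1
  obtain ⟨p, hp, rfl⟩ := F.vec_surj hv
  have hpp := F.sq_eq_z hp hv0 hvE
  obtain ⟨w', hw', hwp⟩ := fixed_is_comm _ hs hs1 _ (F.vec_facts.1 p hp) hvf
  obtain ⟨r₁, hr₁, rfl⟩ := F.vec_surj hw'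
  have hkey : ∀ {r₁ : G}, r₁ ∈ Q → t * (t * r₁ * t * r₁⁻¹) * t = (t * r₁ * t * r₁⁻¹)⁻¹ := fun _ => comm_inverted htt _
  have hpinv : t * p * t = p⁻¹ := by
    rcases F.vec_eq hp (Q.mul_mem (hnormt hr₁) (Q.inv_mem hr₁)) (hwp.symm.trans (hvv hr₁).symm) with e' | e'
    · rw [e']; exact hkey hr₁
    · rw [e', show t * (t * r₁ * t * r₁⁻¹ * z) * t = t * (t * r₁ * t * r₁⁻¹) * (z * t) by group, ← htz.eq,
        ← mul_assoc, hkey hr₁, mul_inv_rev (t * r₁ * t * r₁⁻¹) z, inv_eq_of_mul_eq_one_right F.S.xt.sq]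
      exact ((F.S.xt.cen _ (Q.inv_mem (Q.mul_mem (hnormt hr₁) (Q.inv_mem hr₁)))).eq).symm
  refine ⟨r * p, Q.mul_mem hr hp, ?_⟩
  have hpz : t * p * t * p⁻¹ = z := by
    rw [hpinv, ← mul_inv_rev, hpp, inv_eq_of_mul_eq_one_right F.S.xt.sq]
  calc t * (r * p) * t * (r * p)⁻¹ = t * r * (t * t) * p * t * (p⁻¹ * r⁻¹) := by rw [htt]; group
    _ = t * r * t * (t * p * t * p⁻¹) * r⁻¹ := by group
    _ = t * r * t * (z * r⁻¹) := by rw [hpz]; group
    _ = t * r * t * (r⁻¹ * z) := by rw [(F.S.xt.cen _ (Q.inv_mem hr)).eq]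
    _ = q := by rw [e]; group

theorem Frame.inverted {q : G} (hq : q ∈ Q) (hfix : actv (F.π (cen z htz)) (F.vec q) = F.vec q) :
    t * q * t = q⁻¹ := by
  obtain ⟨r, -, rfl⟩ := F.commutator_of_fixed htz htt htQ hq hfix
  exact comm_inverted htt r

theorem Frame.conj_in_coset {t' : G} (ht'z : Commute t' z) (ht't' : t' * t' = 1)
    (heq : F.π (cen z htz) = F.π (cen z ht'z)) : ∃ r ∈ Q, r * t * r⁻¹ = t' := by
  have hq : t * t' ∈ Q := (F.ker (cen z htz * cen z ht'z)).1 (by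
    rw [map_mul, ← heq, (Frame.pi_inv (F := F) htz htt htQ).1])
  have hfix : actv (F.π (cen z htz)) (F.vec (t * t')) = F.vec (t * t') := by
    rw [← F.vconj_inv htz htt htQ hq, show t * (t * t') * t = (t * t')⁻¹ by
      rw [mul_inv_rev, inv_eq_of_mul_eq_one_right htt, inv_eq_of_mul_eq_one_right ht't', ← mul_assoc t, htt, one_mul],
      F.vec_inv hq]
  obtain ⟨r, hr, e⟩ := F.commutator_of_fixed htz htt htQ hq hfix
  refine ⟨r, hr, mul_left_cancel (a := t) ?_⟩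
  rw [← e]; group

/-- an involution outside the core centralizes the class it fixes -/
theorem Frame.commute_fixed (h : Hyp z Q) {i : Fin 5} (hi : (F.π (cen z htz) : Perm (Fin 5)) i = i) :
    Commute t (F.u i) := by
  obtain ⟨hs, hs1⟩ := Frame.pi_inv (F := F) htz htt htQ
  obtain ⟨c, hc, hcu, hcc⟩ := F.lift_in_core h i hs hs1 hi
  have hccQ : (c : G) * c ∈ Q := by rcases hcc with e | e <;> rw [e]; exacts [Q.one_mem, F.mem i]
  have h1 : Commute ((c : G)⁻¹ * t) (F.u i) := by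
    refine F.fix_core (c' := cen z htz) hs hs1 hi hc rfl hccQ ?_ (Or.inl ?_)
    · rcases hcc with e | e <;> rw [e]
      exacts [Or.inl F.vec_one, Or.inr (F.vec_u i)]
    · show F.vec (t * t) = 0
      rw [htt, F.vec_one]
  simpa using hcu.mul_left h1

end Invol

end FrameLemmas

theorem conj_outer (h : Hyp z Q) {t t' : G} (htz : Commute t z) (htt : t * t = 1) (htQ : t ∉ Q)
    (ht'z : Commute t' z) (ht't' : t' * t' = 1) (ht'Q : t' ∉ Q) :
    ∃ c : G, Commute c z ∧ c * t * c⁻¹ = t' := by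
  obtain ⟨F⟩ := exists_frame h
  obtain ⟨hs, hs1⟩ := Frame.pi_inv (F := F) htz htt htQ
  obtain ⟨hs', hs1'⟩ := Frame.pi_inv (F := F) ht'z ht't' ht'Q
  obtain ⟨g, hg⟩ := a5_inv_conj _ hs hs1 _ hs' hs1'
  obtain ⟨c, rfl⟩ := F.surj g
  have hc1 : Commute ((c : G) * t * (c : G)⁻¹) z := (c * cen z htz * c⁻¹ : Subgroup.centralizer ({z} : Set G)) |> F.comm_z
  have hc2 : (c : G) * t * (c : G)⁻¹ * ((c : G) * t * (c : G)⁻¹) = 1 := by
    rw [conj_mul, htt, mul_one, mul_inv_cancel]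
  have hc3 : (c : G) * t * (c : G)⁻¹ ∉ Q := fun e => htQ (by
    have := F.S.norm _ (F.comm_z c⁻¹) _ e
    simpa [mul_assoc] using this)
  obtain ⟨r, hr, e⟩ := F.conj_in_coset hc1 hc2 hc3 ht'z ht't' (by
    rw [show cen z hc1 = c * cen z htz * c⁻¹ from rfl, map_mul, map_mul, map_inv, hg])
  exact ⟨r * c, (F.cen_Q hr).mul_left (F.comm_z c), by rw [← e]; group⟩

/-- every involution commutes with a conjugate of `z`, or of `t` -/
theorem dicho (h : Hyp z Q) {t : G} (htz : Commute t z) (htt : t * t = 1) (htQ : t ∉ Q)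
    {x : G} (hxx : x * x = 1) (hx1 : x ≠ 1) :
    IsConj z x ∨ IsConj t x ∨ ∃ g : G, Commute (g * x * g⁻¹) t := by
  classical
  by_cases hzx : IsConj z x
  · exact Or.inl hzx
  right
  obtain ⟨hw1, hww, hwx, hwz⟩ := InvFour.mid_spec hxx h.S.xt.sq fun e => hzx e.symm
  set w := InvFour.mid x z
  by_cases hwQ : w ∈ Q
  · obtain ⟨g, hg⟩ := isConj_iff.1 (core_conj h hwQ hww hw1).symm
    have hgx : Commute (g * x * g⁻¹) z := by
      rw [← hg]; exact (Commute.conj_iff g).2 (show Commute x w from hwx.symm)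
    have hgx2 : g * x * g⁻¹ * (g * x * g⁻¹) = 1 := by rw [conj_mul, hxx, mul_one, mul_inv_cancel]
    by_cases hgQ : g * x * g⁻¹ ∈ Q
    · exact absurd ((core_conj h hgQ hgx2 fun e => hx1 (conj_eq_one_iff.1 e)).trans
        (isConj_iff.2 ⟨g⁻¹, by group⟩)) hzx
    · obtain ⟨c, -, hc⟩ := conj_outer h htz htt htQ hgx hgx2 hgQ
      exact Or.inl (isConj_iff.2 ⟨g⁻¹ * c, by
        rw [show g⁻¹ * c * t * (g⁻¹ * c)⁻¹ = g⁻¹ * (c * t * c⁻¹) * g by group, hc]; group⟩)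
  · obtain ⟨c, -, hc⟩ := conj_outer h (show Commute w z from hwz) hww hwQ htz htt htQ
    exact Or.inr ⟨c, by rw [← hc]; exact (Commute.conj_iff c).2 (show Commute x w from hwx.symm)⟩

theorem exists_outer (h : Hyp z Q) : ∃ t : G, Commute t z ∧ t * t = 1 ∧ t ∉ Q := by
  classical
  by_contra! hall
  obtain ⟨x, y, hx, hy, hxy⟩ := h.cl
  have key : ∀ w : G, orderOf w = 2 → IsConj z w := by
    intro w hw
    obtain ⟨hww, hw1⟩ := HallJankoPairs.ord_two hw
    by_contra hzw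
    obtain ⟨hm1, hmm, hmw, hmz⟩ := InvFour.mid_spec hww h.S.xt.sq fun e => hzw e.symm
    obtain ⟨g, hg⟩ := isConj_iff.1 (core_conj h (hall _ hmz hmm) hmm hm1).symm
    have h1 : Commute (g * w * g⁻¹) z := by
      rw [← hg]; exact (Commute.conj_iff g).2 (show Commute w _ from hmw.symm)
    have h2 : g * w * g⁻¹ * (g * w * g⁻¹) = 1 := by rw [conj_mul, hww, mul_one, mul_inv_cancel]
    exact hzw ((core_conj h (hall _ h1 h2) h2 fun e => hw1 (conj_eq_one_iff.1 e)).trans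
      (isConj_iff.2 ⟨g⁻¹, by group⟩))
  exact hxy ((key x hx).symm.trans (key y hy))

theorem outer_not_conj (h : Hyp z Q) {t : G} (htz : Commute t z) (htt : t * t = 1) (htQ : t ∉ Q) :
    ¬ IsConj z t := by
  intro hc
  obtain ⟨x, y, hx, hy, hxy⟩ := h.cl
  have key : ∀ w : G, orderOf w = 2 → IsConj z w := by
    intro w hw
    obtain ⟨hww, hw1⟩ := HallJankoPairs.ord_two hw
    rcases dicho h htz htt htQ hww hw1 with e | e | ⟨g, hg⟩
    · exact e
    · exact hc.trans e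
    · obtain ⟨k, hk⟩ := isConj_iff.1 hc.symm
      have h1 : Commute (k * (g * w * g⁻¹) * k⁻¹) z := by
        rw [← hk]; exact (Commute.conj_iff k).2 hg
      have h2 : k * (g * w * g⁻¹) * k⁻¹ * (k * (g * w * g⁻¹) * k⁻¹) = 1 := by
        rw [conj_mul, conj_mul, hww]; group
      have h3 : IsConj z (k * (g * w * g⁻¹) * k⁻¹) := by
        by_cases hQ : k * (g * w * g⁻¹) * k⁻¹ ∈ Q
        · exact core_conj h hQ h2 fun e => hw1 (conj_eq_one_iff.1 (conj_eq_one_iff.1 e))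
        · obtain ⟨c, -, hc'⟩ := conj_outer h htz htt htQ h1 h2 hQ
          exact hc.trans (isConj_iff.2 ⟨c, hc'⟩)
      exact h3.trans (isConj_iff.2 ⟨(k * g)⁻¹, by group⟩)
  exact hxy ((key x hx).symm.trans (key y hy))

theorem mem_core_iff (h : Hyp z Q) {x : G} (hxz : Commute x z) (hxx : x * x = 1) (hx1 : x ≠ 1) :
    x ∈ Q ↔ IsConj z x :=
  ⟨fun hx => core_conj h hx hxx hx1, fun hc => by_contra fun hx => outer_not_conj h hxz hxx hx hc⟩

end Cfsg.Agent.Lie.HJType
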