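import Mathlib
import Cfsg.Agent.Lib.Lie.HJType.Outer

/-!
Groups of Hall–Janko type: the centralizer of an outer involution in `C(z)`, and the counts in `C(z)`.
-/

set_option autoImplicit false
set_option linter.style.haveILetI false
set_option linter.unusedSectionVars false
set_option linter.constructorNameAsVariable false

namespace Cfsg.Agent.Lie.HJType

open Equiv

universe u

local notation "A5" => alternatingGroup (Fin 5)

variable {G : Type u} [Group G] [Finite G] {z : G} {Q : Subgroup G}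

theorem hyp_at (h : Hyp z Q) {w : G} (hw : IsConj z w) : ∃ Q' : Subgroup G, Hyp w Q' := by
  obtain ⟨g, rfl⟩ := isConj_iff.1 hw
  exact ⟨_, h.conj g⟩

theorem not_mem_at (h : Hyp z Q) {t : G} (htz : Commute t z) (htt : t * t = 1) (htQ : t ∉ Q)
    {w : G} (hw : IsConj z w) {Q' : Subgroup G} (h' : Hyp w Q') : t ∉ Q' := fun ht =>
  outer_not_conj h htz htt htQ (hw.trans (core_conj h' ht htt fun e => htQ (e ▸ Q.one_mem)))

section FrameLemmas

variable (F : Frame z Q) {t : G} (htz : Commute t z) (htt : t * t = 1) (htQ : t ∉ Q)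
include F htz htt htQ

theorem Frame.exists_fixed : ∃ i, (F.π (cen z htz) : Perm (Fin 5)) i = i :=
  (a5_fix _ (F.pi_inv htz htt htQ).1 (F.pi_inv htz htt htQ).2).imp fun _ h => h.1

variable {i : Fin 5} (hi : (F.π (cen z htz) : Perm (Fin 5)) i = i)
include hi

theorem Frame.cent_core {q : G} (hq : q ∈ Q) (hqt : Commute q t) :
    q = 1 ∨ q = z ∨ q = F.u i ∨ q = F.u i * z := by
  have e0 : t * q * t = q := by rw [← hqt.eq, mul_assoc, htt, mul_one]
  have hfix : actv (F.π (cen z htz)) (F.vec q) = F.vec q := by rw [← F.vconj_inv htz htt htQ hq, e0]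
  have hinv := F.inverted htz htt htQ hq hfix
  rw [e0] at hinv
  have hqq : q * q = 1 := mul_eq_one_iff_eq_inv.2 hinv
  rcases F.all q hq hqq with e | e | ⟨j, e⟩
  · exact Or.inl e
  · exact Or.inr (Or.inl e)
  have hv : F.vec q = E j := by
    rcases e with e | e <;> rw [e]
    · exact F.vec_u j
    · rw [F.vec_mul (F.mem j) F.S.xt.mem, F.vec_z, add_zero, F.vec_u]
  rw [hv, act_E] at hfix
  obtain ⟨i', -, huniq⟩ := a5_fix _ (F.pi_inv htz htt htQ).1 (F.pi_inv htz htt htQ).2
  have hji : j = i := (huniq j (E_injective hfix)).trans (huniq i hi).symm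
  subst hji
  rcases e with e | e
  · exact Or.inr (Or.inr (Or.inl e))
  · exact Or.inr (Or.inr (Or.inr e))

theorem Frame.core_cent_of (h : Hyp z Q) {q : G} (hq : q = 1 ∨ q = z ∨ q = F.u i ∨ q = F.u i * z) :
    q ∈ Q ∧ Commute q t ∧ q * q = 1 := by
  have hu : Commute (F.u i) t := (F.commute_fixed htz htt htQ h hi).symm
  rcases hq with rfl | rfl | rfl | rfl
  · exact ⟨Q.one_mem, Commute.one_left t, one_mul 1⟩
  · exact ⟨F.S.xt.mem, htz.symm, F.S.xt.sq⟩
  · exact ⟨F.mem i, hu, F.sq i⟩
  · exact ⟨Q.mul_mem (F.mem i) F.S.xt.mem, hu.mul_left htz.symm, by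
      rw [(F.S.xt.cen _ (F.mem i)).mul_mul_mul_comm, F.sq, F.S.xt.sq, one_mul]⟩

theorem Frame.over_cent (h : Hyp z Q) {c : Subgroup.centralizer ({z} : Set G)} (hct : Commute (c : G) t)
    (hcQ : (c : G) ∉ Q) :
    ∃ t' : Subgroup.centralizer ({z} : Set G), (t' : G) * t' = 1 ∧ (t' : G) ∉ Q ∧ F.π t' = F.π c ∧
      F.π c * F.π c = 1 ∧ F.π c ≠ 1 ∧ (F.π c : Perm (Fin 5)) i = i ∧ Commute (t' : G) (F.u i) := by
  obtain ⟨hs, hs1⟩ := F.pi_inv htz htt htQ
  have hg1 : F.π c ≠ 1 := fun e => hcQ ((F.ker c).1 e)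
  obtain ⟨hgg, hgfix⟩ := a5_comm _ hs hs1 (F.π c) (by
    rw [← map_mul, ← map_mul]; exact congrArg F.π (Subtype.ext hct.eq))
  obtain ⟨k, hk⟩ := a5_inv_conj _ hs hs1 _ hgg hg1
  obtain ⟨k, rfl⟩ := F.surj k
  have htt' : ((k * cen z htz * k⁻¹ : Subgroup.centralizer ({z} : Set G)) : G) *
      (k * cen z htz * k⁻¹ : Subgroup.centralizer ({z} : Set G)) = 1 := by
    show (k : G) * t * (k : G)⁻¹ * ((k : G) * t * (k : G)⁻¹) = 1
    rw [conj_mul, htt, mul_one, mul_inv_cancel]
  have hπ : F.π (k * cen z htz * k⁻¹) = F.π c := by rw [map_mul, map_mul, map_inv, hk]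
  have hQ' : ((k * cen z htz * k⁻¹ : Subgroup.centralizer ({z} : Set G)) : G) ∉ Q := fun e =>
    hg1 (hπ ▸ (F.ker _).2 e)
  refine ⟨_, htt', hQ', hπ, hgg, hg1, hgfix i hi, ?_⟩
  refine F.commute_fixed (F.comm_z _) htt' hQ' h ?_
  show (F.π (k * cen z htz * k⁻¹) : Perm (Fin 5)) i = i
  rw [hπ]; exact hgfix i hi

theorem Frame.cent_sq_mem (h : Hyp z Q) {c : Subgroup.centralizer ({z} : Set G)} (hct : Commute (c : G) t) :
    (c : G) * c = 1 ∨ (c : G) * c = z ∨ (c : G) * c = F.u i ∨ (c : G) * c = F.u i * z := by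
  refine F.cent_core htz htt htQ hi ?_ (hct.mul_left hct)
  by_cases hcQ : (c : G) ∈ Q
  · exact Q.mul_mem hcQ hcQ
  · obtain ⟨t', -, -, -, hgg, -, -, -⟩ := F.over_cent htz htt htQ hi h hct hcQ
    exact (F.ker (c * c)).1 (by rw [map_mul, hgg])

theorem Frame.cent_comm_u (h : Hyp z Q) {c : Subgroup.centralizer ({z} : Set G)} (hct : Commute (c : G) t) :
    Commute (c : G) (F.u i) := by
  by_cases hcQ : (c : G) ∈ Q
  · rcases F.cent_core htz htt htQ hi hcQ hct with e | e | e | e <;> rw [e]
    · exact Commute.one_left _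
    · exact F.S.xt.cen _ (F.mem i)
    · exact (Commute.refl (F.u i)).mul_left (F.S.xt.cen _ (F.mem i))
  · obtain ⟨t', ht't', -, hπ, hgg, hg1, hgi, ht'u⟩ := F.over_cent htz htt htQ hi h hct hcQ
    have hcc := F.cent_sq_mem htz htt htQ hi h hct
    have h1 : Commute ((c : G)⁻¹ * t') (F.u i) := by
      refine F.fix_core (c' := t') hgg hg1 hgi rfl hπ ((F.ker (c * c)).1 (by rw [map_mul, hgg])) ?_
        (Or.inl (by rw [ht't', F.vec_one]))
      rcases hcc with e | e | e | e <;> rw [e]
      · exact Or.inl F.vec_one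
      · exact Or.inl F.vec_z
      · exact Or.inr (F.vec_u i)
      · exact Or.inr (by rw [F.vec_mul (F.mem i) F.S.xt.mem, F.vec_z, add_zero, F.vec_u])
    have h2 : Commute ((c : G)⁻¹ * t' * (t' : G)⁻¹) (F.u i) := h1.mul_left ht'u.inv_left
    simpa using h2

theorem Frame.sq_ne (h : Hyp z Q) {c : Subgroup.centralizer ({z} : Set G)} (hct : Commute (c : G) t) :
    (c : G) * c ≠ z := by
  intro hcz
  by_cases hcQ : (c : G) ∈ Q
  · have := (F.core_cent_of htz htt htQ hi h (F.cent_core htz htt htQ hi hcQ hct)).2.2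
    exact F.S.xt.ne (hcz.symm.trans this)
  obtain ⟨t', ht't', ht'Q, hπ, hgg, -, -, -⟩ := F.over_cent htz htt htQ hi h hct hcQ
  have ht'z := F.comm_z t'
  set q := (t' : G) * c with hq
  have hqQ : q ∈ Q := (F.ker (t' * c)).1 (by rw [map_mul, hπ, hgg])
  have hc : (c : G) = t' * q := by rw [hq, ← mul_assoc, ht't', one_mul]
  have e : (t' : G) * q * t' * q = z := (show _ = (c : G) * c by rw [hc]; group).trans hcz
  have hn : (t' : G) * q * t' ∈ Q := by
    have := F.S.norm _ ht'z q hqQ
    rwa [inv_eq_of_mul_eq_one_right ht't'] at this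
  have hv : actv (F.π (cen z ht'z)) (F.vec q) + F.vec q = 0 := by
    rw [← F.vconj_inv ht'z ht't' ht'Q hqQ, ← F.vec_mul hn hqQ, e, F.vec_z]
  rw [F.inverted ht'z ht't' ht'Q hqQ (add_eq_zero_iff'.1 hv), inv_mul_cancel] at e
  exact F.S.xt.ne e.symm

end FrameLemmas

theorem sq_ne_center (h : Hyp z Q) {t c : G} (htz : Commute t z) (htt : t * t = 1) (htQ : t ∉ Q)
    (hcz : Commute c z) (hct : Commute c t) : c * c ≠ z := by
  obtain ⟨F⟩ := exists_frame h
  obtain ⟨i, hi⟩ := F.exists_fixed htz htt htQ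
  exact F.sq_ne htz htt htQ hi h (c := cen z hcz) hct

/-- `C(z) ∩ C(t)` is elementary abelian -/
theorem inter_sq (h : Hyp z Q) {t : G} (htz : Commute t z) (htt : t * t = 1) (htQ : t ∉ Q)
    {c : G} (hcz : Commute c z) (hct : Commute c t) : c * c = 1 := by
  obtain ⟨F⟩ := exists_frame h
  obtain ⟨i, hi⟩ := F.exists_fixed htz htt htQ
  have hcu : Commute c (F.u i) := F.cent_comm_u htz htt htQ hi h (c := cen z hcz) hct
  have htu := F.commute_fixed htz htt htQ h hi
  have other : ∀ w : G, w ∈ Q → w * w = 1 → w ≠ 1 → Commute c w → Commute t w → c * c ≠ w := by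
    intro w hw hww hw1 hcw htw
    have hzw := F.isConj_core h hw hww hw1
    obtain ⟨Q', h'⟩ := hyp_at h hzw
    exact sq_ne_center h' htw htt (not_mem_at h htz htt htQ hzw h') hcw hct
  rcases F.cent_sq_mem htz htt htQ hi h (c := cen z hcz) hct with e | e | e | e <;> change c * c = _ at e
  · exact e
  · exact absurd e (sq_ne_center h htz htt htQ hcz hct)
  · exact absurd e (other _ (F.mem i) (F.sq i) (F.ne_one i) hcu htu)
  · exact absurd e (other _ (Q.mul_mem (F.mem i) F.S.xt.mem)
      (F.core_cent_of htz htt htQ hi h (Or.inr (Or.inr (Or.inr rfl)))).2.2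
      (fun e' => F.ne_z i (by rw [mul_eq_one_iff_eq_inv.1 e', inv_eq_of_mul_eq_one_right F.S.xt.sq]))
      (hcu.mul_right hcz) (htu.mul_right htz))

theorem inter_card (h : Hyp z Q) {t : G} (htz : Commute t z) (htt : t * t = 1) (htQ : t ∉ Q) :
    Nat.card ↥(Subgroup.centralizer ({t} : Set G) ⊓ Subgroup.centralizer ({z} : Set G)) = 16 := by
  classical
  obtain ⟨F⟩ := exists_frame h
  obtain ⟨i, hi⟩ := F.exists_fixed htz htt htQ
  set H := Subgroup.centralizer ({z} : Set G)
  set A := (Subgroup.centralizer ({t} : Set G)).subgroupOf H with hA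
  have hmem : ∀ {c : H}, c ∈ A ↔ Commute (c : G) t := fun {c} => Subgroup.mem_centralizer_singleton_iff
  rw [show Subgroup.centralizer ({t} : Set G) ⊓ H = A.map H.subtype by rw [hA, Subgroup.subgroupOf_map_subtype],
    Subgroup.card_map_of_injective H.subtype_injective]
  set φ : A →* A5 := F.π.comp A.subtype with hφ
  have hker : Nat.card φ.ker = 4 := by
    have h4 : ({1, z, F.u i, F.u i * z} : Finset G).card = 4 := by
      have e1 : F.u i * z ≠ 1 := fun e' => F.ne_z i (by
        rw [mul_eq_one_iff_eq_inv.1 e', inv_eq_of_mul_eq_one_right F.S.xt.sq])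
      have e2 : F.u i * z ≠ z := fun e' => F.ne_one i (mul_eq_right.1 e')
      have e3 : F.u i * z ≠ F.u i := fun e' => F.S.xt.ne (mul_eq_left.1 e')
      rw [Finset.card_insert_of_notMem, Finset.card_insert_of_notMem, Finset.card_pair e3.symm]
      · simp [(F.ne_z i).symm, e2.symm]
      · simp [F.S.xt.ne.symm, (F.ne_one i).symm, e1.symm]
    rw [← h4, ← Nat.card_eq_finsetCard]
    refine Nat.card_congr
      { toFun := fun x => ⟨((x : A) : H), ?_⟩
        invFun := fun y => ⟨⟨⟨y, mem_cent.2 (F.cen_Q ?_)⟩, hmem.2 ?_⟩, ?_⟩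
        left_inv := fun x => Subtype.ext (Subtype.ext (Subtype.ext rfl))
        right_inv := fun y => Subtype.ext rfl }
    · have := F.cent_core htz htt htQ hi ((F.ker _).1 x.2) (hmem.1 x.1.2)
      simpa using this
    · exact (F.core_cent_of htz htt htQ hi h (by have := y.2; simp only [Finset.mem_insert, Finset.mem_singleton] at this; exact this)).1
    · exact (F.core_cent_of htz htt htQ hi h (by have := y.2; simp only [Finset.mem_insert, Finset.mem_singleton] at this; exact this)).2.1
    · exact (F.ker _).2 (F.core_cent_of htz htt htQ hi h (by have := y.2; simp only [Finset.mem_insert, Finset.mem_singleton] at this; exact this)).1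
  have hrange : Nat.card φ.range = 4 := by
    obtain ⟨hs, hs1⟩ := F.pi_inv htz htt htQ
    rw [← a5_cent_card _ hs hs1, ← Nat.card_eq_fintype_card]
    refine Nat.card_congr (Equiv.subtypeEquivRight fun g => ⟨?_, fun hg => ?_⟩)
    · rintro ⟨c, rfl⟩
      show F.π c * F.π (cen z htz) = F.π (cen z htz) * F.π c
      rw [← map_mul, ← map_mul]
      exact congrArg F.π (Subtype.ext (hmem.1 c.2).eq)
    · obtain ⟨c, rfl⟩ := F.surj g
      have hc1 : Commute ((c : G) * t * (c : G)⁻¹) z := F.comm_z (c * cen z htz * c⁻¹)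
      have hπ : F.π (cen z hc1) = F.π (cen z htz) := by
        rw [show cen z hc1 = c * cen z htz * c⁻¹ from rfl, map_mul, map_mul, map_inv, hg, mul_inv_cancel_right]
      obtain ⟨r, hr, e⟩ := F.conj_in_coset htz htt htQ hc1 (by rw [conj_mul, htt, mul_one, mul_inv_cancel]) hπ.symm
      refine ⟨⟨(cen z (F.cen_Q hr))⁻¹ * c, hmem.2 ?_⟩, ?_⟩
      · show Commute (r⁻¹ * (c : G)) t
        refine mul_inv_eq_iff_eq_mul.1 ?_
        rw [show r⁻¹ * (c : G) * t * (r⁻¹ * (c : G))⁻¹ = r⁻¹ * ((c : G) * t * (c : G)⁻¹) * r by group, ← e]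
        group
      · show F.π ((cen z (F.cen_Q hr))⁻¹ * c) = _
        rw [map_mul, map_inv, F.pi_Q hr, inv_one, one_mul]
  rw [← φ.ker.card_mul_index, Subgroup.index_ker, hker, hrange]

theorem card_cent (h : Hyp z Q) : Nat.card ↥(Subgroup.centralizer ({z} : Set G)) = 1920 := by
  obtain ⟨F⟩ := exists_frame h
  have h60 : Nat.card F.π.range = 60 := by
    rw [Nat.card_congr (Equiv.subtypeUnivEquiv fun x => MonoidHom.mem_range.2 (F.surj x)),
      nat_card_alternatingGroup, Nat.card_fin]
    rfl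
  have hk : Nat.card F.π.ker = 32 := by
    rw [← F.card]
    exact Nat.card_congr
      { toFun := fun c => ⟨c, (F.ker c).1 c.2⟩
        invFun := fun q => ⟨cen z (F.cen_Q q.2), F.pi_Q q.2⟩
        left_inv := fun c => rfl
        right_inv := fun q => rfl }
  rw [← F.π.ker.card_mul_index, Subgroup.index_ker, hk, h60]

theorem outer_card (h : Hyp z Q) {t : G} (htz : Commute t z) (htt : t * t = 1) (htQ : t ∉ Q) :
    Nat.card {x : G // Commute x z ∧ x * x = 1 ∧ x ∉ Q} = 120 := by
  set H := Subgroup.centralizer ({z} : Set G)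
  letI : MulAction H {x : G // Commute x z ∧ x * x = 1 ∧ x ∉ Q} :=
    { smul := fun c x => ⟨(c : G) * x * (c : G)⁻¹, ((mem_cent.1 c.2).mul_left x.2.1).mul_left (mem_cent.1 c.2).inv_left,
        by rw [conj_mul, x.2.2.1, mul_one, mul_inv_cancel], fun e => x.2.2.2 (by
          have := h.S.norm _ (mem_cent.1 c.2).inv_left _ e
          simpa [mul_assoc] using this)⟩
      one_smul := fun x => Subtype.ext (show ((1 : H) : G) * x * ((1 : H) : G)⁻¹ = x by simp)
      mul_smul := fun a b x => Subtype.ext (show ((a * b : H) : G) * x * ((a * b : H) : G)⁻¹ =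
        (a : G) * ((b : G) * x * (b : G)⁻¹) * (a : G)⁻¹ by simp [mul_assoc]) }
  haveI : MulAction.IsPretransitive H {x : G // Commute x z ∧ x * x = 1 ∧ x ∉ Q} := ⟨fun x y => by
    obtain ⟨c, hc, e⟩ := conj_outer h x.2.1 x.2.2.1 x.2.2.2 y.2.1 y.2.2.1 y.2.2.2
    exact ⟨⟨c, mem_cent.2 hc⟩, Subtype.ext e⟩⟩
  set T : {x : G // Commute x z ∧ x * x = 1 ∧ x ∉ Q} := ⟨t, htz, htt, htQ⟩
  have h16 : Nat.card (MulAction.stabilizer H T) = 16 := by
    rw [← inter_card h htz htt htQ]
    exact Nat.card_congr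
      { toFun := fun c => ⟨((c : H) : G), Subgroup.mem_centralizer_singleton_iff.2
          (mul_inv_eq_iff_eq_mul.1 (congrArg Subtype.val c.2 :)), c.1.2⟩
        invFun := fun c => ⟨⟨c, c.2.2⟩, Subtype.ext
          (show (c : G) * t * (c : G)⁻¹ = t by rw [Subgroup.mem_centralizer_singleton_iff.1 c.2.1, mul_inv_cancel_right])⟩
        left_inv := fun c => rfl
        right_inv := fun c => rfl }
  have h1 := (MulAction.stabilizer H T).card_mul_index
  rw [MulAction.index_stabilizer_of_transitive H T, h16, card_cent h] at h1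
  omega

/-- the conjugates of `z` commuting with it -/
theorem class_inter (h : Hyp z Q) (F : Frame z Q) {x : G} (hx : IsConj z x) (hxz : Commute x z) :
    x = z ∨ ∃ i, x = F.u i ∨ x = F.u i * z := by
  obtain ⟨g, hg⟩ := isConj_iff.1 hx
  have hxx : x * x = 1 := by rw [← hg, conj_mul, F.S.xt.sq, mul_one, mul_inv_cancel]
  have hx1 : x ≠ 1 := fun e => F.S.xt.ne (conj_eq_one_iff.1 (hg.trans e))
  rcases F.all x ((mem_core_iff h hxz hxx hx1).2 hx) hxx with e | e | e
  · exact absurd e hx1
  · exact Or.inl e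
  · exact Or.inr e

theorem Frame.u_inj (F : Frame z Q) {i j : Fin 5} (h : F.u i = F.u j ∨ F.u i = F.u j * z) : i = j := by
  rcases h with e | e
  · exact F.nc i j (e ▸ Commute.refl _)
  · exact F.nc i j (e ▸ (Commute.refl _).mul_left (F.S.xt.cen _ (F.mem j)))

/-- the ten noncentral involutions of the core -/
noncomputable def Frame.invs (F : Frame z Q) : Finset G :=
  haveI := Classical.decEq G
  Finset.univ.image fun p : Fin 5 × Bool => if p.2 then F.u p.1 else F.u p.1 * z

theorem Frame.mem_invs (F : Frame z Q) {x : G} : x ∈ F.invs ↔ ∃ i, x = F.u i ∨ x = F.u i * z := by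
  classical
  simp only [Frame.invs, Finset.mem_image, Finset.mem_univ, true_and]
  constructor
  · rintro ⟨⟨i, b⟩, rfl⟩
    cases b
    · exact ⟨i, Or.inr rfl⟩
    · exact ⟨i, Or.inl rfl⟩
  · rintro ⟨i, rfl | rfl⟩
    · exact ⟨(i, true), rfl⟩
    · exact ⟨(i, false), rfl⟩

theorem Frame.invs_card (F : Frame z Q) : F.invs.card = 10 := by
  classical
  rw [Frame.invs, Finset.card_image_of_injective, Finset.card_univ]
  · rfl
  rintro ⟨i, b⟩ ⟨j, b'⟩ e
  obtain rfl : i = j := by
    cases b <;> cases b' <;> simp only [Bool.false_eq_true, if_false, if_true] at e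
    · exact F.u_inj (Or.inl (mul_right_cancel e))
    · exact (F.u_inj (Or.inr e.symm)).symm
    · exact F.u_inj (Or.inr e)
    · exact F.u_inj (Or.inl e)
  cases b <;> cases b' <;> simp only [Bool.false_eq_true, if_false, if_true] at e
  · rfl
  · exact absurd e (fun e => F.S.xt.ne (mul_eq_left.1 e))
  · exact absurd e.symm (fun e => F.S.xt.ne (mul_eq_left.1 e))
  · rfl

set_option maxHeartbeats 800000 in
theorem pairs_z (h : Hyp z Q) {t : G} (htz : Commute t z) (htt : t * t = 1) (htQ : t ∉ Q) :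
    Nat.card {p : G × G // IsConj z p.1 ∧ IsConj t p.2 ∧ z ∈ Subgroup.zpowers (p.1 * p.2)} = 960 := by
  classical
  haveI : Fintype G := Fintype.ofFinite G
  obtain ⟨F⟩ := exists_frame h
  have hzz := F.S.xt.sq
  have hzt := outer_not_conj h htz htt htQ
  let I := F.invs
  let Vs : Finset G := Finset.univ.filter fun v => Commute v z ∧ v * v = 1 ∧ v ∉ Q
  have hVs : Vs.card = 120 := by
    rw [← outer_card h htz htt htQ, Nat.card_eq_fintype_card, Fintype.card_subtype]
  have hIQ : ∀ {u : G}, u ∈ I → u ∈ Q ∧ u * u = 1 ∧ u ≠ 1 := by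
    intro u hu
    obtain ⟨i, rfl | rfl⟩ := F.mem_invs.1 hu
    · exact ⟨F.mem i, F.sq i, F.ne_one i⟩
    · exact ⟨Q.mul_mem (F.mem i) F.S.xt.mem, by
        rw [(F.S.xt.cen _ (F.mem i)).mul_mul_mul_comm, F.sq, hzz, one_mul],
        fun e => F.ne_z i (by rw [mul_eq_one_iff_eq_inv.1 e, inv_eq_of_mul_eq_one_right hzz])⟩
  have hper : ∀ v ∈ Vs, (I.filter fun u => ¬ Commute u v).card = 8 := by
    intro v hv
    obtain ⟨hvz, hvv, hvQ⟩ := (Finset.mem_filter.1 hv).2
    obtain ⟨i, hi⟩ := F.exists_fixed hvz hvv hvQ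
    have hsub : (I.filter fun u => Commute u v) = {F.u i, F.u i * z} := by
      ext u
      simp only [Finset.mem_filter, Finset.mem_insert, Finset.mem_singleton]
      refine ⟨fun ⟨hu, huv⟩ => ?_, fun hu => ?_⟩
      · rcases F.cent_core hvz hvv hvQ hi (hIQ hu).1 huv with e | e | e | e
        · exact absurd e (hIQ hu).2.2
        · obtain ⟨j, hj | hj⟩ := F.mem_invs.1 hu
          · exact absurd (hj.symm.trans e) (F.ne_z j)
          · exact absurd (mul_eq_right.1 (hj.symm.trans e)) (F.ne_one j)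
        · exact Or.inl e
        · exact Or.inr e
      · exact ⟨F.mem_invs.2 ⟨i, hu⟩, (F.core_cent_of hvz hvv hvQ hi h
          (hu.elim (fun e => Or.inr (Or.inr (Or.inl e))) fun e => Or.inr (Or.inr (Or.inr e)))).2.1⟩
    have hsum := Finset.card_filter_add_card_filter_not (s := I) (fun u => Commute u v)
    rw [hsub, Finset.card_pair (fun e => F.S.xt.ne (left_eq_mul.1 e)), F.invs_card] at hsum
    omega
  have hinv : ∀ {x y : G}, IsConj x y → x * x = 1 → x ≠ 1 → y * y = 1 ∧ y ≠ 1 := by
    intro x y hc hx hx1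
    obtain ⟨g, rfl⟩ := isConj_iff.1 hc
    exact ⟨by rw [conj_mul, hx, mul_one, mul_inv_cancel], fun e => hx1 (conj_eq_one_iff.1 e)⟩
  have ht1 : t ≠ 1 := fun e => htQ (e ▸ Q.one_mem)
  have hpairs : Nat.card {p : G × G // IsConj z p.1 ∧ IsConj t p.2 ∧ z ∈ Subgroup.zpowers (p.1 * p.2)} =
      (Vs.sigma fun v => I.filter fun u => ¬ Commute u v).card := by
    rw [← Fintype.card_coe, ← Nat.card_eq_fintype_card]
    refine Nat.card_congr (Equiv.ofBijective (fun p => ⟨⟨p.1.2, p.1.1⟩, ?_⟩) ⟨?_, ?_⟩)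
    · obtain ⟨⟨u, v⟩, hu, hv, hmem⟩ := p
      dsimp only at hu hv hmem ⊢
      obtain ⟨huu, hu1⟩ := hinv hu hzz F.S.xt.ne
      obtain ⟨hvv, hv1⟩ := hinv hv htt ht1
      obtain ⟨hcu, hcv⟩ := HallJankoPairs.commute_of_mem huu hvv hzz hmem
      have hvQ : v ∉ Q := fun h' => hzt ((core_conj h h' hvv hv1).trans hv.symm)
      have hncomm : ¬ Commute u v := by
        intro hc
        obtain ⟨j, hj⟩ := Subgroup.mem_zpowers_iff.1 hmem
        have h2 : (u * v) ^ (2 : ℤ) = 1 := by
          rw [zpow_ofNat, sq, hc.symm.mul_mul_mul_comm, huu, hvv, one_mul]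
        obtain ⟨m, rfl | rfl⟩ := Int.even_or_odd' j
        · rw [zpow_mul, h2, one_zpow] at hj
          exact F.S.xt.ne hj.symm
        · rw [zpow_add, zpow_mul, h2, one_zpow, one_mul, zpow_one] at hj
          refine hvQ ?_
          rw [eq_inv_mul_of_mul_eq hj]
          exact Q.mul_mem (Q.inv_mem ((mem_core_iff h hcu huu hu1).2 hu)) F.S.xt.mem
      refine Finset.mem_sigma.2 ⟨Finset.mem_filter.2 ⟨Finset.mem_univ _, hcv, hvv, hvQ⟩,
        Finset.mem_filter.2 ⟨F.mem_invs.2 ((class_inter h F hu hcu).resolve_left fun e => hncomm ?_), hncomm⟩⟩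
      show Commute u v
      rw [show u = z from e]; exact hcv.symm
    · rintro ⟨⟨u, v⟩, hh⟩ ⟨⟨u', v'⟩, hh'⟩ e
      have e' := congrArg (fun x : ↥(Vs.sigma fun v => I.filter fun u => ¬ Commute u v) => ((x : Σ _ : G, G).1, (x : Σ _ : G, G).2)) e
      simp only [Prod.mk.injEq] at e'
      obtain ⟨rfl, rfl⟩ := e'
      rfl
    · rintro ⟨⟨v, u⟩, hh⟩
      obtain ⟨hv, hu'⟩ := Finset.mem_sigma.1 hh
      obtain ⟨hu, hncomm⟩ := Finset.mem_filter.1 hu'
      change u ∈ I at hu
      obtain ⟨huQ, huu, hu1⟩ := hIQ hu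
      obtain ⟨hvz, hvv, hvQ⟩ := (Finset.mem_filter.1 hv).2
      obtain ⟨c, -, hc⟩ := conj_outer h htz htt htQ hvz hvv hvQ
      refine ⟨⟨(u, v), core_conj h huQ huu hu1, isConj_iff.2 ⟨c, hc⟩, ?_⟩, rfl⟩
      have hvi : v⁻¹ = v := inv_eq_of_mul_eq_one_right hvv
      set u' := v * u * v⁻¹ with hu'
      have hu'Q : u' ∈ Q := F.S.norm v hvz u huQ
      have hu'u' : u' * u' = 1 := by rw [hu', conj_mul, huu, mul_one, mul_inv_cancel]
      have hne : u' ≠ u := fun e => hncomm (mul_inv_eq_iff_eq_mul.1 e).symm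
      have hsq : (u * v) * (u * v) = u * u' := by rw [hu', hvi]; group
      by_cases hcu : Commute u u'
      · refine Subgroup.mem_zpowers_iff.2 ⟨2, ?_⟩
        rw [zpow_ofNat, sq, hsq]
        have hp : u * u' * (u * u') = 1 := by rw [hcu.symm.mul_mul_mul_comm, huu, hu'u', one_mul]
        have huj := F.mem_invs.1 hu
        obtain ⟨i, hi⟩ := huj
        have hiu : Commute (F.u i) u := by
          rcases hi with rfl | rfl
          · exact Commute.refl _
          · exact (Commute.refl _).mul_right (F.cen_Q (F.mem i))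
        have hu'1 : u' ≠ 1 := fun e => hu1 (conj_eq_one_iff.1 e)
        have hu'z : u' ≠ z := fun e => by
          refine hncomm ?_
          have : u = v⁻¹ * z * v := by rw [← e, hu']; group
          rw [this, hvi, hvz.eq, mul_assoc, hvv, mul_one]
          exact hvz.symm
        rcases F.all u' hu'Q hu'u' with e | e | ⟨j, e⟩
        · exact absurd e hu'1
        · exact absurd e hu'z
        have huz' : Commute u z := F.cen_Q huQ
        have hij : i = j := by
          refine F.nc i j ?_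
          have c1 : Commute (F.u i) u' := by
            rcases hi with e' | e'
            · rw [← e']; exact hcu
            · have : F.u i = u * z := by rw [e', mul_assoc, hzz, mul_one]
              rw [this]; exact hcu.mul_left (F.cen_Q hu'Q).symm
          rcases e with e | e
          · rw [← e]; exact c1
          · have : F.u j = u' * z := by rw [e, mul_assoc, hzz, mul_one]
            rw [this]; exact c1.mul_right (F.cen_Q (F.mem i))
        subst hij
        have : u' = u * z := by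
          rcases hi with e' | e' <;> rcases e with e | e
          · exact absurd (e.trans e'.symm) hne
          · rw [e, e']
          · rw [e, e', mul_assoc, hzz, mul_one]
          · exact absurd (e.trans e'.symm) hne
        rw [this, ← mul_assoc, huu, one_mul]
      · refine Subgroup.mem_zpowers_iff.2 ⟨4, ?_⟩
        rw [show (4 : ℤ) = ((2 * 2 : ℕ) : ℤ) from rfl, zpow_natCast, pow_mul, sq, sq, hsq]
        calc u * u' * (u * u') = u * (u' * u) * u' := by group
          _ = u * (u * u' * z) * u' := by rw [CentTransfer.moved F.S hu'Q huQ fun hh => hcu hh.symm]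
          _ = u * u * (u' * (z * u')) := by group
          _ = u * u * (u' * (u' * z)) := by rw [(F.S.xt.cen u' hu'Q).eq]
          _ = (u * u) * (u' * u') * z := by group
          _ = z := by rw [huu, hu'u', one_mul, one_mul]
  rw [hpairs, Finset.card_sigma, Finset.sum_congr rfl hper, Finset.sum_const, hVs, smul_eq_mul]

set_option maxHeartbeats 800000 in
theorem class_bound (h : Hyp z Q) : 91 ≤ Nat.card {x : G // IsConj z x} := by
  classical
  haveI : Fintype G := Fintype.ofFinite G
  obtain ⟨F⟩ := exists_frame h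
  have hzz := F.S.xt.sq
  let K : Finset G := Finset.univ.filter fun x => IsConj z x ∧ Commute x z
  have hmemI : ∀ {u : G}, u ∈ F.invs → u ∈ Q ∧ u * u = 1 ∧ u ≠ 1 ∧ u ≠ z := by
    intro u hu
    obtain ⟨i, rfl | rfl⟩ := F.mem_invs.1 hu
    · exact ⟨F.mem i, F.sq i, F.ne_one i, F.ne_z i⟩
    · exact ⟨Q.mul_mem (F.mem i) F.S.xt.mem, by
        rw [(F.S.xt.cen _ (F.mem i)).mul_mul_mul_comm, F.sq, hzz, one_mul],
        fun e => F.ne_z i (by rw [mul_eq_one_iff_eq_inv.1 e, inv_eq_of_mul_eq_one_right hzz]),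
        fun e => F.ne_one i (mul_eq_right.1 e)⟩
  have hconjI : ∀ {u : G}, u ∈ F.invs → IsConj z u := fun hu =>
    F.isConj_core h (hmemI hu).1 (hmemI hu).2.1 (hmemI hu).2.2.1
  have hKeq : K = insert z F.invs := by
    ext x
    rw [Finset.mem_filter, Finset.mem_insert]
    refine ⟨fun hx => (class_inter h F hx.2.1 hx.2.2).imp_right F.mem_invs.2, ?_⟩
    rintro (rfl | hu)
    · exact ⟨Finset.mem_univ _, IsConj.refl _, Commute.refl _⟩
    · exact ⟨Finset.mem_univ _, hconjI hu, F.cen_Q (hmemI hu).1⟩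
  have hK : K.card = 11 := by
    rw [hKeq, Finset.card_insert_of_notMem, F.invs_card]
    exact fun hz => (hmemI hz).2.2.2 rfl
  let X : G → Finset G := fun u => Finset.univ.filter fun x => IsConj z x ∧ Commute x u ∧ ¬ Commute x z
  have hX : ∀ u ∈ F.invs, 8 ≤ (X u).card := by
    intro u hu
    obtain ⟨g, hg⟩ := isConj_iff.1 (hconjI hu)
    obtain ⟨i, hi⟩ := F.mem_invs.1 hu
    have hsub : K.image (fun x => g * x * g⁻¹) ⊆ X u ∪ {z, F.u i, F.u i * z} := by
      intro y hy
      obtain ⟨x, hx, rfl⟩ := Finset.mem_image.1 hy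
      obtain ⟨-, hxc, hxz⟩ := Finset.mem_filter.1 hx
      have h1 : IsConj z (g * x * g⁻¹) := hxc.trans (isConj_iff.2 ⟨g, rfl⟩)
      have h2 : Commute (g * x * g⁻¹) u := hg ▸ (Commute.conj_iff g).2 hxz
      by_cases h3 : Commute (g * x * g⁻¹) z
      · refine Finset.mem_union_right _ ?_
        simp only [Finset.mem_insert, Finset.mem_singleton]
        rcases class_inter h F h1 h3 with e | ⟨j, e⟩
        · exact Or.inl e
        obtain rfl : j = i := by
          refine F.nc j i ?_
          have c1 : Commute (F.u j) u := by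
            rcases e with e' | e'
            · rw [← e']; exact h2
            · have : F.u j = g * x * g⁻¹ * z := by rw [e', mul_assoc, hzz, mul_one]
              rw [this]; exact h2.mul_left (F.cen_Q (hmemI hu).1).symm
          rcases hi with e' | e'
          · rw [← e']; exact c1
          · have : F.u i = u * z := by rw [e', mul_assoc, hzz, mul_one]
            rw [this]; exact c1.mul_right (F.cen_Q (F.mem j))
        exact Or.inr e
      · exact Finset.mem_union_left _ (Finset.mem_filter.2 ⟨Finset.mem_univ _, h1, h2, h3⟩)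
    have hle := (Finset.card_le_card hsub).trans (Finset.card_union_le _ _)
    rw [Finset.card_image_of_injective _ (fun a b e => mul_left_cancel (mul_right_cancel e)), hK] at hle
    have : ({z, F.u i, F.u i * z} : Finset G).card ≤ 3 := Finset.card_le_three
    omega
  have hdisj : ∀ u ∈ F.invs, ∀ u' ∈ F.invs, u ≠ u' → Disjoint (X u) (X u') := by
    intro u hu u' hu' hne
    rw [Finset.disjoint_left]
    intro x hx hx'
    obtain ⟨-, -, hxu, hnz⟩ := Finset.mem_filter.1 hx
    obtain ⟨-, -, hxu', -⟩ := Finset.mem_filter.1 hx'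
    obtain ⟨huQ, huu, -, -⟩ := hmemI hu
    obtain ⟨hu'Q, hu'u', -, -⟩ := hmemI hu'
    refine hnz ?_
    by_cases hc : Commute u u'
    · obtain ⟨i, hi⟩ := F.mem_invs.1 hu
      obtain ⟨j, hj⟩ := F.mem_invs.1 hu'
      have hij : i = j := by
        refine F.nc i j ?_
        have c1 : Commute (F.u i) u' := by
          rcases hi with e' | e'
          · rw [← e']; exact hc
          · have : F.u i = u * z := by rw [e', mul_assoc, hzz, mul_one]
            rw [this]; exact hc.mul_left (F.cen_Q hu'Q).symm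
        rcases hj with e | e
        · rw [← e]; exact c1
        · have : F.u j = u' * z := by rw [e, mul_assoc, hzz, mul_one]
          rw [this]; exact c1.mul_right (F.cen_Q (F.mem i))
      subst hij
      have : u * u' = z := by
        rcases hi with e' | e' <;> rcases hj with e | e
        · exact absurd (e'.trans e.symm) hne
        · rw [e, e', ← mul_assoc, F.sq, one_mul]
        · rw [e, e', mul_assoc, (F.S.xt.cen _ (F.mem i)).eq, ← mul_assoc, F.sq, one_mul]
        · exact absurd (e'.trans e.symm) hne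
      rw [← this]; exact hxu.mul_right hxu'
    · have hsq : u * u' * (u * u') = z := by
        calc u * u' * (u * u') = u * (u' * u) * u' := by group
          _ = u * (u * u' * z) * u' := by rw [CentTransfer.moved F.S hu'Q huQ fun hh => hc hh.symm]
          _ = u * u * (u' * (z * u')) := by group
          _ = u * u * (u' * (u' * z)) := by rw [(F.S.xt.cen u' hu'Q).eq]
          _ = (u * u) * (u' * u') * z := by group
          _ = z := by rw [huu, hu'u', one_mul, one_mul]
      rw [← hsq]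
      exact (hxu.mul_right hxu').mul_right (hxu.mul_right hxu')
  rw [Nat.card_eq_fintype_card, Fintype.card_subtype]
  refine le_trans ?_ (Finset.card_le_card (show K ∪ F.invs.biUnion X ⊆ _ from ?_))
  · rw [Finset.card_union_of_disjoint, hK, Finset.card_biUnion hdisj]
    · have := Finset.card_nsmul_le_sum F.invs (fun u => (X u).card) 8 hX
      rw [F.invs_card, smul_eq_mul] at this
      omega
    · rw [Finset.disjoint_left]
      intro x hx hx'
      obtain ⟨u, -, hu⟩ := Finset.mem_biUnion.1 hx'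
      exact (Finset.mem_filter.1 hu).2.2.2 (Finset.mem_filter.1 hx).2.2
  · intro x hx
    refine Finset.mem_filter.2 ⟨Finset.mem_univ _, ?_⟩
    rcases Finset.mem_union.1 hx with e | e
    · exact (Finset.mem_filter.1 e).2.1
    · obtain ⟨u, -, hu⟩ := Finset.mem_biUnion.1 e
      exact (Finset.mem_filter.1 hu).2.1

end Cfsg.Agent.Lie.HJType
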