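import Mathlib
import Cfsg.Agent.Lib.Lie.HJType.Counts
import Cfsg.Agent.Lib.Fusion.TransferPow
import Cfsg.Agent.S0213
import Cfsg.Agent.S2119

/-!
Groups of Hall–Janko type: the centralizer of the second involution and the group order.
-/

set_option autoImplicit false
set_option linter.style.haveILetI false
set_option linter.unusedSectionVars false
set_option linter.constructorNameAsVariable false

namespace Cfsg.Agent.Lie.HJType

open Equiv

universe u

local notation "A5" => alternatingGroup (Fin 5)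

theorem perm_four : ∀ f : Perm (Fin 4), f * f * f = 1 → ∀ a b : Fin 4, a ≠ b → f a = a → f b = b → f = 1 := by
  decide +kernel

theorem a5_center : ∀ g : A5, (∀ h : A5, g * h = h * g) → g = 1 := by decide +kernel

variable {G : Type u} [Group G] [Finite G] {z : G} {Q : Subgroup G}

theorem conj_three (g x : G) : g * (g * (g * x * g⁻¹) * g⁻¹) * g⁻¹ = g ^ 3 * x * (g ^ 3)⁻¹ := by
  rw [pow_succ, pow_two]; group

theorem card_class (w : G) :
    Nat.card {x : G // IsConj w x} * Nat.card ↥(Subgroup.centralizer ({w} : Set G)) = Nat.card G := by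
  set C := Subgroup.centralizer ({w} : Set G)
  have h : Nat.card (G ⧸ C) = Nat.card {x : G // IsConj w x} := by
    refine Nat.card_congr (Equiv.ofBijective (fun q => ⟨q.out * w * q.out⁻¹, isConj_iff.2 ⟨q.out, rfl⟩⟩) ⟨?_, ?_⟩)
    · intro q q' e
      have e' : q.out * w * q.out⁻¹ = q'.out * w * q'.out⁻¹ := congrArg Subtype.val e
      rw [← QuotientGroup.out_eq' q, ← QuotientGroup.out_eq' q', QuotientGroup.eq]
      refine mem_cent.2 (mul_inv_eq_iff_eq_mul.1 ?_)
      rw [show q.out⁻¹ * q'.out * w * (q.out⁻¹ * q'.out)⁻¹ = q.out⁻¹ * (q'.out * w * q'.out⁻¹) * q.out by group, ← e']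
      group
    · rintro ⟨x, hx⟩
      obtain ⟨g, rfl⟩ := isConj_iff.1 hx
      obtain ⟨c, hc⟩ := QuotientGroup.mk_out_eq_mul C g
      refine ⟨QuotientGroup.mk g, Subtype.ext ?_⟩
      show (QuotientGroup.mk g : G ⧸ C).out * w * (QuotientGroup.mk g : G ⧸ C).out⁻¹ = g * w * g⁻¹
      rw [hc, show g * (c : G) * w * (g * (c : G))⁻¹ = g * ((c : G) * w * (c : G)⁻¹) * g⁻¹ by group,
        (mem_cent.1 c.2).eq, mul_inv_cancel_right]
  rw [← h, ← C.index_eq_card, C.index_mul_card]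

/-- the three conjugates of `z` in `C(z) ∩ C(t)` -/
theorem three (h : Hyp z Q) {t : G} (htz : Commute t z) (htt : t * t = 1) (htQ : t ∉ Q) :
    ∃ a b : G, Commute a t ∧ Commute a z ∧ Commute b t ∧ Commute b z ∧ IsConj z a ∧ IsConj z b ∧
      z ≠ a ∧ z ≠ b ∧ a ≠ b ∧ z * a = b ∧
      ∀ x, Commute x t → Commute x z → IsConj z x → x = z ∨ x = a ∨ x = b := by
  obtain ⟨F⟩ := exists_frame h
  obtain ⟨i, hi⟩ := F.exists_fixed htz htt htQ
  have hu := F.core_cent_of htz htt htQ hi h (Or.inr (Or.inr (Or.inl rfl)))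
  have huz := F.core_cent_of htz htt htQ hi h (Or.inr (Or.inr (Or.inr rfl)))
  have hne : F.u i * z ≠ 1 := fun e => F.ne_z i (by
    rw [mul_eq_one_iff_eq_inv.1 e, inv_eq_of_mul_eq_one_right F.S.xt.sq])
  refine ⟨F.u i, F.u i * z, hu.2.1, F.cen_Q hu.1, huz.2.1, F.cen_Q huz.1, F.isConj_core h hu.1 hu.2.2 (F.ne_one i),
    F.isConj_core h huz.1 huz.2.2 hne, (F.ne_z i).symm, fun e => F.ne_one i (mul_eq_right.1 e.symm),
    fun e => F.S.xt.ne (left_eq_mul.1 e), (F.S.xt.cen _ (F.mem i)).eq, fun x hxt hxz hx => ?_⟩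
  obtain ⟨g, hg⟩ := isConj_iff.1 hx
  have hxx : x * x = 1 := by rw [← hg, conj_mul, F.S.xt.sq, mul_one, mul_inv_cancel]
  have hx1 : x ≠ 1 := fun e => F.S.xt.ne (conj_eq_one_iff.1 (hg.trans e))
  rcases F.cent_core htz htt htQ hi ((mem_core_iff h hxz hxx hx1).2 hx) hxt with e | e | e | e
  · exact absurd e hx1
  · exact Or.inl e
  · exact Or.inr (Or.inl e)
  · exact Or.inr (Or.inr e)

/-- `C(t) ∩ C(z)` as a subgroup -/
abbrev Aux (z t : G) : Subgroup G := Subgroup.centralizer ({t} : Set G) ⊓ Subgroup.centralizer ({z} : Set G)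

theorem mem_aux {z t x : G} : x ∈ Aux z t ↔ Commute x t ∧ Commute x z :=
  ⟨fun hx => ⟨mem_cent.1 hx.1, mem_cent.1 hx.2⟩, fun hx => ⟨mem_cent.2 hx.1, mem_cent.2 hx.2⟩⟩

section

variable (h : Hyp z Q) {t : G} (htz : Commute t z) (htt : t * t = 1) (htQ : t ∉ Q)
include h htz htt htQ

theorem aux_comm {x y : G} (hx : x ∈ Aux z t) (hy : y ∈ Aux z t) : Commute x y := by
  have key : ∀ {w : G}, w ∈ Aux z t → w⁻¹ = w := fun {w} hw =>
    inv_eq_of_mul_eq_one_right (inter_sq h htz htt htQ (mem_aux.1 hw).2 (mem_aux.1 hw).1)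
  calc x * y = (x * y)⁻¹ := (key ((Aux z t).mul_mem hx hy)).symm
    _ = y * x := by rw [mul_inv_rev, key hx, key hy]

theorem aux_fix {g w : G} (hg : Commute g t) (hwA : w ∈ Aux z t) (hw : IsConj z w) (hgw : Commute g w) :
    g ∈ Aux z t := by
  obtain ⟨Q', h'⟩ := hyp_at h hw
  have htw : Commute t w := (mem_aux.1 hwA).1.symm
  have h16 := inter_card h' htw htt (not_mem_at h htz htt htQ hw h')
  have hle : Aux z t ≤ Aux w t := fun x hx =>
    mem_aux.2 ⟨(mem_aux.1 hx).1, aux_comm h htz htt htQ hx hwA⟩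
  have heq : Aux z t = Aux w t :=
    Subgroup.eq_of_le_of_card_ge hle (by rw [h16, inter_card h htz htt htQ])
  exact heq.ge (mem_aux.2 ⟨hg, hgw⟩)

theorem aux_two_elt {g : G} (hg : Commute g t) (hn : ∀ x ∈ Aux z t, g * x * g⁻¹ ∈ Aux z t)
    {n : ℕ} (ho : orderOf g = 2 ^ n) : g ∈ Aux z t := by
  classical
  haveI : Fact (Nat.Prime 2) := ⟨Nat.prime_two⟩
  obtain ⟨a, b, hat, haz, hbt, hbz, hza, hzb, hne1, hne2, hne3, -, hall⟩ := three h htz htt htQ
  set W : Finset G := {z, a, b} with hW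
  have hWA : ∀ {w : G}, w ∈ W → w ∈ Aux z t ∧ IsConj z w := by
    intro w hw
    simp only [hW, Finset.mem_insert, Finset.mem_singleton] at hw
    rcases hw with rfl | rfl | rfl
    · exact ⟨mem_aux.2 ⟨htz.symm, Commute.refl _⟩, IsConj.refl _⟩
    · exact ⟨mem_aux.2 ⟨hat, haz⟩, hza⟩
    · exact ⟨mem_aux.2 ⟨hbt, hbz⟩, hzb⟩
  have hpow : ∀ k : ℤ, ∀ x ∈ Aux z t, g ^ k * x * (g ^ k)⁻¹ ∈ Aux z t := by
    have hN : g ∈ Subgroup.normalizer ((Aux z t : Subgroup G) : Set G) := by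
      rw [Subgroup.mem_normalizer_iff]
      refine fun x => ⟨hn x, fun hx => ?_⟩
      have hsurj := Finite.surjective_of_injective (f := fun y : Aux z t => (⟨g * y * g⁻¹, hn y y.2⟩ : Aux z t))
        (fun y y' e => Subtype.ext (mul_left_cancel (mul_right_cancel (congrArg Subtype.val e :))))
      obtain ⟨y, hy⟩ := hsurj ⟨_, hx⟩
      have : (y : G) = x := mul_left_cancel (mul_right_cancel (congrArg Subtype.val hy :))
      exact this ▸ y.2
    exact fun k x hx => (Subgroup.mem_normalizer_iff.1 (Subgroup.zpow_mem _ hN k) x).1 hx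
  have hpowW : ∀ k : ℤ, ∀ w ∈ W, g ^ k * w * (g ^ k)⁻¹ ∈ W := by
    intro k w hw
    have hm := hpow k w (hWA hw).1
    have := hall _ (mem_aux.1 hm).1 (mem_aux.1 hm).2 ((hWA hw).2.trans (isConj_iff.2 ⟨_, rfl⟩))
    simpa [hW] using this
  set P := Subgroup.zpowers g
  have hP : IsPGroup 2 P := IsPGroup.of_card (n := n) (by rw [Nat.card_zpowers, ho])
  letI : MulAction P W :=
    { smul := fun p w => ⟨(p : G) * w * (p : G)⁻¹, by
        obtain ⟨k, hk⟩ := Subgroup.mem_zpowers_iff.1 p.2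
        rw [← hk]; exact hpowW k w w.2⟩
      one_smul := fun w => Subtype.ext (show ((1 : P) : G) * w * ((1 : P) : G)⁻¹ = w by simp)
      mul_smul := fun p q w => Subtype.ext (show ((p * q : P) : G) * w * ((p * q : P) : G)⁻¹ =
        (p : G) * ((q : G) * w * (q : G)⁻¹) * (p : G)⁻¹ by simp [mul_assoc]) }
  have hW3 : Nat.card W = 3 := by
    rw [Nat.card_eq_finsetCard, hW, Finset.card_eq_three]
    exact ⟨z, a, b, hne1, hne2, hne3, rfl⟩
  obtain ⟨w, hw⟩ : (MulAction.fixedPoints P W).Nonempty :=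
    hP.nonempty_fixed_point_of_prime_not_dvd_card W (by rw [hW3]; norm_num)
  exact aux_fix h htz htt htQ hg (hWA w.2).1 (hWA w.2).2
    (mul_inv_eq_iff_eq_mul.1 (congrArg Subtype.val (hw ⟨g, Subgroup.mem_zpowers g⟩)))

/-- `C(t) ∩ C(z)` is a Sylow 2-subgroup of `C(t)` -/
theorem aux_sylow : ∃ P : Sylow 2 ↥(Subgroup.centralizer ({t} : Set G)),
    (P : Subgroup ↥(Subgroup.centralizer ({t} : Set G))) = (Aux z t).subgroupOf (Subgroup.centralizer ({t} : Set G)) := by
  haveI : Fact (Nat.Prime 2) := ⟨Nat.prime_two⟩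
  set H := Subgroup.centralizer ({t} : Set G)
  have hA : IsPGroup 2 ((Aux z t).subgroupOf H) := fun x => ⟨1, Subtype.ext (Subtype.ext (by
    rw [pow_one, sq]
    exact inter_sq h htz htt htQ (mem_aux.1 x.2).2 (mem_aux.1 x.2).1))⟩
  obtain ⟨P, hP⟩ := hA.exists_le_sylow
  refine ⟨P, (le_antisymm hP ?_).symm⟩
  haveI : Group.IsNilpotent (P : Subgroup H) := P.isPGroup'.isNilpotent
  by_contra hle
  have hlt : ((Aux z t).subgroupOf H).subgroupOf (P : Subgroup H) < ⊤ := lt_top_iff_ne_top.2 fun e => by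
    rw [Subgroup.subgroupOf_eq_top] at e
    exact hle e
  obtain ⟨y, hy, hyA⟩ := SetLike.exists_of_lt (Group.normalizerCondition_of_isNilpotent _ hlt)
  obtain ⟨n, hn⟩ := IsPGroup.iff_orderOf.1 P.isPGroup' y
  refine hyA ?_
  show ((y : H) : G) ∈ Aux z t
  refine aux_two_elt h htz htt htQ (mem_cent.1 (y : H).2) (fun x hx => ?_) (n := n)
    (by rw [Subgroup.orderOf_coe, Subgroup.orderOf_coe]; exact hn)
  have hxH : x ∈ H := hx.1
  have := (Subgroup.mem_normalizer_iff.1 hy ⟨⟨x, hxH⟩, hP (show (⟨x, hxH⟩ : H) ∈ _ from hx)⟩).1 hx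
  exact this

theorem aux_absorb {x : G} (hxt : Commute x t) (hxx : x * x = 1) :
    ∃ g : G, Commute g t ∧ g * x * g⁻¹ ∈ Aux z t := by
  haveI : Fact (Nat.Prime 2) := ⟨Nat.prime_two⟩
  set H := Subgroup.centralizer ({t} : Set G)
  obtain ⟨P, hP⟩ : ∃ P : Sylow 2 H, (P : Subgroup H) = (Aux z t).subgroupOf H := aux_sylow h htz htt htQ
  let xH : H := ⟨x, mem_cent.2 hxt⟩
  have hx2 : IsPGroup 2 (Subgroup.zpowers xH) := fun y => by
    obtain ⟨k, hk⟩ := Subgroup.mem_zpowers_iff.1 y.2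
    refine ⟨1, Subtype.ext ?_⟩
    rw [pow_one, Subgroup.coe_pow, ← hk, OneMemClass.coe_one, ← zpow_natCast, ← zpow_mul, mul_comm, zpow_mul,
      zpow_natCast, sq, show xH * xH = 1 from Subtype.ext hxx, one_zpow]
  obtain ⟨P', hP'⟩ := hx2.exists_le_sylow
  obtain ⟨g, hg⟩ := MulAction.exists_smul_eq H P' P
  refine ⟨(g : G), mem_cent.1 g.2, ?_⟩
  have hm : g * xH * g⁻¹ ∈ ((g • P' : Sylow 2 H) : Subgroup H) :=
    Subgroup.mem_map.2 ⟨xH, hP' (Subgroup.mem_zpowers xH), rfl⟩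
  rw [hg] at hm
  rw [hP] at hm
  exact hm

theorem two_classes {x : G} (hxx : x * x = 1) (hx1 : x ≠ 1) : IsConj z x ∨ IsConj t x := by
  rcases dicho h htz htt htQ hxx hx1 with e | e | ⟨g, hg⟩
  · exact Or.inl e
  · exact Or.inr e
  · have hy : g * x * g⁻¹ * (g * x * g⁻¹) = 1 := by rw [conj_mul, hxx, mul_one, mul_inv_cancel]
    obtain ⟨k, -, hk⟩ := aux_absorb h htz htt htQ hg hy
    have hw : k * (g * x * g⁻¹) * k⁻¹ * (k * (g * x * g⁻¹) * k⁻¹) = 1 := by
      rw [conj_mul, hy, mul_one, mul_inv_cancel]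
    have hback : IsConj (k * (g * x * g⁻¹) * k⁻¹) x := isConj_iff.2 ⟨(k * g)⁻¹, by group⟩
    by_cases hQ : k * (g * x * g⁻¹) * k⁻¹ ∈ Q
    · exact Or.inl ((core_conj h hQ hw fun e => hx1 (conj_eq_one_iff.1 (conj_eq_one_iff.1 e))).trans hback)
    · obtain ⟨c, -, hc⟩ := conj_outer h htz htt htQ (mem_aux.1 hk).2 hw hQ
      exact Or.inr ((isConj_iff.2 ⟨c, hc⟩ : IsConj t _).trans hback)

theorem order_formula : Nat.card G = 960 * Nat.card ↥(Subgroup.centralizer ({t} : Set G)) +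
    1920 * Nat.card {p : G × G // IsConj z p.1 ∧ IsConj t p.2 ∧ t ∈ Subgroup.zpowers (p.1 * p.2)} := by
  have hz : orderOf z = 2 := HallJankoPairs.ord_of h.S.xt.sq h.S.xt.ne
  have ht : orderOf t = 2 := HallJankoPairs.ord_of htt fun e => htQ (e ▸ Q.one_mem)
  rw [Cfsg.Agent.S0213.result z t hz ht (outer_not_conj h htz htt htQ) fun x hx =>
      two_classes h htz htt htQ (HallJankoPairs.ord_two hx).1 (HallJankoPairs.ord_two hx).2,
    pairs_z h htz htt htQ, card_cent h]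
  ring

/-- `C(t) ∩ C(z)` is not normal in `C(t)` -/
theorem aux_not_normal : ¬ ∀ g : G, Commute g t → ∀ x ∈ Aux z t, g * x * g⁻¹ ∈ Aux z t := by
  classical
  intro hn
  haveI : Fintype G := Fintype.ofFinite G
  obtain ⟨a, b, hat, haz, hbt, hbz, hza, hzb, hne1, hne2, hne3, -, hall⟩ := three h htz htt htQ
  set H := Subgroup.centralizer ({t} : Set G)
  set W : Finset G := {z, a, b} with hW
  have hW3 : W.card ≤ 3 := Finset.card_le_three
  have hzA : z ∈ Aux z t := mem_aux.2 ⟨htz.symm, Commute.refl _⟩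
  -- the order of `H`
  have hH : Nat.card H ≤ 48 := by
    have hidx : (((Aux z t).subgroupOf H)).index ≤ 3 := by
      refine le_trans ?_ hW3
      rw [Subgroup.index_eq_card, ← Nat.card_eq_finsetCard]
      refine Nat.card_le_card_of_injective
        (fun q => (⟨((q.out : H) : G) * z * ((q.out : H) : G)⁻¹, ?_⟩ : W)) ?_
      · have hm := hn _ (mem_cent.1 (q.out : H).2) z hzA
        have := hall _ (mem_aux.1 hm).1 (mem_aux.1 hm).2 (isConj_iff.2 ⟨_, rfl⟩)
        simpa [hW] using this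
      · intro q q' e
        have e' : ((q.out : H) : G) * z * ((q.out : H) : G)⁻¹ = ((q'.out : H) : G) * z * ((q'.out : H) : G)⁻¹ :=
          congrArg Subtype.val e
        rw [← QuotientGroup.out_eq' q, ← QuotientGroup.out_eq' q', QuotientGroup.eq]
        refine ⟨(q.out⁻¹ * q'.out : H).2, mem_cent.2 (mul_inv_eq_iff_eq_mul.1 ?_)⟩
        show ((q.out : H) : G)⁻¹ * ((q'.out : H) : G) * z * (((q.out : H) : G)⁻¹ * ((q'.out : H) : G))⁻¹ = z
        rw [show ((q.out : H) : G)⁻¹ * ((q'.out : H) : G) * z * (((q.out : H) : G)⁻¹ * ((q'.out : H) : G))⁻¹ =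
          ((q.out : H) : G)⁻¹ * (((q'.out : H) : G) * z * ((q'.out : H) : G)⁻¹) * ((q.out : H) : G) by group, ← e']
        group
    rw [← ((Aux z t).subgroupOf H).card_mul_index,
      Nat.card_congr (Subgroup.subgroupOfEquivOfLe inf_le_left).toEquiv, inter_card h htz htt htQ]
    omega
  -- the pairs
  have hz1 := h.S.xt.ne
  have ht1 : t ≠ 1 := fun e => htQ (e ▸ Q.one_mem)
  have hpairs : Nat.card {p : G × G // IsConj z p.1 ∧ IsConj t p.2 ∧ t ∈ Subgroup.zpowers (p.1 * p.2)} ≤ 3 := by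
    refine le_trans ?_ hW3
    rw [← Nat.card_eq_finsetCard]
    have hinv : ∀ {x y : G}, IsConj x y → x * x = 1 → y * y = 1 := fun {x y} hc hx => by
      obtain ⟨g, rfl⟩ := isConj_iff.1 hc
      rw [conj_mul, hx, mul_one, mul_inv_cancel]
    have hin : ∀ {x : G}, Commute x t → x * x = 1 → x ∈ Aux z t := fun {x} hxt hxx => by
      obtain ⟨g, hg, hgx⟩ := aux_absorb h htz htt htQ hxt hxx
      have := hn g⁻¹ hg.inv_left _ hgx
      simpa [mul_assoc] using this
    have key : ∀ p : {p : G × G // IsConj z p.1 ∧ IsConj t p.2 ∧ t ∈ Subgroup.zpowers (p.1 * p.2)},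
        p.1.1 ∈ W ∧ p.1.2 = p.1.1 * t := by
      rintro ⟨⟨u, v⟩, hu, hv, hmem⟩
      dsimp only at hu hv hmem ⊢
      have huu := hinv hu h.S.xt.sq
      have hvv := hinv hv htt
      obtain ⟨hcu, hcv⟩ := HallJankoPairs.commute_of_mem huu hvv htt hmem
      have huA := hin hcu huu
      have hvA := hin hcv hvv
      refine ⟨by simpa [hW] using hall u hcu (mem_aux.1 huA).2 hu, ?_⟩
      have hc := aux_comm h htz htt htQ huA hvA
      obtain ⟨j, hj⟩ := Subgroup.mem_zpowers_iff.1 hmem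
      have h2 : (u * v) ^ (2 : ℤ) = 1 := by
        rw [zpow_ofNat, sq, hc.symm.mul_mul_mul_comm, huu, hvv, one_mul]
      obtain ⟨m, rfl | rfl⟩ := Int.even_or_odd' j
      · rw [zpow_mul, h2, one_zpow] at hj
        exact absurd hj.symm ht1
      · rw [zpow_add, zpow_mul, h2, one_zpow, one_mul, zpow_one] at hj
        rw [← hj, ← mul_assoc, huu, one_mul]
    refine Nat.card_le_card_of_injective (fun p => (⟨p.1.1, (key p).1⟩ : W)) fun p p' e => ?_
    have e' : p.1.1 = p'.1.1 := congrArg Subtype.val e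
    exact Subtype.ext (Prod.ext e' (by rw [(key p).2, (key p').2, e']))
  have h1 := card_class z
  rw [card_cent h, order_formula h htz htt htQ] at h1
  have h2 := class_bound h
  change Nat.card H ≤ 48 at hH
  change _ = 960 * Nat.card H + _ at h1
  omega

/-- odd-order subgroups normalised by `C(t)` are trivial -/
theorem odd_normal_trivial (M : Subgroup G) (hMH : ∀ m ∈ M, Commute m t)
    (hMn : ∀ g : G, Commute g t → ∀ m ∈ M, g * m * g⁻¹ ∈ M) (hodd : Odd (Nat.card M)) : M = ⊥ := by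
  classical
  obtain ⟨a, b, hat, haz, hbt, hbz, hza, hzb, hne1, hne2, hne3, hab, -⟩ := three h htz htt htQ
  have hfix : ∀ {w : G}, w ∈ Aux z t → IsConj z w → ∀ m ∈ M, Commute m w → m = 1 := by
    intro w hwA hw m hm hc
    have hmA := aux_fix h htz htt htQ (hMH m hm) hwA hw hc
    have h2 : m ^ 2 = 1 := by rw [sq]; exact inter_sq h htz htt htQ (mem_aux.1 hmA).2 (mem_aux.1 hmA).1
    have hd := Subgroup.orderOf_dvd_natCard M hm
    rcases (Nat.dvd_prime Nat.prime_two).1 (orderOf_dvd_of_pow_eq_one h2) with e | e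
    · exact orderOf_eq_one_iff.1 e
    · rw [e] at hd
      exact absurd hd (Nat.two_dvd_ne_zero.2 (Nat.odd_iff.1 hodd))
  have hinv : ∀ {w : G}, w ∈ Aux z t → IsConj z w → ∀ m ∈ M, w * m * w⁻¹ = m⁻¹ := by
    intro w hwA hw
    have hww : w * w = 1 := inter_sq h htz htt htQ (mem_aux.1 hwA).2 (mem_aux.1 hwA).1
    have hwi : w⁻¹ = w := inv_eq_of_mul_eq_one_right hww
    have hf : ∀ m ∈ M, m⁻¹ * (w * m * w⁻¹) ∈ M := fun m hm =>
      M.mul_mem (M.inv_mem hm) (hMn w (mem_aux.1 hwA).1 m hm)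
    let f : M → M := fun m => ⟨(m : G)⁻¹ * (w * m * w⁻¹), hf m m.2⟩
    have hinj : Function.Injective f := by
      intro m n e
      have e' : (m : G)⁻¹ * (w * m * w⁻¹) = (n : G)⁻¹ * (w * n * w⁻¹) := congrArg Subtype.val e
      have hc : Commute ((n : G) * (m : G)⁻¹) w := by
        refine (mul_inv_eq_iff_eq_mul.1 ?_ : (w * ((n : G) * (m : G)⁻¹)) = _).symm
        calc w * ((n : G) * (m : G)⁻¹) * w⁻¹ = (n : G) * ((n : G)⁻¹ * (w * n * w⁻¹)) * (w * (m : G)⁻¹ * w⁻¹) := by group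
          _ = (n : G) * ((m : G)⁻¹ * (w * m * w⁻¹)) * (w * (m : G)⁻¹ * w⁻¹) := by rw [e']
          _ = (n : G) * (m : G)⁻¹ := by group
      have := hfix hwA hw _ (M.mul_mem n.2 (M.inv_mem m.2)) hc
      exact Subtype.ext (mul_inv_eq_one.1 this).symm
    intro m hm
    obtain ⟨n, hn⟩ := Finite.surjective_of_injective hinj ⟨m, hm⟩
    have hn' : (n : G)⁻¹ * (w * n * w⁻¹) = m := congrArg Subtype.val hn
    rw [← hn', hwi, mul_inv_rev, mul_inv_rev, mul_inv_rev, inv_inv, hwi,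
      show w * ((n : G)⁻¹ * (w * n * w)) * w = w * (n : G)⁻¹ * w * n * (w * w) by group, hww, mul_one]
    simp only [mul_assoc]
  rw [Subgroup.eq_bot_iff_forall]
  intro m hm
  have hzA : z ∈ Aux z t := mem_aux.2 ⟨htz.symm, Commute.refl _⟩
  refine hfix (mem_aux.2 ⟨hbt, hbz⟩) hzb m hm ?_
  refine (mul_inv_eq_iff_eq_mul.1 ?_ : b * m = m * b).symm
  rw [← hab, show z * a * m * (z * a)⁻¹ = z * (a * m * a⁻¹) * z⁻¹ by group,
    hinv (mem_aux.2 ⟨hat, haz⟩) hza m hm, hinv hzA (IsConj.refl _) _ (M.inv_mem hm), inv_inv]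

/-- elements normalising `C(t) ∩ C(z)` act trivially modulo the conjugates of `z` -/
theorem norm_mod {Z0 : Subgroup G} (hZ0 : ∀ x, x ∈ Z0 ↔ x ∈ Aux z t ∧ (x = 1 ∨ IsConj z x))
    {g : G} (hg : Commute g t) (hn : ∀ x ∈ Aux z t, g * x * g⁻¹ ∈ Aux z t) {x : G} (hx : x ∈ Aux z t) :
    (g * x * g⁻¹) * x⁻¹ ∈ Z0 := by
  classical
  by_cases hgA : g ∈ Aux z t
  · rw [(aux_comm h htz htt htQ hgA hx).eq, mul_inv_cancel_right, mul_inv_cancel]
    exact Z0.one_mem
  set A := Aux z t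
  have hzA : z ∈ A := mem_aux.2 ⟨htz.symm, Commute.refl _⟩
  have htA : t ∈ A := mem_aux.2 ⟨Commute.refl _, htz⟩
  obtain ⟨a, b, hat, haz, hbt, hbz, hza, hzb, hne1, hne2, hne3, -, hall⟩ := three h htz htt htQ
  have hnf : ∀ {k w : G}, Commute k t → w ∈ A → IsConj z w → k * w * k⁻¹ = w → k ∈ A := fun {k w} hk hw hc e =>
    aux_fix h htz htt htQ hk hw hc (mul_inv_eq_iff_eq_mul.1 e)
  have himg : ∀ {w : G}, w ∈ A → IsConj z w → g * w * g⁻¹ = z ∨ g * w * g⁻¹ = a ∨ g * w * g⁻¹ = b := fun {w} hw hc => by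
    have hm := hn w hw
    exact hall _ (mem_aux.1 hm).1 (mem_aux.1 hm).2 (hc.trans (isConj_iff.2 ⟨g, rfl⟩))
  have hninj : ∀ {u v : G}, g * u * g⁻¹ = g * v * g⁻¹ → u = v := fun e => mul_left_cancel (mul_right_cancel e)
  -- the cube fixes `z`
  have hcyc : ∀ a' b' : G, a' ∈ A → IsConj z a' → b' ∈ A → IsConj z b' →
      (∀ w, w = z ∨ w = a ∨ w = b → w = z ∨ w = a' ∨ w = b') →
      g * z * g⁻¹ = a' → g * (g * (g * z * g⁻¹) * g⁻¹) * g⁻¹ = z := by
    intro a' b' ha hca hb hcb hW e1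
    have hb' : b' ≠ z ∧ b' ≠ a' := by
      have hth : ∀ c, (∀ w, w = z ∨ w = a ∨ w = b → w = z ∨ w = c) → False := fun c hc => by
        rcases hc a (Or.inr (Or.inl rfl)) with e | e <;> rcases hc b (Or.inr (Or.inr rfl)) with e' | e'
        · exact hne1 e.symm
        · exact hne1 e.symm
        · exact hne2 e'.symm
        · exact hne3 (e.trans e'.symm)
      exact ⟨fun e => hth a' fun w hw => (hW w hw).elim Or.inl fun o => o.elim Or.inr fun e' => Or.inl (e'.trans e),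
        fun e => hth a' fun w hw => (hW w hw).elim Or.inl fun o => o.elim Or.inr fun e' => Or.inr (e'.trans e)⟩
    have e3 : g * b' * g⁻¹ = z := by
      rcases hW _ (himg hb hcb) with e | e | e
      · exact e
      · exact absurd (hninj (e.trans e1.symm)) hb'.1
      · exact absurd (hnf hg hb hcb e) hgA
    have e2 : g * a' * g⁻¹ = b' := by
      rcases hW _ (himg ha hca) with e | e | e
      · exact absurd (hninj (e3.trans e.symm)) hb'.2
      · exact absurd (hnf hg ha hca e) hgA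
      · exact e
    rw [e1, e2, e3]
  have hg3 : g ^ 3 ∈ A := by
    refine hnf (hg.pow_left 3) hzA (IsConj.refl _) ?_
    rw [← conj_three]
    rcases himg hzA (IsConj.refl _) with e | e | e
    · exact absurd (hnf hg hzA (IsConj.refl _) e) hgA
    · exact hcyc a b (mem_aux.2 ⟨hat, haz⟩) hza (mem_aux.2 ⟨hbt, hbz⟩) hzb (fun _ hw => hw) e
    · exact hcyc b a (mem_aux.2 ⟨hbt, hbz⟩) hzb (mem_aux.2 ⟨hat, haz⟩) hza
        (fun _ hw => hw.elim Or.inl fun e => e.elim (fun e => Or.inr (Or.inr e)) fun e => Or.inr (Or.inl e)) e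
  -- the quotient
  set B := Z0.subgroupOf A with hB
  haveI : B.Normal := ⟨fun u hu v => by
    rw [hB, Subgroup.mem_subgroupOf] at hu ⊢
    rw [show ((v * u * v⁻¹ : A) : G) = v * u * (v : G)⁻¹ from rfl,
      (aux_comm h htz htt htQ v.2 u.2).eq, mul_inv_cancel_right]
    exact hu⟩
  have hB4 : Nat.card B = 4 := by
    have h4 : ({1, z, a, b} : Finset G).card = 4 := by
      have hw1 : ∀ {w : G}, IsConj z w → w ≠ 1 := fun {w} hc e => by
        obtain ⟨k, hk⟩ := isConj_iff.1 hc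
        exact h.S.xt.ne (conj_eq_one_iff.1 (hk.trans e))
      rw [Finset.card_insert_of_notMem, Finset.card_insert_of_notMem, Finset.card_pair hne3]
      · simp [hne1, hne2]
      · simp [h.S.xt.ne.symm, (hw1 hza).symm, (hw1 hzb).symm]
    rw [← h4, ← Nat.card_eq_finsetCard]
    refine Nat.card_congr
      { toFun := fun u => ⟨((u : A) : G), ?_⟩
        invFun := fun v => ⟨⟨v, ?_⟩, ?_⟩
        left_inv := fun u => Subtype.ext (Subtype.ext rfl)
        right_inv := fun v => Subtype.ext rfl }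
    · simp only [Finset.mem_insert, Finset.mem_singleton]
      rcases ((hZ0 _).1 u.2).2 with e | e
      · exact Or.inl e
      · exact Or.inr (hall _ (mem_aux.1 u.1.2).1 (mem_aux.1 u.1.2).2 e)
    · have := v.2
      simp only [Finset.mem_insert, Finset.mem_singleton] at this
      rcases this with e | e | e | e <;> rw [e]
      exacts [A.one_mem, hzA, mem_aux.2 ⟨hat, haz⟩, mem_aux.2 ⟨hbt, hbz⟩]
    · have := v.2
      simp only [Finset.mem_insert, Finset.mem_singleton] at this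
      show (v : G) ∈ Z0
      rw [hZ0]
      rcases this with e | e | e | e <;> rw [e]
      exacts [⟨A.one_mem, Or.inl rfl⟩, ⟨hzA, Or.inr (IsConj.refl _)⟩, ⟨mem_aux.2 ⟨hat, haz⟩, Or.inr hza⟩,
        ⟨mem_aux.2 ⟨hbt, hbz⟩, Or.inr hzb⟩]
  have hQ4 : Nat.card (A ⧸ B) = 4 := by
    have h16 : Nat.card A = 16 := inter_card h htz htt htQ
    have := B.card_mul_index
    rw [hB4, h16, Subgroup.index_eq_card] at this
    omega
  let cg : A →* A :=
    { toFun := fun u => ⟨g * u * g⁻¹, hn u u.2⟩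
      map_one' := Subtype.ext (by simp)
      map_mul' := fun u v => Subtype.ext (show g * ((u : G) * v) * g⁻¹ = g * u * g⁻¹ * (g * v * g⁻¹) by group) }
  have hcB : B ≤ B.comap cg := fun u hu => by
    rw [Subgroup.mem_comap, hB, Subgroup.mem_subgroupOf, hZ0] at *
    refine ⟨hn u u.2, ?_⟩
    rcases hu.2 with e | e
    · exact Or.inl (show g * (u : G) * g⁻¹ = 1 by rw [e, mul_one, mul_inv_cancel])
    · exact Or.inr (e.trans (isConj_iff.2 ⟨g, rfl⟩))
  let f : A ⧸ B →* A ⧸ B := QuotientGroup.map B B cg hcB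
  have hf3 : ∀ q, f (f (f q)) = q := by
    intro q
    obtain ⟨u, rfl⟩ := QuotientGroup.mk_surjective q
    show (QuotientGroup.mk (cg (cg (cg u))) : A ⧸ B) = _
    refine congrArg _ (Subtype.ext ?_)
    show g * (g * (g * (u : G) * g⁻¹) * g⁻¹) * g⁻¹ = u
    rw [conj_three,
      (aux_comm h htz htt htQ hg3 u.2).eq, mul_inv_cancel_right]
  let σ : Perm (A ⧸ B) := ⟨f, fun q => f (f q), hf3, hf3⟩
  let e4 : A ⧸ B ≃ Fin 4 := Finite.equivFinOfCardEq hQ4
  have hσ : e4.permCongr σ = 1 := by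
    refine perm_four _ ?_ (e4 1) (e4 (QuotientGroup.mk ⟨t, htA⟩)) ?_ ?_ ?_
    · ext q
      simp [σ, hf3]
    · intro e
      have h1 := e4.injective e
      rw [eq_comm, QuotientGroup.eq_one_iff, hB, Subgroup.mem_subgroupOf, hZ0] at h1
      rcases h1.2 with e' | e'
      · exact htQ (show t ∈ Q from (show t = 1 from e') ▸ Q.one_mem)
      · exact outer_not_conj h htz htt htQ e'
    · simp [σ]
    · simp only [σ, Equiv.permCongr_apply, Equiv.symm_apply_apply, Equiv.coe_fn_mk]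
      refine congrArg e4 ?_
      show (QuotientGroup.mk (cg ⟨t, htA⟩) : A ⧸ B) = _
      refine congrArg _ (Subtype.ext ?_)
      show g * t * g⁻¹ = t
      rw [hg.eq, mul_inv_cancel_right]
  have := congrArg (fun p : Perm (Fin 4) => p (e4 (QuotientGroup.mk ⟨x, hx⟩))) hσ
  simp only [Equiv.permCongr_apply, Equiv.symm_apply_apply, Perm.one_apply, σ, Equiv.coe_fn_mk] at this
  have h1 : (QuotientGroup.mk (cg ⟨x, hx⟩) : A ⧸ B) = QuotientGroup.mk ⟨x, hx⟩ := e4.injective this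
  rw [QuotientGroup.eq, hB, Subgroup.mem_subgroupOf] at h1
  have h2 := Z0.inv_mem h1
  change ((g * x * g⁻¹)⁻¹ * x)⁻¹ ∈ Z0 at h2
  rw [mul_inv_rev, inv_inv] at h2
  rwa [(aux_comm h htz htt htQ (A.inv_mem hx) (hn x hx)).eq] at h2

end

end Cfsg.Agent.Lie.HJType
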