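import Mathlib
import Cfsg.Agent.Lib.Lie.HJType.Second
import Cfsg.Prelude.Def_TwoFusion
import Cfsg.Prelude.Def_Transfer

/-!
Groups of Hall–Janko type: `C(t) = V × L` with `L ≅ A₅`, and the group order.
-/

set_option autoImplicit false
set_option linter.style.haveILetI false
set_option linter.unusedSectionVars false
set_option linter.constructorNameAsVariable false

namespace Cfsg.Agent.Lie.HJType

open Equiv

universe u

local notation "A5" => alternatingGroup (Fin 5)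

theorem four_cycle_sq : (finRotate 5 * Equiv.swap 3 4 : Perm (Fin 5)) ^ 4 = 1 ∧
    (finRotate 5 * Equiv.swap 3 4 : Perm (Fin 5)) * (finRotate 5 * Equiv.swap 3 4 : Perm (Fin 5)) ≠ 1 := by
  decide +kernel

variable {G : Type u} [Group G] [Finite G] {z : G} {Q : Subgroup G}
variable (h : Hyp z Q) {t : G} (htz : Commute t z) (htt : t * t = 1) (htQ : t ∉ Q)
include h htz htt htQ

theorem exists_Z0 : ∃ Z0 : Subgroup G, (∀ x, x ∈ Z0 ↔ x ∈ Aux z t ∧ (x = 1 ∨ IsConj z x)) ∧ Nat.card Z0 = 4 := by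
  classical
  obtain ⟨a, b, hat, haz, hbt, hbz, hza, hzb, hne1, hne2, hne3, hab, hall⟩ := three h htz htt htQ
  have hzz := h.S.xt.sq
  have hzA : z ∈ Aux z t := mem_aux.2 ⟨htz.symm, Commute.refl _⟩
  have haA : a ∈ Aux z t := mem_aux.2 ⟨hat, haz⟩
  have hbA : b ∈ Aux z t := mem_aux.2 ⟨hbt, hbz⟩
  have haa : a * a = 1 := inter_sq h htz htt htQ haz hat
  have hbb : b * b = 1 := inter_sq h htz htt htQ hbz hbt
  have hor : ∀ x, (x ∈ Aux z t ∧ (x = 1 ∨ IsConj z x)) ↔ x = 1 ∨ x = z ∨ x = a ∨ x = b := by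
    refine fun x => ⟨fun hx => hx.2.elim Or.inl fun e => Or.inr (hall x (mem_aux.1 hx.1).1 (mem_aux.1 hx.1).2 e), ?_⟩
    rintro (rfl | rfl | rfl | rfl)
    exacts [⟨Subgroup.one_mem _, Or.inl rfl⟩, ⟨hzA, Or.inr (IsConj.refl _)⟩, ⟨haA, Or.inr hza⟩, ⟨hbA, Or.inr hzb⟩]
  have haz' : a * z = b := by rw [(show a * z = z * a from haz.eq), hab]
  have hzb' : z * b = a := by rw [← hab, ← mul_assoc, hzz, one_mul]
  have hbz' : b * z = a := by rw [(show b * z = z * b from hbz.eq), hzb']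
  have hab' : a * b = z := by rw [← haz', ← mul_assoc, haa, one_mul]
  have hba' : b * a = z := by rw [← hab, mul_assoc, haa, mul_one]
  let Z0 : Subgroup G :=
    { carrier := {x | x = 1 ∨ x = z ∨ x = a ∨ x = b}
      one_mem' := Or.inl rfl
      mul_mem' := by
        rintro x y (rfl | rfl | rfl | rfl) (rfl | rfl | rfl | rfl) <;>
          simp [hab, hzz, haa, hbb, haz', hzb', hbz', hab', hba']
      inv_mem' := by
        rintro x (rfl | rfl | rfl | rfl)
        · exact Or.inl inv_one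
        · exact Or.inr (Or.inl (inv_eq_of_mul_eq_one_right hzz))
        · exact Or.inr (Or.inr (Or.inl (inv_eq_of_mul_eq_one_right haa)))
        · exact Or.inr (Or.inr (Or.inr (inv_eq_of_mul_eq_one_right hbb))) }
  refine ⟨Z0, fun x => (hor x).symm, ?_⟩
  have hw1 : ∀ {w : G}, IsConj z w → w ≠ 1 := fun {w} hc e => by
    obtain ⟨k, hk⟩ := isConj_iff.1 hc
    exact h.S.xt.ne (conj_eq_one_iff.1 (hk.trans e))
  have h4 : ({1, z, a, b} : Finset G).card = 4 := by
    rw [Finset.card_insert_of_notMem, Finset.card_insert_of_notMem, Finset.card_pair hne3]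
    · simp [hne1, hne2]
    · simp [h.S.xt.ne.symm, (hw1 hza).symm, (hw1 hzb).symm]
  rw [← h4, ← Nat.card_eq_finsetCard]
  exact Nat.card_congr (Equiv.subtypeEquivRight fun x => by
    simp only [Finset.mem_insert, Finset.mem_singleton]; exact Iff.rfl)

theorem aux_sq (x : Subgroup.centralizer ({t} : Set G))
    (hx : x ∈ (Aux z t).subgroupOf (Subgroup.centralizer ({t} : Set G))) : x * x = 1 :=
  Subtype.ext (inter_sq h htz htt htQ (mem_aux.1 hx).2 (mem_aux.1 hx).1)

theorem aux_card' : Nat.card ((Aux z t).subgroupOf (Subgroup.centralizer ({t} : Set G))) = 16 := by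
  rw [Nat.card_congr (Subgroup.subgroupOfEquivOfLe (inf_le_left : Aux z t ≤ Subgroup.centralizer ({t} : Set G))).toEquiv]
  exact inter_card h htz htt htQ

theorem transfer_part {Z0 : Subgroup G} (hZ0 : ∀ x, x ∈ Z0 ↔ x ∈ Aux z t ∧ (x = 1 ∨ IsConj z x))
    (hZ04 : Nat.card Z0 = 4) :
    ∃ L1 : Subgroup (Subgroup.centralizer ({t} : Set G)), L1.Normal ∧ L1.index = 4 ∧
      (∀ x, x ∈ (Aux z t).subgroupOf (Subgroup.centralizer ({t} : Set G)) → (x ∈ L1 ↔ (x : G) ∈ Z0)) := by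
  classical
  haveI : Fact (Nat.Prime 2) := ⟨Nat.prime_two⟩
  set A := Aux z t
  set H := Subgroup.centralizer ({t} : Set G) with hH
  set PS := A.subgroupOf H with hPS
  obtain ⟨P, hP⟩ : ∃ P : Sylow 2 H, (P : Subgroup H) = PS := aux_sylow h htz htt htQ
  have hcomm : ∀ x y : H, x ∈ PS → y ∈ PS → x * y = y * x := fun x y hx hy =>
    Subtype.ext (aux_comm h htz htt htQ hx hy).eq
  haveI : IsMulCommutative PS := ⟨⟨fun x y => Subtype.ext (hcomm x y x.2 y.2)⟩⟩
  letI : CommGroup PS := { (inferInstance : Group PS) with mul_comm := fun x y => Subtype.ext (hcomm x y x.2 y.2) }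
  have hidx : Odd PS.index := by
    rw [← hP, Nat.odd_iff, ← Nat.two_dvd_ne_zero]
    exact P.not_dvd_index
  have hnorm : ∀ n : H, n ∈ Subgroup.normalizer (PS : Set H) → ∀ x ∈ A, (n : G) * x * (n : G)⁻¹ ∈ A :=
    fun n hn x hx => (Subgroup.mem_normalizer_iff.1 hn ⟨x, hx.1⟩).1 hx
  set Z1 := (Z0.subgroupOf H).subgroupOf PS with hZ1
  have hZ0A : Z0 ≤ A := fun x hx => ((hZ0 x).1 hx).1
  have hZ14 : Nat.card Z1 = 4 := by
    rw [hZ1, Nat.card_congr (Subgroup.subgroupOfEquivOfLe (show Z0.subgroupOf H ≤ PS from fun x hx => hZ0A hx)).toEquiv,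
      Nat.card_congr (Subgroup.subgroupOfEquivOfLe (hZ0A.trans inf_le_left)).toEquiv, hZ04]
  have hQ4 : Nat.card (PS ⧸ Z1) = 4 := by
    have := Z1.card_mul_index
    rw [hZ14, aux_card' h htz htt htQ, Subgroup.index_eq_card] at this
    omega
  let φ : PS →* PS ⧸ Z1 := QuotientGroup.mk' Z1
  set f : H →* PS ⧸ Z1 := MonoidHom.transfer φ with hf
  have hfP : ∀ (x : H) (hx : x ∈ PS), f x = φ ⟨x, hx⟩ := by
    intro x hx
    rw [hf, Fusion.transfer_eq_map_pow φ x hx]
    · obtain ⟨j, hj⟩ := hidx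
      rw [hj, pow_succ, pow_mul, sq, ← map_mul,
        show (⟨x, hx⟩ : PS) * ⟨x, hx⟩ = 1 from Subtype.ext (aux_sq h htz htt htQ x hx),
        map_one, one_pow, one_mul]
    intro m a ha
    haveI : IsMulCommutative (P : Subgroup H) := by rw [hP]; infer_instance
    have hxm : x ^ m ∈ PS := PS.pow_mem hx m
    obtain ⟨n, hn, hn'⟩ := P.conj_eq_normalizer_conj_of_mem (x ^ m) a
      (show x ^ m ∈ (P : Subgroup H) by rw [hP]; exact hxm)
      (show a⁻¹ * x ^ m * a ∈ (P : Subgroup H) by rw [hP]; exact ha)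
    have hn1 : n⁻¹ ∈ Subgroup.normalizer (PS : Set H) := by
      have hn2 : n ∈ Subgroup.normalizer ((P : Subgroup H) : Set H) := hn
      rw [hP] at hn2
      exact Subgroup.inv_mem _ hn2
    rw [← map_pow]
    refine QuotientGroup.eq.2 ?_
    show ((a⁻¹ * x ^ m * a : H) : G)⁻¹ * ((x : G) ^ m) ∈ Z0
    rw [hn']
    have hmod := Z0.inv_mem (norm_mod h htz htt htQ hZ0 (mem_cent.1 (n⁻¹).2) (hnorm n⁻¹ hn1)
      (x := ((x ^ m : H) : G)) hxm)
    have hc : Commute ((x ^ m : H) : G) (((n⁻¹ : H) : G) * ((x ^ m : H) : G) * ((n⁻¹ : H) : G)⁻¹)⁻¹ :=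
      aux_comm h htz htt htQ hxm (A.inv_mem (hnorm n⁻¹ hn1 _ hxm))
    rw [mul_inv_rev, inv_inv, hc.eq] at hmod
    convert hmod using 1
    simp
  have hsurj : Function.Surjective f := fun q => by
    obtain ⟨x, rfl⟩ := QuotientGroup.mk'_surjective Z1 q
    exact ⟨x, hfP x x.2⟩
  refine ⟨f.ker, MonoidHom.normal_ker f, ?_, fun x hx => ?_⟩
  · rw [Subgroup.index_ker, Nat.card_congr (Equiv.subtypeUnivEquiv fun q => MonoidHom.mem_range.2 (hsurj q)), hQ4]
  · rw [MonoidHom.mem_ker, hfP x hx]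
    exact (QuotientGroup.eq_one_iff _)

set_option maxHeartbeats 800000 in
theorem alt_five_part {Z0 : Subgroup G} (hZ0 : ∀ x, x ∈ Z0 ↔ x ∈ Aux z t ∧ (x = 1 ∨ IsConj z x))
    (hZ04 : Nat.card Z0 = 4) (L1 : Subgroup (Subgroup.centralizer ({t} : Set G))) (hL1n : L1.Normal)
    (hL1i : L1.index = 4)
    (hLA : ∀ x, x ∈ (Aux z t).subgroupOf (Subgroup.centralizer ({t} : Set G)) → (x ∈ L1 ↔ (x : G) ∈ Z0)) :
    Nonempty (L1 ≃* A5) := by
  classical
  haveI : Fact (Nat.Prime 2) := ⟨Nat.prime_two⟩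
  set PS := (Aux z t).subgroupOf (Subgroup.centralizer ({t} : Set G)) with hPS
  obtain ⟨P, hP⟩ : ∃ P : Sylow 2 (Subgroup.centralizer ({t} : Set G)), (P : Subgroup (Subgroup.centralizer ({t} : Set G))) = PS := aux_sylow h htz htt htQ
  have hA16 : Nat.card PS = 16 := aux_card' h htz htt htQ
  have hidx : Odd PS.index := by
    rw [← hP, Nat.odd_iff, ← Nat.two_dvd_ne_zero]
    exact P.not_dvd_index
  have hnotnormal : ¬ ∀ g : (Subgroup.centralizer ({t} : Set G)), ∀ x ∈ PS, g * x * g⁻¹ ∈ PS := fun hn =>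
    aux_not_normal h htz htt htQ fun g hg x hx => hn ⟨g, mem_cent.2 hg⟩ ⟨x, hx.1⟩ hx
  have hZ0A : Z0 ≤ (Aux z t) := fun x hx => ((hZ0 x).1 hx).1
  set ZL := (Z0.subgroupOf (Subgroup.centralizer ({t} : Set G))).subgroupOf L1 with hZL
  have hZ0L : Z0.subgroupOf (Subgroup.centralizer ({t} : Set G)) ≤ L1 := fun x hx => (hLA x (hZ0A hx)).2 hx
  have hZL4 : Nat.card ZL = 4 := by
    rw [hZL, Nat.card_congr (Subgroup.subgroupOfEquivOfLe hZ0L).toEquiv,
      Nat.card_congr (Subgroup.subgroupOfEquivOfLe (hZ0A.trans inf_le_left)).toEquiv, hZ04]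
  have hL1c : Nat.card L1 = 4 * PS.index := by
    have e1 := L1.card_mul_index
    have e2 := PS.card_mul_index
    rw [hL1i] at e1
    rw [hA16] at e2
    omega
  have hZLp : IsPGroup 2 ZL := IsPGroup.of_card (n := 2) (by rw [hZL4]; rfl)
  have hZLi : ¬ 2 ∣ ZL.index := by
    have := ZL.card_mul_index
    rw [hZL4, hL1c] at this
    rw [show ZL.index = PS.index by omega]
    exact Nat.two_dvd_ne_zero.2 (Nat.odd_iff.1 hidx)
  let SL : Sylow 2 L1 := hZLp.toSylow hZLi
  have hzH : z ∈ (Subgroup.centralizer ({t} : Set G)) := mem_cent.2 htz.symm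
  have hzZ : z ∈ Z0 := (hZ0 z).2 ⟨mem_aux.2 ⟨htz.symm, Commute.refl _⟩, Or.inr (IsConj.refl _)⟩
  have hnoNormal : ¬ ZL.Normal := by
    intro hN
    refine hnotnormal fun g x hx => ?_
    haveI : Subsingleton (Sylow 2 L1) := by
      haveI : (SL : Subgroup L1).Normal := hN
      exact (SL.unique_of_normal inferInstance).instSubsingleton
    have hz' : g * ⟨z, hzH⟩ * g⁻¹ ∈ L1 :=
      hL1n.conj_mem _ (hZ0L (show (⟨z, hzH⟩ : (Subgroup.centralizer ({t} : Set G))) ∈ Z0.subgroupOf (Subgroup.centralizer ({t} : Set G)) from hzZ)) g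
    set w : L1 := ⟨g * ⟨z, hzH⟩ * g⁻¹, hz'⟩
    have hww : w * w = 1 := Subtype.ext (by
      show g * ⟨z, hzH⟩ * g⁻¹ * (g * ⟨z, hzH⟩ * g⁻¹) = 1
      rw [conj_mul, show (⟨z, hzH⟩ : (Subgroup.centralizer ({t} : Set G))) * ⟨z, hzH⟩ = 1 from Subtype.ext h.S.xt.sq, mul_one, mul_inv_cancel])
    obtain ⟨S', hS'⟩ := (show IsPGroup 2 (Subgroup.zpowers w) from fun y => by
      obtain ⟨k, hk⟩ := Subgroup.mem_zpowers_iff.1 y.2
      refine ⟨1, Subtype.ext ?_⟩
      rw [pow_one, Subgroup.coe_pow, ← hk, OneMemClass.coe_one, ← zpow_natCast, ← zpow_mul, mul_comm, zpow_mul,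
        zpow_natCast, sq, hww, one_zpow]).exists_le_sylow
    have hwZ : w ∈ ZL := by
      have := hS' (Subgroup.mem_zpowers w)
      rwa [Subsingleton.elim S' SL] at this
    have hwA : ((g : G) * z * (g : G)⁻¹) ∈ (Aux z t) := hZ0A hwZ
    show (g : G) * (x : G) * (g : G)⁻¹ ∈ (Aux z t)
    exact aux_fix h htz htt htQ (mem_cent.1 (g * x * g⁻¹).2) hwA (isConj_iff.2 ⟨_, rfl⟩)
      ((Commute.conj_iff (g : G)).2 (mem_aux.1 hx).2)
  have hnotop : L1 ≤ PS → False := fun hle => hnoNormal (by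
    have : ZL = ⊤ := by
      rw [Subgroup.eq_top_iff']
      intro l
      exact (hLA _ (hle l.2)).1 l.2
    rw [this]; infer_instance)
  have hzL : (⟨z, hzH⟩ : (Subgroup.centralizer ({t} : Set G))) ∈ L1 := hZ0L hzZ
  have hCz : ∀ c : L1, Commute c ⟨⟨z, hzH⟩, hzL⟩ → c ∈ ZL := fun c hc => by
    have h1 : Commute (((c : (Subgroup.centralizer ({t} : Set G))) : G)) z := congrArg (fun v : L1 => ((v : (Subgroup.centralizer ({t} : Set G))) : G)) hc.eq
    have hcA : ((c : (Subgroup.centralizer ({t} : Set G))) : G) ∈ (Aux z t) := mem_aux.2 ⟨mem_cent.1 (c : (Subgroup.centralizer ({t} : Set G))).2, h1⟩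
    exact (hLA _ hcA).1 c.2
  refine ⟨(InvFour.alt_five_of_centralizer_four (⟨⟨z, hzH⟩, hzL⟩ : L1) ?_ ?_ ?_ ?_ ?_).some⟩
  · rw [← Subgroup.orderOf_coe, ← Subgroup.orderOf_coe]
    exact HallJankoPairs.ord_of h.S.xt.sq h.S.xt.ne
  · rw [← hZL4]
    refine congrArg (fun S : Subgroup L1 => Nat.card S) (le_antisymm (fun c hc => hCz c (Subgroup.mem_centralizer_singleton_iff.1 hc))
      fun c hc => Subgroup.mem_centralizer_singleton_iff.2 (Subtype.ext (Subtype.ext ?_)))
    exact (aux_comm h htz htt htQ (hZ0A hc) (hZ0A hzZ)).eq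
  · intro c hc
    have hc' : ((c : (Subgroup.centralizer ({t} : Set G))) : G) ∈ (Aux z t) := hZ0A (hCz c (Subgroup.mem_centralizer_singleton_iff.1 hc))
    refine Subtype.ext ?_
    rw [Subgroup.coe_pow, sq]
    exact aux_sq h htz htt htQ _ hc'
  · rintro ⟨S, N, hN, hcompl⟩
    have hS : Nat.card S = 4 := by
      rw [Sylow.card_eq_multiplicity S, ← Sylow.card_eq_multiplicity SL]; exact hZL4
    have hNc : Nat.card N = PS.index := by
      have := hcompl.card_mul
      rw [hS, hL1c] at this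
      omega
    have hodd : ∀ l : L1, Odd (orderOf l) → l ∈ N := by
      intro l hl
      have hq : orderOf (QuotientGroup.mk l : L1 ⧸ N) ∣ 4 := by
        refine (orderOf_dvd_natCard _).trans ?_
        rw [← Subgroup.index_eq_card, ← hS]
        have := hcompl.symm.index_eq_card
        rw [this]
      rw [← QuotientGroup.eq_one_iff, ← orderOf_eq_one_iff]
      refine Nat.eq_one_of_dvd_coprimes ?_ hq (orderOf_map_dvd (QuotientGroup.mk' N) l)
      exact (Nat.coprime_two_left.2 hl).pow_left 2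
    set M : Subgroup G := (N.map L1.subtype).map (Subgroup.centralizer ({t} : Set G)).subtype with hM
    have hMmem : ∀ m ∈ M, ∃ n : L1, n ∈ N ∧ ((n : (Subgroup.centralizer ({t} : Set G))) : G) = m := by
      rintro _ ⟨_, ⟨n, hn, rfl⟩, rfl⟩; exact ⟨n, hn, rfl⟩
    have hbot : M = ⊥ := by
      refine odd_normal_trivial h htz htt htQ M (fun m hm => ?_) (fun g hg m hm => ?_) ?_
      · obtain ⟨n, -, rfl⟩ := hMmem m hm
        exact mem_cent.1 (n : (Subgroup.centralizer ({t} : Set G))).2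
      · obtain ⟨n, hn, rfl⟩ := hMmem m hm
        let g' : (Subgroup.centralizer ({t} : Set G)) := ⟨g, mem_cent.2 hg⟩
        have hm' : g' * (n : (Subgroup.centralizer ({t} : Set G))) * g'⁻¹ ∈ L1 := hL1n.conj_mem _ n.2 g'
        refine ⟨g' * (n : (Subgroup.centralizer ({t} : Set G))) * g'⁻¹, ⟨⟨_, hm'⟩, hodd _ ?_, rfl⟩, rfl⟩
        rw [← Subgroup.orderOf_coe]
        show Odd (orderOf (g' * (n : (Subgroup.centralizer ({t} : Set G))) * g'⁻¹))
        rw [show g' * (n : (Subgroup.centralizer ({t} : Set G))) * g'⁻¹ = MulAut.conj g' (n : (Subgroup.centralizer ({t} : Set G))) from rfl, MulEquiv.orderOf_eq, Subgroup.orderOf_coe]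
        exact Odd.of_dvd_nat (hNc ▸ hidx) (Subgroup.orderOf_dvd_natCard N hn)
      · rw [hM, Subgroup.card_map_of_injective (Subgroup.centralizer ({t} : Set G)).subtype_injective, Subgroup.card_map_of_injective L1.subtype_injective, hNc]
        exact hidx
    have h1 : PS.index = 1 := by
      have hMc : Nat.card M = PS.index := by
        rw [hM, Subgroup.card_map_of_injective (Subgroup.subtype_injective _), Subgroup.card_map_of_injective L1.subtype_injective, hNc]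
      rw [← hMc, hbot, Subgroup.card_bot]
    refine hnotop fun l _ => ?_
    rw [Subgroup.index_eq_one.1 h1]; trivial
  · intro E hE hEab
    haveI := hE
    have hEp : IsPGroup 2 E := fun x => ⟨1, Subtype.ext (by rw [pow_one, Subgroup.coe_pow]; exact hEab.2 x x.2)⟩
    have hEZ : E ≤ ZL := hEp.le_sylow_of_normal SL
    refine ⟨fun h2 => ?_, fun h4 => hnoNormal ((Subgroup.eq_of_le_of_card_ge hEZ (by rw [hZL4, h4])) ▸ hE)⟩
    obtain ⟨⟨w, hwE⟩, hw1, huniq⟩ := (Nat.card_eq_two_iff' (1 : E)).1 h2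
    have hw1' : w ≠ 1 := fun e => hw1 (Subtype.ext e)
    refine hnotop fun l hl => ?_
    have hlw : (⟨l, hl⟩ : L1) * w * (⟨l, hl⟩ : L1)⁻¹ = w := by
      have := huniq ⟨_, hE.conj_mem w hwE ⟨l, hl⟩⟩ fun e => hw1' (conj_eq_one_iff.1 (congrArg Subtype.val e :))
      exact congrArg Subtype.val this
    have hwZ := (hZ0 _).1 (hEZ hwE)
    exact aux_fix h htz htt htQ (mem_cent.1 l.2) hwZ.1
      (hwZ.2.resolve_left fun e => hw1' (Subtype.ext (Subtype.ext e)))
      (congrArg (fun v : L1 => ((v : (Subgroup.centralizer ({t} : Set G))) : G)) (mul_inv_eq_iff_eq_mul.1 hlw) :)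

theorem complement_part (L1 : Subgroup (Subgroup.centralizer ({t} : Set G))) (hL1n : L1.Normal)
    (hL1i : L1.index = 4) (e : L1 ≃* A5) :
    ∃ M : Subgroup (Subgroup.centralizer ({t} : Set G)), Nat.card M = 4 ∧
      M ≤ (Aux z t).subgroupOf (Subgroup.centralizer ({t} : Set G)) ∧
      (∀ x : Subgroup.centralizer ({t} : Set G), x ∈ M ↔ ∀ l ∈ L1, x * l = l * x) ∧
      Disjoint M L1 ∧ M.IsComplement' L1 := by
  classical
  haveI : Fact (Nat.Prime 2) := ⟨Nat.prime_two⟩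
  haveI := hL1n
  obtain ⟨P, hP⟩ := aux_sylow h htz htt htQ
  have h60 : Nat.card L1 = 60 := by
    rw [Nat.card_congr e.toEquiv, nat_card_alternatingGroup, Nat.card_fin]; rfl
  have h240 : Nat.card (Subgroup.centralizer ({t} : Set G)) = 240 := by
    rw [← L1.card_mul_index, h60, hL1i]
  let b : Perm (Fin 5) ≃* MulAut A5 :=
    MulEquiv.ofBijective _ (Cfsg.Agent.S2119.result 5 (by norm_num) (by norm_num))
  let j : Subgroup.centralizer ({t} : Set G) →* Perm (Fin 5) :=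
    b.symm.toMonoidHom.comp ((MulAut.congr e).toMonoidHom.comp MulAut.conjNormal)
  have hjker : ∀ x, j x = 1 ↔ ∀ l ∈ L1, x * l = l * x := by
    intro x
    have : j x = 1 ↔ (MulAut.conjNormal x : MulAut L1) = 1 := by
      show b.symm ((MulAut.congr e) (MulAut.conjNormal x)) = 1 ↔ _
      rw [MulEquiv.map_eq_one_iff, MulEquiv.map_eq_one_iff]
    rw [this]
    refine ⟨fun hx l hl => ?_, fun hx => MulEquiv.ext fun l => Subtype.ext ?_⟩
    · have := congrArg Subtype.val (DFunLike.congr_fun hx ⟨l, hl⟩)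
      rw [MulAut.conjNormal_apply] at this
      exact mul_inv_eq_iff_eq_mul.1 this
    · rw [MulAut.conjNormal_apply, hx l l.2, mul_inv_cancel_right]
      rfl
  have hdisj : ∀ x, x ∈ L1 → j x = 1 → x = 1 := fun x hx hj => by
    have : e ⟨x, hx⟩ = 1 := a5_center _ fun g => by
      rw [← e.apply_symm_apply g, ← map_mul, ← map_mul]
      exact congrArg e (Subtype.ext ((hjker x).1 hj _ (e.symm g).2))
    exact congrArg Subtype.val ((MulEquiv.map_eq_one_iff e).1 this)
  have hr60 : 60 ≤ Nat.card j.range := by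
    rw [← h60]
    refine Nat.card_le_card_of_injective (fun l => (⟨j l, ⟨l, rfl⟩⟩ : j.range)) fun l l' e' => ?_
    have he : j (l : Subgroup.centralizer ({t} : Set G)) = j (l' : Subgroup.centralizer ({t} : Set G)) :=
      congrArg Subtype.val e'
    have := hdisj _ (L1.mul_mem (L1.inv_mem l.2) l'.2) (by rw [map_mul, map_inv, he, inv_mul_cancel])
    exact Subtype.ext (inv_mul_eq_one.1 this)
  have hker4 : Nat.card j.ker = 4 := by
    have e1 := j.ker.card_mul_index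
    rw [Subgroup.index_ker, h240] at e1
    have e2 : Nat.card j.range ∣ 120 := by
      have := Subgroup.card_subgroup_dvd_card j.range
      rwa [Nat.card_perm, Nat.card_fin] at this
    obtain ⟨k, hk⟩ := e2
    have hk2 : k = 1 ∨ k = 2 := by
      rcases k with _ | _ | _ | k
      · omega
      · exact Or.inl rfl
      · exact Or.inr rfl
      · exfalso; nlinarith
    rcases hk2 with rfl | rfl
    · exfalso
      have hs : Function.Surjective j := MonoidHom.range_eq_top.1 (Subgroup.eq_top_of_card_eq _ (by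
        rw [Nat.card_perm, Nat.card_fin]; rw [mul_one] at hk; exact hk.symm.trans (by decide)))
      set c : Perm (Fin 5) := finRotate 5 * Equiv.swap 3 4 with hc
      obtain ⟨S', hS'⟩ := (show IsPGroup 2 (Subgroup.zpowers c) from fun y => by
        obtain ⟨k, hk⟩ := Subgroup.mem_zpowers_iff.1 y.2
        refine ⟨2, Subtype.ext ?_⟩
        rw [Subgroup.coe_pow, ← hk, OneMemClass.coe_one, ← zpow_natCast, ← zpow_mul, mul_comm, zpow_mul, zpow_natCast,
          show (2 ^ 2 : ℕ) = 4 from rfl, four_cycle_sq.1, one_zpow]).exists_le_sylow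
      obtain ⟨σ, hσ⟩ := MulAction.exists_smul_eq (Perm (Fin 5)) (P.mapSurjective hs) S'
      have hcm : c ∈ ((σ • P.mapSurjective hs : Sylow 2 (Perm (Fin 5))) : Subgroup (Perm (Fin 5))) := by
        rw [hσ]; exact hS' (Subgroup.mem_zpowers c)
      obtain ⟨y, hy, hyc⟩ := Subgroup.mem_map.1 hcm
      obtain ⟨x, hx, rfl⟩ := Subgroup.mem_map.1 hy
      refine four_cycle_sq.2 ?_
      change c * c = 1
      rw [← hyc]
      show σ * j x * σ⁻¹ * (σ * j x * σ⁻¹) = 1
      rw [conj_mul, ← map_mul, aux_sq h htz htt htQ x (by rw [← hP]; exact hx), map_one, mul_one, mul_inv_cancel]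
    · nlinarith
  have hkerP : j.ker ≤ (P : Subgroup (Subgroup.centralizer ({t} : Set G))) :=
    (IsPGroup.of_card (n := 2) (by rw [hker4]; rfl) : IsPGroup 2 j.ker).le_sylow_of_normal P
  have hd : Disjoint j.ker L1 := Subgroup.disjoint_def.2 fun hx hx' => hdisj _ hx' hx
  exact ⟨j.ker, hker4, hP ▸ hkerP, fun x => hjker x, hd,
    Subgroup.isComplement'_of_card_mul_and_disjoint (by rw [hker4, h60, h240]) hd⟩

/-- the centralizer of the second involution -/
theorem second : ∃ V L : Subgroup G,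
    Cfsg.IsInternalDirectProduct V L (Subgroup.centralizer ({t} : Set G)) ∧ Nat.card V = 4 ∧
      (∀ v ∈ V, v ^ 2 = 1) ∧ t ∈ V ∧ V ≤ Aux z t ∧ Nonempty (↥L ≃* A5) ∧ z ∈ L ∧
      (∀ x ∈ L, orderOf x = 2 → IsConj x z) ∧
      ∀ x ∈ Subgroup.centralizer ({t} : Set G), orderOf x = 2 → x ∉ L → IsConj x t := by
  classical
  obtain ⟨Z0, hZ0, hZ04⟩ := exists_Z0 h htz htt htQ
  obtain ⟨L1, hL1n, hL1i, hLA⟩ := transfer_part h htz htt htQ hZ0 hZ04
  obtain ⟨e⟩ := alt_five_part h htz htt htQ hZ0 hZ04 L1 hL1n hL1i hLA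
  obtain ⟨M, hM4, hMA, hMiff, hd, hcompl⟩ := complement_part h htz htt htQ L1 hL1n hL1i e
  have hzH : z ∈ Subgroup.centralizer ({t} : Set G) := mem_cent.2 htz.symm
  have hzA : z ∈ Aux z t := mem_aux.2 ⟨htz.symm, Commute.refl _⟩
  have hzL : (⟨z, hzH⟩ : Subgroup.centralizer ({t} : Set G)) ∈ L1 :=
    (hLA _ hzA).2 ((hZ0 z).2 ⟨hzA, Or.inr (IsConj.refl _)⟩)
  refine ⟨M.map (Subgroup.centralizer ({t} : Set G)).subtype, L1.map (Subgroup.centralizer ({t} : Set G)).subtype,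
    ⟨Subgroup.map_subtype_le _, Subgroup.map_subtype_le _, ?_, ?_, ?_⟩, ?_, ?_, ?_, ?_,
    ⟨(Subgroup.equivMapOfInjective _ _ (Subgroup.centralizer ({t} : Set G)).subtype_injective).symm.trans e⟩,
    ⟨⟨z, hzH⟩, hzL, rfl⟩, ?_, ?_⟩
  · rintro _ ⟨x, hx, rfl⟩ _ ⟨l, hl, rfl⟩
    exact congrArg Subtype.val ((hMiff x).1 hx l hl)
  · rw [← Subgroup.map_inf_eq _ _ _ (Subgroup.subtype_injective _), disjoint_iff.1 hd, Subgroup.map_bot]
  · rw [← Subgroup.map_sup, hcompl.sup_eq_top, ← MonoidHom.range_eq_map, Subgroup.range_subtype]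
  · rw [Subgroup.card_map_of_injective (Subgroup.subtype_injective _), hM4]
  · rintro _ ⟨x, hx, rfl⟩
    rw [sq]
    exact congrArg Subtype.val (aux_sq h htz htt htQ x (hMA hx))
  · refine ⟨⟨t, mem_cent.2 (Commute.refl t)⟩, (hMiff _).2 fun l _ => Subtype.ext ?_, rfl⟩
    exact (mem_cent.1 l.2).symm.eq
  · rintro _ ⟨x, hx, rfl⟩
    exact hMA hx
  · rintro _ ⟨l, hl, rfl⟩ ho
    obtain ⟨hll, hl1'⟩ := HallJankoPairs.ord_two ho
    have hl1 : l ≠ 1 := fun e' => hl1' (congrArg Subtype.val e')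
    obtain ⟨k, hk⟩ := a5_inv_conj (e ⟨l, hl⟩)
      (by rw [← map_mul, show (⟨l, hl⟩ : L1) * ⟨l, hl⟩ = 1 from Subtype.ext (Subtype.ext hll), map_one])
      (fun e' => hl1 (congrArg Subtype.val ((MulEquiv.map_eq_one_iff e).1 e')))
      (e ⟨⟨z, hzH⟩, hzL⟩)
      (by rw [← map_mul, show (⟨⟨z, hzH⟩, hzL⟩ : L1) * ⟨⟨z, hzH⟩, hzL⟩ = 1 from Subtype.ext (Subtype.ext h.S.xt.sq), map_one])
      (fun e' => h.S.xt.ne (congrArg (fun v : L1 => ((v : Subgroup.centralizer ({t} : Set G)) : G)) ((MulEquiv.map_eq_one_iff e).1 e')))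
    obtain ⟨k, rfl⟩ := e.surjective k
    rw [← map_inv, ← map_mul, ← map_mul] at hk
    exact isConj_iff.2 ⟨((k : Subgroup.centralizer ({t} : Set G)) : G),
      congrArg (fun v : L1 => ((v : Subgroup.centralizer ({t} : Set G)) : G)) (e.injective hk)⟩
  · intro x hx ho hxL
    obtain ⟨hxx, hx1⟩ := HallJankoPairs.ord_two ho
    rcases two_classes h htz htt htQ hxx hx1 with e' | e'
    swap
    · exact e'.symm
    exfalso
    obtain ⟨g, hg, hgx⟩ := aux_absorb h htz htt htQ (mem_cent.1 hx) hxx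
    let x' : Subgroup.centralizer ({t} : Set G) := ⟨x, hx⟩
    let g' : Subgroup.centralizer ({t} : Set G) := ⟨g, mem_cent.2 hg⟩
    have hm : g' * x' * g'⁻¹ ∈ L1 :=
      (hLA _ hgx).2 ((hZ0 _).2 ⟨hgx, Or.inr (e'.trans (isConj_iff.2 ⟨g, rfl⟩))⟩)
    have := hL1n.conj_mem _ hm g'⁻¹
    refine hxL ⟨x', ?_, rfl⟩
    simpa [mul_assoc] using this

theorem card_cent_two : Nat.card ↥(Subgroup.centralizer ({t} : Set G)) = 240 := by
  obtain ⟨V, L, hVL, hV, hV2, htV, -, hL, -, hLz, hout⟩ := second h htz htt htQ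
  exact (HallJankoPairs.count_t (HallJankoPairs.ord_of h.S.xt.sq h.S.xt.ne)
    (HallJankoPairs.ord_of htt fun e => htQ (e ▸ Q.one_mem)) (outer_not_conj h htz htt htQ) V L hVL hV hV2 htV hL
    hLz hout).2

omit htz htt htQ t in
/-- the order of a group of Hall–Janko type -/
theorem order_eq : Nat.card G = 604800 := by
  obtain ⟨t, htz, htt, htQ⟩ := exists_outer h
  obtain ⟨V, L, hVL, hV, hV2, htV, -, hL, -, hLz, hout⟩ := second h htz htt htQ
  obtain ⟨h1, h2⟩ := HallJankoPairs.count_t (HallJankoPairs.ord_of h.S.xt.sq h.S.xt.ne)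
    (HallJankoPairs.ord_of htt fun e => htQ (e ▸ Q.one_mem)) (outer_not_conj h htz htt htQ) V L hVL hV hV2 htV hL
    hLz hout
  rw [order_formula h htz htt htQ, h1, h2]

end Cfsg.Agent.Lie.HJType
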