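import Mathlib
import Cfsg.Agent.Lib.Lie.HJType.Structure
import Cfsg.Agent.Lib.Fusion.Cores

/-!
Groups of Hall–Janko type: the four-group `O₂(C(t))` and its normaliser `A₄ × A₅`.
-/

set_option autoImplicit false
set_option linter.style.haveILetI false
set_option linter.unusedSectionVars false
set_option linter.constructorNameAsVariable false

namespace Cfsg.Agent.Lie.HJType

open Equiv
open scoped commutatorElement

universe u

local notation "A5" => alternatingGroup (Fin 5)

variable {G : Type u} [Group G] [Finite G]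

/-- a product of two commuting subgroups of the right order -/
theorem prod_equiv {A B C : Subgroup G} (hA : A ≤ C) (hB : B ≤ C) (hcomm : ∀ a ∈ A, ∀ b ∈ B, a * b = b * a)
    (hd : A ⊓ B = ⊥) (hcard : Nat.card A * Nat.card B = Nat.card C) : Nonempty (↥C ≃* ↥A × ↥B) := by
  let f : A × B →* C :=
    { toFun := fun p => ⟨(p.1 : G) * p.2, C.mul_mem (hA p.1.2) (hB p.2.2)⟩
      map_one' := Subtype.ext (mul_one 1)
      map_mul' := fun p q => Subtype.ext
        ((show Commute (q.1 : G) (p.2 : G) from hcomm _ q.1.2 _ p.2.2).mul_mul_mul_comm (p.1 : G) (q.2 : G)) }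
  have hf : Function.Injective f := by
    refine (injective_iff_map_eq_one f).2 fun p hp => ?_
    have hp' : (p.1 : G) * p.2 = 1 := congrArg Subtype.val hp
    have hm : (p.1 : G) ∈ A ⊓ B := ⟨p.1.2, by
      rw [mul_eq_one_iff_eq_inv.1 hp']; exact B.inv_mem p.2.2⟩
    rw [hd, Subgroup.mem_bot] at hm
    rw [hm, one_mul] at hp'
    exact Prod.ext (Subtype.ext hm) (Subtype.ext hp')
  exact ⟨(MulEquiv.ofBijective f ((Nat.bijective_iff_injective_and_card f).2 ⟨hf, by rw [Nat.card_prod, hcard]⟩)).symm⟩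

theorem internal_decomp {V L C : Subgroup G} (h : Cfsg.IsInternalDirectProduct V L C) :
    ∀ x ∈ C, ∃ a ∈ V, ∃ b ∈ L, a * b = x := by
  obtain ⟨hV, hL, hc, -, hsup⟩ := h
  intro x hx
  let M : Subgroup G :=
    { carrier := {x | ∃ a ∈ V, ∃ b ∈ L, a * b = x}
      one_mem' := ⟨1, V.one_mem, 1, L.one_mem, one_mul 1⟩
      mul_mem' := by
        rintro _ _ ⟨a, ha, b, hb, rfl⟩ ⟨c, hc', d, hd, rfl⟩
        exact ⟨a * c, V.mul_mem ha hc', b * d, L.mul_mem hb hd,
          (show Commute c b from hc c hc' b hb).mul_mul_mul_comm a d⟩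
      inv_mem' := by
        rintro _ ⟨a, ha, b, hb, rfl⟩
        exact ⟨a⁻¹, V.inv_mem ha, b⁻¹, L.inv_mem hb, by
          rw [mul_inv_rev, ((show Commute a b from hc a ha b hb).inv_inv).eq]⟩ }
  have hle : V ⊔ L ≤ M := sup_le (fun x hx => ⟨x, hx, 1, L.one_mem, mul_one x⟩)
    fun x hx => ⟨1, V.one_mem, x, hx, one_mul x⟩
  exact hle (hsup.ge hx)

theorem internal_card {V L C : Subgroup G} (h : Cfsg.IsInternalDirectProduct V L C) :
    Nat.card V * Nat.card L = Nat.card C := by
  obtain ⟨hV, hL, hc, hd, -⟩ := id h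
  rw [← Nat.card_prod]
  refine Nat.card_congr (Equiv.ofBijective (fun p : V × L =>
    (⟨(p.1 : G) * p.2, C.mul_mem (hV p.1.2) (hL p.2.2)⟩ : C)) ⟨?_, ?_⟩)
  · rintro ⟨a, b⟩ ⟨a', b'⟩ e
    have e' : (a : G) * b = a' * b' := congrArg Subtype.val e
    have hm : (a' : G)⁻¹ * a ∈ V ⊓ L := ⟨V.mul_mem (V.inv_mem a'.2) a.2, by
      rw [show (a' : G)⁻¹ * a = b' * (b : G)⁻¹ by rw [eq_mul_inv_iff_mul_eq, mul_assoc, e', inv_mul_cancel_left]]
      exact L.mul_mem b'.2 (L.inv_mem b.2)⟩
    rw [hd, Subgroup.mem_bot, inv_mul_eq_one] at hm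
    rw [← hm] at e'
    exact Prod.ext (Subtype.ext hm.symm) (Subtype.ext (mul_left_cancel e'))
  · rintro ⟨x, hx⟩
    obtain ⟨a, ha, b, hb, rfl⟩ := internal_decomp h x hx
    exact ⟨(⟨a, ha⟩, ⟨b, hb⟩), rfl⟩

section

variable {V L C : Subgroup G} (h : Cfsg.IsInternalDirectProduct V L C) (e : ↥L ≃* A5) (hV : ∀ v ∈ V, v ^ 2 = 1)
include h e

theorem eq_one_of_central {b : G} (hb : b ∈ L) (hc : ∀ l ∈ L, Commute b l) : b = 1 := by
  have h1 : e ⟨b, hb⟩ = 1 := a5_center _ fun g => by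
    rw [← e.apply_symm_apply g, ← map_mul, ← map_mul]
    exact congrArg e (Subtype.ext (hc _ (e.symm g).2).eq)
  exact congrArg Subtype.val ((MulEquiv.map_eq_one_iff e).1 h1)

theorem cent_factor {x : G} (hx : x ∈ C) (hxL : ∀ l ∈ L, Commute x l) : x ∈ V := by
  obtain ⟨a, ha, b, hb, rfl⟩ := internal_decomp h x hx
  have hb1 : b = 1 := eq_one_of_central h e hb fun l hl => by
    have h1 : Commute a l := h.2.2.1 a ha l hl
    simpa using h1.inv_left.mul_left (hxL l hl)
  rw [hb1, mul_one]; exact ha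

include hV in
theorem derived_eq : ⁅C, C⁆ = L := by
  obtain ⟨-, hLC, hc, -, -⟩ := id h
  refine le_antisymm ?_ ?_
  · rw [Subgroup.commutator_le]
    intro x hx y hy
    obtain ⟨a, ha, b, hb, rfl⟩ := internal_decomp h x hx
    obtain ⟨a', ha', b', hb', rfl⟩ := internal_decomp h y hy
    have haa : Commute a a' := by
      have key : ∀ {v : G}, v ∈ V → v⁻¹ = v := fun {v} hv =>
        inv_eq_of_mul_eq_one_right (by rw [← sq]; exact hV v hv)
      calc a * a' = (a * a')⁻¹ := (key (V.mul_mem ha ha')).symm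
        _ = a' * a := by rw [mul_inv_rev, key ha, key ha']
    have c1 : Commute a (a' * b') := haa.mul_right (hc a ha b' hb')
    have c2 : Commute a' b := hc a' ha' b hb
    have e1 : ⁅a * b, a' * b'⁆ = b * b' * b⁻¹ * b'⁻¹ := by
      rw [commutatorElement_def]
      calc a * b * (a' * b') * (a * b)⁻¹ * (a' * b')⁻¹
          = a * (b * a') * b' * b⁻¹ * a⁻¹ * (a' * b')⁻¹ := by group
        _ = a * (a' * b) * b' * b⁻¹ * a⁻¹ * (a' * b')⁻¹ := by rw [c2.eq]
        _ = a * (a' * (b * b' * b⁻¹)) * a⁻¹ * (a' * b')⁻¹ := by group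
        _ = a' * (b * b' * b⁻¹) * (a' * b')⁻¹ := by
            rw [(show Commute a (a' * (b * b' * b⁻¹)) from haa.mul_right
              (hc a ha _ (L.mul_mem (L.mul_mem hb hb') (L.inv_mem hb)))).eq, mul_inv_cancel_right]
        _ = a' * (b * b' * b⁻¹ * b'⁻¹) * a'⁻¹ := by group
        _ = b * b' * b⁻¹ * b'⁻¹ := by
            rw [(show Commute a' (b * b' * b⁻¹ * b'⁻¹) from hc a' ha' _
              (L.mul_mem (L.mul_mem (L.mul_mem hb hb') (L.inv_mem hb)) (L.inv_mem hb'))).eq, mul_inv_cancel_right]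
    rw [e1]
    exact L.mul_mem (L.mul_mem (L.mul_mem hb hb') (L.inv_mem hb)) (L.inv_mem hb')
  · refine le_trans ?_ (Subgroup.commutator_mono hLC hLC)
    haveI : IsSimpleGroup A5 := alternatingGroup.isSimpleGroup (by rw [Nat.card_fin])
    haveI : IsSimpleGroup L := e.isSimpleGroup
    rw [← Subgroup.map_subtype_commutator]
    rcases (inferInstance : (commutator L).Normal).eq_bot_or_eq_top with hb | ht
    · exfalso
      haveI := (commutator_eq_bot_iff L).1 hb
      have h1 : ∀ g : A5, g = 1 := fun g => a5_center g fun k => by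
        apply e.symm.injective
        rw [map_mul, map_mul, mul_comm']
      have h2 : ∃ g : A5, g ≠ 1 := by decide +kernel
      exact h2.elim fun g hg => hg (h1 g)
    · rw [ht, ← MonoidHom.range_eq_map, Subgroup.range_subtype]

end

variable {z : G} {Q : Subgroup G}

set_option maxHeartbeats 600000 in
theorem four_normalizer (h : Hyp z Q) {t : G} (htz : Commute t z) (htt : t * t = 1) (htQ : t ∉ Q) :
    ∃ (V L : Subgroup G) (K0 : Subgroup G),
      Cfsg.IsInternalDirectProduct V L (Subgroup.centralizer ({t} : Set G)) ∧ Nat.card V = 4 ∧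
      (∀ v ∈ V, v ^ 2 = 1) ∧ t ∈ V ∧ Nonempty (↥L ≃* A5) ∧ z ∈ L ∧
      (∀ v ∈ V, v ≠ 1 → IsConj t v ∧ Subgroup.centralizer ({v} : Set G) = Subgroup.centralizer ({t} : Set G)) ∧
      V ≤ K0 ∧ Nat.card K0 = 12 ∧ (∀ k ∈ K0, ∀ l ∈ L, k * l = l * k) ∧
      Nat.card (Subgroup.normalizer (V : Set G)) = 720 ∧
      Nonempty (↥K0 ≃* alternatingGroup (Fin 4)) ∧
      Nonempty (↥(Subgroup.normalizer (V : Set G)) ≃* ↥K0 × ↥L) ∧
      K0 ≤ Subgroup.normalizer (V : Set G) := by
  classical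
  haveI : Fact (Nat.Prime 2) := ⟨Nat.prime_two⟩
  haveI : Fact (Nat.Prime 3) := ⟨Nat.prime_three⟩
  obtain ⟨V, L, hVL, hV4, hV2, htV, hVA, ⟨e⟩, hzL, hLz, hout⟩ := second h htz htt htQ
  obtain ⟨hVH, hLH, hcomm, hdis, hsup⟩ := id hVL
  have ht1 : t ≠ 1 := fun e' => htQ (e' ▸ Q.one_mem)
  have h60 : Nat.card L = 60 := by
    rw [Nat.card_congr e.toEquiv, nat_card_alternatingGroup, Nat.card_fin]; rfl
  have hsq : ∀ v ∈ V, v * v = 1 := fun v hv => by rw [← sq]; exact hV2 v hv
  have hd := derived_eq hVL e hV2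
  -- every involution of `V` has the same centralizer
  have hall : ∀ v ∈ V, v ≠ 1 →
      IsConj t v ∧ Subgroup.centralizer ({v} : Set G) = Subgroup.centralizer ({t} : Set G) := by
    intro v hv hv1
    have hvL : v ∉ L := fun hvL => hv1 (Subgroup.mem_bot.1 (hdis ▸ ⟨hv, hvL⟩))
    have hvt : IsConj v t := hout v (hVH hv) (HallJankoPairs.ord_of (hsq v hv) hv1) hvL
    have hvz : Commute v z := (mem_aux.1 (hVA hv)).2
    have hvQ : v ∉ Q := fun hvQ => outer_not_conj h htz htt htQ ((core_conj h hvQ (hsq v hv) hv1).trans hvt)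
    obtain ⟨V', L', hVL', hV4', hV2', -, -, ⟨e'⟩, -, -, -⟩ := second h hvz (hsq v hv) hvQ
    have hd' := derived_eq hVL' e' hV2'
    have hLC : L ≤ Subgroup.centralizer ({v} : Set G) := fun l hl => mem_cent.2 (hcomm v hv l hl).symm
    have h60' : Nat.card L' = 60 := by
      rw [Nat.card_congr e'.toEquiv, nat_card_alternatingGroup, Nat.card_fin]; rfl
    have hLL : L = L' := by
      refine Subgroup.eq_of_le_of_card_ge ?_ (by rw [h60, h60'])
      rw [← hd']
      refine le_trans ?_ (Subgroup.commutator_mono hLC hLC)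
      rw [← Subgroup.map_subtype_commutator]
      haveI : IsSimpleGroup A5 := alternatingGroup.isSimpleGroup (by rw [Nat.card_fin])
      haveI : IsSimpleGroup L := e.isSimpleGroup
      rcases (inferInstance : (commutator L).Normal).eq_bot_or_eq_top with hb | ht
      · exfalso
        haveI := (commutator_eq_bot_iff L).1 hb
        have h1 : ∀ g : A5, g = 1 := fun g => a5_center g fun k => by
          apply e.symm.injective
          rw [map_mul, map_mul, mul_comm']
        have h2 : ∃ g : A5, g ≠ 1 := by decide +kernel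
        exact h2.elim fun g hg => hg (h1 g)
      · rw [ht, ← MonoidHom.range_eq_map, Subgroup.range_subtype]
    have hVV : V ≤ V' := fun w hw => by
      refine cent_factor hVL' e' (mem_cent.2 ?_) fun l hl => hcomm w hw l (hLL ▸ hl)
      have key : ∀ {x : G}, x ∈ V → x⁻¹ = x := fun {x} hx => inv_eq_of_mul_eq_one_right (hsq x hx)
      show w * v = v * w
      calc w * v = (w * v)⁻¹ := (key (V.mul_mem hw hv)).symm
        _ = v * w := by rw [mul_inv_rev, key hw, key hv]
    have hVeq : V = V' := Subgroup.eq_of_le_of_card_ge hVV (by rw [hV4, hV4'])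
    exact ⟨hvt.symm, by rw [← hVL'.2.2.2.2, ← hVeq, ← hLL, hsup]⟩
  set N := Subgroup.normalizer (V : Set G) with hN
  have hVcomm : ∀ v ∈ V, ∀ w ∈ V, w * v * w⁻¹ = v := fun v hv w hw => by
    have key : ∀ {x : G}, x ∈ V → x⁻¹ = x := fun {x} hx => inv_eq_of_mul_eq_one_right (hsq x hx)
    have : w * v = v * w := by
      calc w * v = (w * v)⁻¹ := (key (V.mul_mem hw hv)).symm
        _ = v * w := by rw [mul_inv_rev, key hw, key hv]
    rw [this, mul_inv_cancel_right]
  have hHN : Subgroup.centralizer ({t} : Set G) ≤ N := by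
    intro x hx
    obtain ⟨a, ha, b, hb, rfl⟩ := internal_decomp hVL x hx
    refine N.mul_mem (Subgroup.le_normalizer ha) ?_
    rw [hN, Subgroup.mem_normalizer_iff]
    intro v
    constructor
    · intro hv
      rw [← hcomm v hv b hb, mul_inv_cancel_right]; exact hv
    · intro hv
      have : b * v * b⁻¹ = v := by
        have h1 := hcomm _ hv b hb
        have h2 : b⁻¹ * (b * v * b⁻¹ * b) = b⁻¹ * (b * (b * v * b⁻¹)) := by rw [h1]
        calc b * v * b⁻¹ = b⁻¹ * (b * (b * v * b⁻¹)) := by group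
          _ = b⁻¹ * (b * v * b⁻¹ * b) := h2.symm
          _ = v := by group
      exact this ▸ hv
  -- transitivity on the involutions of `V`
  have htrans : ∀ v ∈ V, v ≠ 1 → ∃ g ∈ N, g * t * g⁻¹ = v := by
    intro v hv hv1
    obtain ⟨hcv, hCv⟩ := hall v hv hv1
    obtain ⟨g, hg⟩ := isConj_iff.1 hcv
    have hmem : ∀ x : G, x ∈ Subgroup.centralizer ({t} : Set G) ↔
        g * x * g⁻¹ ∈ Subgroup.centralizer ({t} : Set G) := by
      intro x
      conv_rhs => rw [← hCv]
      rw [mem_cent, mem_cent, ← hg, Commute.conj_iff]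
    have hmap : (Subgroup.centralizer ({t} : Set G)).map (MulAut.conj g).toMonoidHom =
        Subgroup.centralizer ({t} : Set G) := by
      ext x
      rw [mem_conj_map, hmem (g⁻¹ * x * g), show g * (g⁻¹ * x * g) * g⁻¹ = x by group]
    have hLmap : L.map (MulAut.conj g).toMonoidHom = L := by
      rw [← hd, Subgroup.map_commutator, hmap]
    refine ⟨g, Subgroup.mem_normalizer_iff.2 fun w => ⟨fun hw => ?_, fun hw => ?_⟩, hg⟩
    · refine cent_factor hVL e ((hmem w).1 (hVH hw)) fun l hl => ?_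
      obtain ⟨l', hl', rfl⟩ := hLmap.ge hl
      exact (Commute.conj_iff g).2 (hcomm w hw l' hl')
    · refine cent_factor hVL e ((hmem w).2 (hVH hw)) fun l hl => ?_
      have := hcomm _ hw (g * l * g⁻¹) (hLmap.le ⟨l, hl, rfl⟩)
      exact (Commute.conj_iff g).1 this
  -- the order of the normaliser
  have h240 : Nat.card (Subgroup.centralizer ({t} : Set G)) = 240 := card_cent_two h htz htt htQ
  letI : MulAction N {v : G // v ∈ V ∧ v ≠ 1} :=
    { smul := fun n v => ⟨(n : G) * v * (n : G)⁻¹, (Subgroup.mem_normalizer_iff.1 n.2 v).1 v.2.1,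
        fun e' => v.2.2 (conj_eq_one_iff.1 e')⟩
      one_smul := fun v => Subtype.ext (show ((1 : N) : G) * v * ((1 : N) : G)⁻¹ = v by simp)
      mul_smul := fun a b v => Subtype.ext (show ((a * b : N) : G) * v * ((a * b : N) : G)⁻¹ =
        (a : G) * ((b : G) * v * (b : G)⁻¹) * (a : G)⁻¹ by simp [mul_assoc]) }
  haveI : MulAction.IsPretransitive N {v : G // v ∈ V ∧ v ≠ 1} := ⟨fun x y => by
    obtain ⟨a, ha, ea⟩ := htrans x x.2.1 x.2.2
    obtain ⟨b, hb, eb⟩ := htrans y y.2.1 y.2.2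
    refine ⟨⟨b * a⁻¹, N.mul_mem hb (N.inv_mem ha)⟩, Subtype.ext ?_⟩
    show b * a⁻¹ * (x : G) * (b * a⁻¹)⁻¹ = y
    rw [← ea, ← eb]; group⟩
  set T : {v : G // v ∈ V ∧ v ≠ 1} := ⟨t, htV, ht1⟩
  have hstab : Nat.card (MulAction.stabilizer N T) = 240 := by
    rw [← h240]
    exact Nat.card_congr
      { toFun := fun c => ⟨((c : N) : G), mem_cent.2 (mul_inv_eq_iff_eq_mul.1 (congrArg Subtype.val c.2 :))⟩
        invFun := fun c => ⟨⟨c, hHN c.2⟩, Subtype.ext
          (show (c : G) * t * (c : G)⁻¹ = t by rw [(mem_cent.1 c.2).eq, mul_inv_cancel_right])⟩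
        left_inv := fun c => rfl
        right_inv := fun c => rfl }
  have h3 : Nat.card {v : G // v ∈ V ∧ v ≠ 1} = 3 := by
    haveI : Fintype G := Fintype.ofFinite G
    have : (Finset.univ.filter fun v => v ∈ V).card = 4 := by
      rw [← hV4, Nat.card_eq_fintype_card]
      exact (Fintype.card_subtype _).symm
    rw [Nat.card_eq_fintype_card, Fintype.card_subtype,
      show (Finset.univ.filter fun v => v ∈ V ∧ v ≠ 1) = (Finset.univ.filter fun v => v ∈ V).erase 1 by
        ext x; simp [and_comm],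
      Finset.card_erase_of_mem (by simp [V.one_mem]), this]
  have h720 : Nat.card N = 720 := by
    rw [← (MulAction.stabilizer N T).card_mul_index, MulAction.index_stabilizer_of_transitive N T, hstab, h3]
  -- the action on `L`
  have hLN : L ≤ N := hLH.trans hHN
  have hLnorm : (L.subgroupOf N).Normal := by
    refine ⟨fun l hl n => ?_⟩
    rw [Subgroup.mem_subgroupOf] at hl ⊢
    have hconj : ∀ x, x ∈ Subgroup.centralizer ({t} : Set G) →
        (n : G) * x * (n : G)⁻¹ ∈ Subgroup.centralizer ({t} : Set G) := by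
      intro x hx
      have hv : (n : G) * t * (n : G)⁻¹ ∈ V := (Subgroup.mem_normalizer_iff.1 n.2 t).1 htV
      rw [← (hall _ hv fun e' => ht1 (conj_eq_one_iff.1 e')).2]
      exact mem_cent.2 ((Commute.conj_iff (n : G)).2 (mem_cent.1 hx))
    have hle : L.map (MulAut.conj (n : G)).toMonoidHom ≤ L := by
      conv_lhs => rw [← hd, Subgroup.map_commutator]
      conv_rhs => rw [← hd]
      exact Subgroup.commutator_mono (fun _ ⟨x, hx, e'⟩ => e' ▸ hconj x hx) (fun _ ⟨x, hx, e'⟩ => e' ▸ hconj x hx)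
    exact hle ⟨_, hl, rfl⟩
  set L2 := L.subgroupOf N with hL2
  let e2 : L2 ≃* A5 := (Subgroup.subgroupOfEquivOfLe hLN).trans e
  let b : Perm (Fin 5) ≃* MulAut A5 :=
    MulEquiv.ofBijective _ (Cfsg.Agent.S2119.result 5 (by norm_num) (by norm_num))
  let j : N →* Perm (Fin 5) := b.symm.toMonoidHom.comp ((MulAut.congr e2).toMonoidHom.comp MulAut.conjNormal)
  have hjker : ∀ x : N, j x = 1 ↔ ∀ l ∈ L, (x : G) * l = l * x := by
    intro x
    have : j x = 1 ↔ (MulAut.conjNormal x : MulAut L2) = 1 := by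
      show b.symm ((MulAut.congr e2) (MulAut.conjNormal x)) = 1 ↔ _
      rw [MulEquiv.map_eq_one_iff, MulEquiv.map_eq_one_iff]
    rw [this]
    refine ⟨fun hx l hl => ?_, fun hx => MulEquiv.ext fun l => Subtype.ext ?_⟩
    · have := congrArg (fun y : L2 => ((y : N) : G)) (DFunLike.congr_fun hx ⟨⟨l, hLN hl⟩, hl⟩)
      rw [MulAut.conjNormal_apply] at this
      exact mul_inv_eq_iff_eq_mul.1 this
    · rw [MulAut.conjNormal_apply]
      refine Subtype.ext ?_
      show (x : G) * ((l : N) : G) * (x : G)⁻¹ = ((l : N) : G)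
      rw [show (x : G) * ((l : N) : G) = ((l : N) : G) * x from hx _ l.2, mul_inv_cancel_right]
  set K1 := j.ker with hK1
  set K0 := K1.map N.subtype with hK0
  have hVN : V ≤ N := Subgroup.le_normalizer
  have hVK : V ≤ K0 := fun v hv => ⟨⟨v, hVN hv⟩, (hjker _).2 fun l hl => hcomm v hv l hl, rfl⟩
  have hK0L : ∀ k ∈ K0, ∀ l ∈ L, k * l = l * k := by
    rintro _ ⟨k, hk, rfl⟩ l hl
    exact (hjker k).1 hk l hl
  have hKL : K0 ⊓ L = ⊥ := by
    rw [Subgroup.eq_bot_iff_forall]
    rintro x ⟨hx, hxL⟩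
    exact eq_one_of_central hVL e hxL fun l hl => hK0L x hx l hl
  have hr60 : 60 ≤ Nat.card j.range := by
    rw [← h60]
    refine Nat.card_le_card_of_injective (fun l : L => (⟨j ⟨l, hLN l.2⟩, ⟨_, rfl⟩⟩ : j.range)) fun l l' e' => ?_
    have he : j ⟨l, hLN l.2⟩ = j ⟨l', hLN l'.2⟩ := congrArg Subtype.val e'
    have hm : (l : G)⁻¹ * l' ∈ K0 ⊓ L := ⟨⟨(⟨l, hLN l.2⟩ : N)⁻¹ * ⟨l', hLN l'.2⟩, by
      show _ ∈ j.ker
      rw [MonoidHom.mem_ker, map_mul, map_inv, he, inv_mul_cancel], rfl⟩, L.mul_mem (L.inv_mem l.2) l'.2⟩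
    rw [hKL, Subgroup.mem_bot] at hm
    exact Subtype.ext (inv_mul_eq_one.1 hm)
  have hK12 : Nat.card K0 = 12 := by
    have h4 : 4 ∣ Nat.card K0 := hV4 ▸ Subgroup.card_dvd_of_le hVK
    have e1 := j.ker.card_mul_index
    rw [Subgroup.index_ker, h720, ← hK1, ← Subgroup.card_map_of_injective N.subtype_injective, ← hK0] at e1
    have e2 : Nat.card j.range ∣ 120 := by
      have := Subgroup.card_subgroup_dvd_card j.range
      rwa [Nat.card_perm, Nat.card_fin] at this
    obtain ⟨k, hk⟩ := e2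
    obtain ⟨c, hc⟩ := h4
    have hk2 : k = 1 ∨ k = 2 := by
      rcases k with _ | _ | _ | k
      · omega
      · exact Or.inl rfl
      · exact Or.inr rfl
      · exfalso; nlinarith
    rcases hk2 with rfl | rfl
    · exfalso
      rw [show Nat.card j.range = 120 by omega, hc] at e1
      omega
    · nlinarith
  -- `K0 ≅ A₄`
  obtain ⟨x, hx⟩ := exists_prime_orderOf_dvd_card' (G := K0) 3 (by rw [hK12]; norm_num)
  set X := Subgroup.zpowers x with hX
  have hX3 : Nat.card X = 3 := by rw [hX, Nat.card_zpowers, hx]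
  have hXi : X.index = 4 := by
    have := X.card_mul_index
    rw [hX3, hK12] at this
    omega
  let ρ : K0 →* Perm (K0 ⧸ X) := MulAction.toPermHom K0 (K0 ⧸ X)
  have hρ : Function.Injective ρ := by
    rw [← MonoidHom.ker_eq_bot_iff, ← Subgroup.normalCore_eq_ker]
    rcases (Nat.dvd_prime Nat.prime_three).1 (hX3 ▸ Subgroup.card_dvd_of_le X.normalCore_le) with h1 | h1
    · exact Subgroup.eq_bot_of_card_eq _ h1
    exfalso
    have hXn : X.Normal := by
      rw [← Subgroup.eq_of_le_of_card_ge X.normalCore_le (by rw [h1, hX3])]; infer_instance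
    set tt : K0 := ⟨t, hVK htV⟩
    have hVn : (V.subgroupOf K0).Normal := ⟨fun v hv k => by
      obtain ⟨k', -, hk'⟩ := k.2
      have hkN : ((k : K0) : G) ∈ N := hk' ▸ k'.2
      exact (Subgroup.mem_normalizer_iff.1 hkN _).1 hv⟩
    have hXV : Disjoint X (V.subgroupOf K0) := by
      rw [disjoint_iff]
      refine Subgroup.inf_eq_bot_of_coprime ?_
      rw [hX3, Nat.card_congr (Subgroup.subgroupOfEquivOfLe hVK).toEquiv, hV4]
      norm_num
    have hc := Subgroup.commute_of_normal_of_disjoint X (V.subgroupOf K0) hXn hVn hXV x tt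
      (Subgroup.mem_zpowers x) htV
    have hxt : Commute (x : G) t := congrArg Subtype.val hc.eq
    have hxV : (x : G) ∈ V := cent_factor hVL e (mem_cent.2 hxt) fun l hl => hK0L _ x.2 l hl
    have h2 : orderOf (x : G) ∣ 2 := orderOf_dvd_of_pow_eq_one (hV2 _ hxV)
    rw [Subgroup.orderOf_coe, hx] at h2
    norm_num at h2
  have e4 : Nonempty (↥K0 ≃* alternatingGroup (Fin 4)) := by
    let q : K0 ⧸ X ≃ Fin 4 := Finite.equivFinOfCardEq (by rw [← Subgroup.index_eq_card, hXi])
    let ρ' : K0 →* Perm (Fin 4) := q.permCongrHom.toMonoidHom.comp ρ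
    have hρ' : Function.Injective ρ' := q.permCongrHom.injective.comp hρ
    have hr := Subgroup.card_mul_index ρ'.range
    rw [← Nat.card_congr (MonoidHom.ofInjective hρ').toEquiv, hK12, Nat.card_perm, Nat.card_fin] at hr
    have : ρ'.range.index = 2 := by
      simp only [show Nat.factorial 4 = 24 from rfl] at hr
      omega
    exact ⟨(MonoidHom.ofInjective hρ').trans
      (MulEquiv.subgroupCongr (Equiv.Perm.eq_alternatingGroup_of_index_eq_two this))⟩
  exact ⟨V, L, K0, hVL, hV4, hV2, htV, ⟨e⟩, hzL, hall, hVK, hK12, hK0L, h720, e4,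
    prod_equiv (Subgroup.map_subtype_le _) hLN hK0L hKL (by rw [hK12, h60, h720]), Subgroup.map_subtype_le _⟩

theorem at_invol (h : Hyp z Q) {t : G} (ht : orderOf t = 2) (htz : ¬ IsConj t z) :
    ∃ (z' : G) (Q' : Subgroup G), Hyp z' Q' ∧ IsConj z z' ∧ Commute t z' ∧ t * t = 1 ∧ t ∉ Q' := by
  obtain ⟨htt, ht1⟩ := HallJankoPairs.ord_two ht
  obtain ⟨t₀, h0z, h0t, h0Q⟩ := exists_outer h
  obtain ⟨g, rfl⟩ := isConj_iff.1 ((two_classes h h0z h0t h0Q htt ht1).resolve_left fun e => htz e.symm)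
  refine ⟨g * z * g⁻¹, _, h.conj g, isConj_iff.2 ⟨g, rfl⟩, (Commute.conj_iff g).2 h0z, htt, fun hm => h0Q ?_⟩
  have := mem_conj_map.1 hm
  rwa [show g⁻¹ * (g * t₀ * g⁻¹) * g = t₀ by group] at this

/-- `O₂(C(t))` is the four group -/
theorem pcore_eq {t : G} {V L : Subgroup G}
    (hVL : Cfsg.IsInternalDirectProduct V L (Subgroup.centralizer ({t} : Set G))) (e : ↥L ≃* A5)
    (hV4 : Nat.card V = 4) :
    (Cfsg.pCore 2 ↥(Subgroup.centralizer ({t} : Set G))).map (Subgroup.centralizer ({t} : Set G)).subtype = V := by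
  haveI : Fact (Nat.Prime 2) := ⟨Nat.prime_two⟩
  obtain ⟨hVH, hLH, hcomm, hdis, -⟩ := id hVL
  have hVn : (V.subgroupOf (Subgroup.centralizer ({t} : Set G))).Normal := ⟨fun v hv x => by
    rw [Subgroup.mem_subgroupOf] at hv ⊢
    obtain ⟨a, ha, b, hb, hx⟩ := internal_decomp hVL _ x.2
    show (x : G) * v * (x : G)⁻¹ ∈ V
    rw [← hx, show a * b * (v : G) * (a * b)⁻¹ = a * (b * (v : G) * b⁻¹) * a⁻¹ by group, ← hcomm _ hv b hb,
      mul_inv_cancel_right]
    exact V.mul_mem (V.mul_mem ha hv) (V.inv_mem ha)⟩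
  have hLn : (L.subgroupOf (Subgroup.centralizer ({t} : Set G))).Normal := ⟨fun l hl x => by
    rw [Subgroup.mem_subgroupOf] at hl ⊢
    obtain ⟨a, ha, b, hb, hx⟩ := internal_decomp hVL _ x.2
    show (x : G) * l * (x : G)⁻¹ ∈ L
    rw [← hx, show a * b * (l : G) * (a * b)⁻¹ = a * (b * (l : G) * b⁻¹) * a⁻¹ by group,
      hcomm a ha _ (L.mul_mem (L.mul_mem hb hl) (L.inv_mem hb)), mul_inv_cancel_right]
    exact L.mul_mem (L.mul_mem hb hl) (L.inv_mem hb)⟩
  set P := Cfsg.pCore 2 ↥(Subgroup.centralizer ({t} : Set G)) with hP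
  haveI : P.Normal := Solv.pCore_normal 2
  have hVp : IsPGroup 2 (V.subgroupOf (Subgroup.centralizer ({t} : Set G))) := IsPGroup.of_card (n := 2) (by
    rw [Nat.card_congr (Subgroup.subgroupOfEquivOfLe hVH).toEquiv, hV4]; rfl)
  refine le_antisymm ?_ fun v hv => ⟨⟨v, hVH hv⟩, Fusion.le_pCore hVp hv, rfl⟩
  -- the core meets `L` trivially
  haveI : IsSimpleGroup A5 := alternatingGroup.isSimpleGroup (by rw [Nat.card_fin])
  haveI : IsSimpleGroup L := e.isSimpleGroup
  have hinf : Disjoint P (L.subgroupOf (Subgroup.centralizer ({t} : Set G))) := by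
    rw [Subgroup.disjoint_def]
    intro x hxP hxL
    have hn : ((P.map (Subgroup.centralizer ({t} : Set G)).subtype).subgroupOf L).Normal := ⟨fun y hy l => by
      obtain ⟨p, hp, e'⟩ := hy
      refine ⟨⟨l, hLH l.2⟩ * p * (⟨l, hLH l.2⟩)⁻¹, Subgroup.Normal.conj_mem inferInstance p hp _, ?_⟩
      show (l : G) * (p : G) * (l : G)⁻¹ = ((l * y * l⁻¹ : L) : G)
      rw [show (p : G) = (y : G) from e']; rfl⟩
    rcases hn.eq_bot_or_eq_top with hb | ht
    · have : (⟨(x : G), hxL⟩ : L) ∈ (P.map (Subgroup.centralizer ({t} : Set G)).subtype).subgroupOf L := ⟨x, hxP, rfl⟩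
      rw [hb, Subgroup.mem_bot] at this
      exact Subtype.ext (congrArg (fun v : L => (v : G)) this :)
    · exfalso
      rw [Subgroup.subgroupOf_eq_top] at ht
      have h2 : IsPGroup 2 L := ((Fusion.isPGroup_pCore 2 _).map _).to_le ht
      obtain ⟨n, hn'⟩ := h2.exists_card_eq
      rw [Nat.card_congr e.toEquiv, nat_card_alternatingGroup, Nat.card_fin] at hn'
      have h3 : 3 ∣ 2 ^ n := hn' ▸ (by decide)
      exact absurd (Nat.prime_three.dvd_of_dvd_pow h3) (by norm_num)
  rintro _ ⟨p, hp, rfl⟩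
  refine cent_factor hVL e p.2 fun l hl => ?_
  exact congrArg Subtype.val
    (Subgroup.commute_of_normal_of_disjoint P _ inferInstance hLn hinf p ⟨l, hLH hl⟩ hp hl).eq

end Cfsg.Agent.Lie.HJType
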