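import Mathlib
import Cfsg.Agent.Lib.Lie.HJType.Frame
import Cfsg.Agent.Lib.Classical.OrthSymmetric
import Cfsg.Agent.Lib.Solv.Component
import Cfsg.Prelude.Def_Classical

/-!
Groups of Hall–Janko type: from the printed hypothesis to the internal one.
-/

set_option autoImplicit false
set_option linter.style.haveILetI false
set_option linter.unusedSectionVars false

namespace Cfsg.Agent.Lie.HJType

universe u

theorem omega_equiv_alt :
    Nonempty (↥(Cfsg.Omega (ZMod 2) (Cfsg.quadFormMinus 1 (ZMod 2) 1 1)) ≃* alternatingGroup (Fin 5)) := by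
  obtain ⟨f⟩ := Cfsg.Agent.Classical.OSymm.equiv_five
  refine ⟨(Subgroup.equivMapOfInjective _ f.toMonoidHom f.injective).trans (MulEquiv.subgroupCongr ?_)⟩
  show (commutator _).map f.toMonoidHom = _
  rw [commutator_def, Subgroup.map_commutator, Subgroup.map_top_of_surjective _ f.surjective, ← commutator_def]
  exact alternatingGroup.commutator_perm_eq (by simp)

theorem hyp_of_statement {G : Type u} [Group G] [Finite G] (z : G) (hz : orderOf z = 2)
    (Q : Subgroup (Subgroup.centralizer ({z} : Set G))) [Q.Normal]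
    (hF : Cfsg.generalizedFittingSubgroup (Subgroup.centralizer ({z} : Set G)) = Q)
    (hQ : Cfsg.IsExtraspecial 2 Q) (hcard : Nat.card Q = 2 ^ 5)
    (e : (Subgroup.centralizer ({z} : Set G)) ⧸ Q ≃* Cfsg.Omega (ZMod 2) (Cfsg.quadFormMinus 1 (ZMod 2) 1 1))
    (hnwc : ∃ g : G, (∃ hq : g * z * g⁻¹ ∈ Subgroup.centralizer ({z} : Set G),
      (⟨g * z * g⁻¹, hq⟩ : Subgroup.centralizer ({z} : Set G)) ∈ Q) ∧ g * z * g⁻¹ ≠ z)
    (hcl : ∃ x y : G, orderOf x = 2 ∧ orderOf y = 2 ∧ ¬ IsConj x y) :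
    Hyp z (Q.map (Subgroup.centralizer ({z} : Set G)).subtype) := by
  haveI : Fact (Nat.Prime 2) := ⟨Nat.prime_two⟩
  have hQp : IsPGroup 2 Q := hQ.1.1
  have hcore : Q = Cfsg.pCore 2 (Subgroup.centralizer ({z} : Set G)) := by
    refine le_antisymm (Fusion.le_pCore hQp) ?_
    rw [← hF]
    haveI : (Cfsg.pCore 2 (Subgroup.centralizer ({z} : Set G))).Normal := Solv.pCore_normal 2
    refine le_trans ?_ le_sup_right
    exact le_sSup ⟨inferInstance, (Fusion.isPGroup_pCore 2 (Subgroup.centralizer ({z} : Set G))).isNilpotent⟩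
  set E := Q.map (Subgroup.centralizer ({z} : Set G)).subtype with hE
  have hext : Cfsg.IsExtraspecial 2 E :=
    HallJankoPairs.extraspecial_congr (Subgroup.equivMapOfInjective _ (Subgroup.centralizer ({z} : Set G)).subtype (Subgroup.centralizer ({z} : Set G)).subtype_injective) hQ
  have hEcard : Nat.card E = 32 := by
    rw [hE, Subgroup.card_map_of_injective (Subgroup.centralizer ({z} : Set G)).subtype_injective, hcard]; norm_num
  have hcentQ : Subgroup.centralizer (Q : Set (Subgroup.centralizer ({z} : Set G))) ≤ Q := hF ▸ Solv.centralizer_gfit_le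
  have hzC : z ∈ (Subgroup.centralizer ({z} : Set G)) := Subgroup.mem_centralizer_singleton_iff.2 rfl
  have hzQ : (⟨z, hzC⟩ : (Subgroup.centralizer ({z} : Set G))) ∈ Q := hcentQ (Subgroup.mem_centralizer_iff.2 fun q _ => Subtype.ext
    (Subgroup.mem_centralizer_singleton_iff.1 q.2))
  have hcent : Subgroup.centralizer (E : Set G) ≤ E := by
    intro x hx
    have hxC : x ∈ (Subgroup.centralizer ({z} : Set G)) := Subgroup.mem_centralizer_singleton_iff.2
      (Subgroup.mem_centralizer_iff.1 hx z ⟨⟨z, hzC⟩, hzQ, rfl⟩).symm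
    exact ⟨⟨x, hxC⟩, hcentQ (Subgroup.mem_centralizer_iff.2 fun q hq => Subtype.ext
      (Subgroup.mem_centralizer_iff.1 hx q ⟨q, hq, rfl⟩)), rfl⟩
  obtain ⟨a⟩ := omega_equiv_alt
  refine ⟨CentTransfer.setting_of hz (hE.trans (by rw [hcore])) hext hcent, hEcard,
    ⟨(e.trans a).toMonoidHom.comp (QuotientGroup.mk' Q), (e.trans a).surjective.comp (QuotientGroup.mk'_surjective Q), ?_⟩,
    ?_, hcl⟩
  · ext x
    rw [MonoidHom.mem_ker, hE, Subgroup.mem_subgroupOf]
    show (e.trans a) (QuotientGroup.mk x) = 1 ↔ _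
    rw [MulEquiv.map_eq_one_iff, QuotientGroup.eq_one_iff]
    exact (Subgroup.mem_map_iff_mem (Subgroup.centralizer ({z} : Set G)).subtype_injective (x := x)).symm
  · obtain ⟨g, ⟨hq, hgQ⟩, hne⟩ := hnwc
    exact ⟨g * z * g⁻¹, ⟨⟨_, hq⟩, hgQ, rfl⟩, hne, isConj_iff.2 ⟨g, rfl⟩⟩

end Cfsg.Agent.Lie.HJType
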