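import Mathlib
import Cfsg.Agent.Lib.Lie.HJType.FourNormalizer

/-!
Groups of Hall–Janko type: elements of order five and the Sylow 5-subgroups.
-/

set_option autoImplicit false
set_option linter.style.haveILetI false
set_option linter.unusedSectionVars false
set_option linter.constructorNameAsVariable false

namespace Cfsg.Agent.Lie.HJType

open Equiv

universe u

local notation "A5" => alternatingGroup (Fin 5)

theorem a5_five_cent : ∀ g : A5, g ^ 5 = 1 → g ≠ 1 → ∀ h : A5, h * g = g * h → ∃ k : Fin 5, g ^ (k : ℕ) = h := by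
  decide +kernel

theorem a5_five_vec : ∀ g : A5, g ^ 5 = 1 → g ≠ 1 → ∀ v, Even5 v → actv g v = v → v = 0 := by decide +kernel

theorem a5_five_norm : ∀ g : A5, g ^ 5 = 1 → g ≠ 1 →
    Fintype.card {h : A5 // ∃ k : Fin 5, h * g * h⁻¹ = g ^ (k : ℕ)} = 10 := by decide +kernel

variable {G : Type u} [Group G] [Finite G] {z : G} {Q : Subgroup G}

/-- in `C(z)` the centralizer of an element of order five has one involution only -/
theorem cent5 (h : Hyp z Q) {k x : G} (hk : Commute k z) (hx : Commute x z) (ho : orderOf k = 5)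
    (hkx : Commute k x) {n : ℕ} (hxn : x ^ 2 ^ n = 1) : x = 1 ∨ x = z := by
  haveI : Fact (Nat.Prime 2) := ⟨Nat.prime_two⟩
  haveI : Fact (Nat.Prime 5) := ⟨by norm_num⟩
  obtain ⟨F⟩ := exists_frame h
  set g := F.π (cen z hk) with hg
  have hg5 : g ^ 5 = 1 := by
    rw [hg, ← map_pow, show cen z hk ^ 5 = 1 from Subtype.ext (by rw [Subgroup.coe_pow]; show k ^ 5 = 1; rw [← ho, pow_orderOf_eq_one]), map_one]
  have hg1 : g ≠ 1 := fun e => by
    have hkQ : k ∈ Q := (F.ker _).1 e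
    obtain ⟨m, hm⟩ := IsPGroup.iff_orderOf.1 h.S.two ⟨k, hkQ⟩
    rw [Subgroup.orderOf_mk, ho] at hm
    rcases m with _ | m
    · norm_num at hm
    · have : 2 ∣ 5 := ⟨2 ^ m, by rw [hm, pow_succ']⟩
      norm_num at this
  obtain ⟨j, hj⟩ := a5_five_cent g hg5 hg1 (F.π (cen z hx)) (by
    rw [hg, ← map_mul, ← map_mul]; exact congrArg F.π (Subtype.ext hkx.symm.eq))
  have hπ1 : F.π (cen z hx) = 1 := by
    rw [← orderOf_eq_one_iff]
    refine Nat.eq_one_of_dvd_coprimes (a := 2 ^ n) (b := 5) (Nat.Coprime.pow_left n (by norm_num)) ?_ ?_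
    · refine orderOf_dvd_of_pow_eq_one ?_
      rw [← map_pow, show cen z hx ^ 2 ^ n = 1 from Subtype.ext hxn, map_one]
    · refine orderOf_dvd_of_pow_eq_one ?_
      rw [← hj, ← pow_mul, mul_comm, pow_mul, hg5, one_pow]
  have hxQ : x ∈ Q := (F.ker _).1 hπ1
  have hv : actv g (F.vec x) = F.vec x := by
    rw [hg, ← F.vconj (cen z hk) hxQ]
    show F.vec (k * x * k⁻¹) = _
    rw [hkx.eq, mul_inv_cancel_right]
  exact F.vec_facts.2 x hxQ (a5_five_vec g hg5 hg1 _ (F.vec_facts.1 x hxQ) hv)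

/-- elements of order five commuting with an involution of the second class -/
def DType (z d : G) : Prop := orderOf d = 5 ∧ ∃ j : G, orderOf j = 2 ∧ ¬ IsConj j z ∧ Commute d j

/-- elements of order five commuting with a conjugate of `z` -/
def KType (z k : G) : Prop := orderOf k = 5 ∧ ∃ j : G, IsConj z j ∧ Commute k j

theorem cent5_at (h : Hyp z Q) {j k x : G} (hj : IsConj z j) (hk : Commute k j) (ho : orderOf k = 5)
    (hx : Commute x j) (hkx : Commute k x) {n : ℕ} (hxn : x ^ 2 ^ n = 1) : x = 1 ∨ x = j := by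
  obtain ⟨Qj, hj'⟩ := hyp_at h hj
  exact cent5 hj' hk hx ho hkx hxn

/-- a two-subgroup centralizing an element of order five and containing a conjugate of `z` has order two -/
theorem two_bound (h : Hyp z Q) {j k : G} (hj : IsConj z j) (ho : orderOf k = 5) {S : Subgroup G}
    (hS : IsPGroup 2 S) (hSk : ∀ x ∈ S, Commute k x) (hjS : j ∈ S) : Nat.card S ≤ 2 := by
  classical
  haveI : Fact (Nat.Prime 2) := ⟨Nat.prime_two⟩
  have hjj : j * j = 1 := by
    obtain ⟨g, rfl⟩ := isConj_iff.1 hj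
    rw [conj_mul, h.S.xt.sq, mul_one, mul_inv_cancel]
  have hj1 : j ≠ 1 := by
    obtain ⟨g, rfl⟩ := isConj_iff.1 hj
    exact fun e => h.S.xt.ne (conj_eq_one_iff.1 e)
  have hcase : ∀ x ∈ S, Commute x j → x = 1 ∨ x = j := fun x hx hc => by
    obtain ⟨n, hn⟩ := hS ⟨x, hx⟩
    exact cent5_at h hj (hSk j hjS) ho hc (hSk x hx) (n := n) (congrArg Subtype.val hn :)
  by_contra hlt
  haveI : Nontrivial S := ⟨⟨⟨j, hjS⟩, 1, fun e => hj1 (congrArg Subtype.val e)⟩⟩
  haveI : Nontrivial (Subgroup.center S) := hS.center_nontrivial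
  obtain ⟨c, hc1⟩ := exists_ne (1 : Subgroup.center S)
  have hcj : Commute ((c : S) : G) j :=
    congrArg Subtype.val ((Subgroup.mem_center_iff.1 c.2 ⟨j, hjS⟩).symm)
  have hcj' : ((c : S) : G) = j :=
    (hcase _ (c : S).2 hcj).resolve_left fun e => hc1 (Subtype.ext (Subtype.ext e))
  have hall : ∀ x ∈ S, x = 1 ∨ x = j := fun x hx => hcase x hx (by
    rw [← hcj']
    exact congrArg Subtype.val (Subgroup.mem_center_iff.1 c.2 ⟨x, hx⟩))
  have hsub : (S : Set G) ⊆ (({1, j} : Finset G) : Set G) := fun x hx => by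
    rcases hall x hx with e | e <;> simp [e]
  have := Nat.card_mono (Finset.finite_toSet _) hsub
  rw [Nat.card_coe_set_eq, Nat.card_coe_set_eq, Set.ncard_coe_finset] at this
  have h2 : ({1, j} : Finset G).card ≤ 2 := Finset.card_le_two
  rw [show (S : Set G).ncard = Nat.card S from (Nat.card_coe_set_eq _).symm] at this
  omega

theorem card_five_part (h : Hyp z Q) (P : Sylow 5 G) : Nat.card P = 25 := by
  haveI : Fact (Nat.Prime 5) := ⟨by norm_num⟩
  obtain ⟨n, hn⟩ := P.isPGroup'.exists_card_eq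
  have h1 : Nat.card P ∣ 604800 := order_eq h ▸ Subgroup.card_subgroup_dvd_card (P : Subgroup G)
  have h2 : 5 ^ 2 ∣ Nat.card P := P.pow_dvd_card_of_pow_dvd_card (by rw [order_eq h]; norm_num)
  change Nat.card P = 5 ^ n at hn
  rw [hn] at h1 h2 ⊢
  have h3 := (Nat.pow_dvd_pow_iff_le_right (by norm_num : 1 < 5)).1 h2
  have : n = 2 := by
    by_contra hne
    have : 5 ^ 3 ∣ 604800 := (pow_dvd_pow 5 (by omega : 3 ≤ n)).trans h1
    norm_num at this
  rw [this]; norm_num

theorem sylow_five_comm (h : Hyp z Q) (P : Sylow 5 G) {a b : G} (ha : a ∈ (P : Subgroup G))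
    (hb : b ∈ (P : Subgroup G)) : Commute a b := by
  haveI : Fact (Nat.Prime 5) := ⟨by norm_num⟩
  have hc : IsMulCommutative (P : Subgroup G) :=
    IsPGroup.isMulCommutative_of_card_eq_prime_sq (p := 5) (by
      rw [show Nat.card (P : Subgroup G) = 25 from card_five_part h P]; norm_num)
  exact congrArg Subtype.val (mul_comm' (⟨a, ha⟩ : (P : Subgroup G)) ⟨b, hb⟩)

theorem exists_sylow_mem (x : G) (hx : orderOf x = 5) : ∃ P : Sylow 5 G, x ∈ (P : Subgroup G) := by
  haveI : Fact (Nat.Prime 5) := ⟨by norm_num⟩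
  obtain ⟨P, hP⟩ := (IsPGroup.of_card (p := 5) (n := 1) (by rw [Nat.card_zpowers, hx, pow_one]) :
    IsPGroup 5 (Subgroup.zpowers x)).exists_le_sylow
  exact ⟨P, hP (Subgroup.mem_zpowers x)⟩

theorem five_dvd (h : Hyp z Q) {d : G} (hd : orderOf d = 5) :
    25 ∣ Nat.card (Subgroup.centralizer ({d} : Set G)) := by
  obtain ⟨P, hP⟩ := exists_sylow_mem d hd
  rw [← card_five_part h P]
  exact Subgroup.card_dvd_of_le fun x hx => mem_cent.2 (sylow_five_comm h P hx hP)

set_option maxHeartbeats 800000 in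
omit [Finite G] in
/-- the centralizer, modulo `⟨d⟩`, of an element of prime order of the `A₅`-factor -/
theorem mod_four [Finite G] {j : G} {V L K0 : Subgroup G}
    (hVL : Cfsg.IsInternalDirectProduct V L (Subgroup.centralizer ({j} : Set G))) (e : ↥L ≃* A5)
    (hV4 : Nat.card V = 4) (hV2 : ∀ v ∈ V, v ^ 2 = 1) (hjV : j ∈ V) (hj1 : j ≠ 1)
    (hall : ∀ v ∈ V, v ≠ 1 → Subgroup.centralizer ({v} : Set G) = Subgroup.centralizer ({j} : Set G))
    (hK12 : Nat.card K0 = 12) (hK0L : ∀ k ∈ K0, ∀ l ∈ L, k * l = l * k)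
    (hK0N : K0 ≤ Subgroup.normalizer (V : Set G)) {d : G} {p : ℕ} (hp : p = 3 ∨ p = 5) (hdL : d ∈ L)
    (ho : orderOf d = p)
    (hcentA : ∀ b : A5, b * e ⟨d, hdL⟩ = e ⟨d, hdL⟩ * b → ∃ i : ℕ, b = e ⟨d, hdL⟩ ^ i) :
    (∃ ρ : Subgroup.centralizer ({d} : Set G) →* A5, Function.Surjective ρ ∧
      (∀ x, ρ x = 1 ↔ (x : G) ∈ Subgroup.zpowers d) ∧
      Nat.card (Subgroup.centralizer ({d} : Set G)) = p * 60) ∨
    Subgroup.centralizer ({d} : Set G) ≤ Subgroup.normalizer (V : Set G) := by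
  classical
  rw [or_iff_not_imp_right]
  intro hnle
  haveI : Fact (Nat.Prime 2) := ⟨Nat.prime_two⟩
  obtain ⟨hVH, hLH, hcomm, hdis, -⟩ := id hVL
  set M := Subgroup.centralizer ({d} : Set G) with hM
  have hVM : ∀ v ∈ V, Commute v d := fun v hv => hcomm v hv d hdL
  -- the quotient by `⟨d⟩`
  set D := (Subgroup.zpowers d).subgroupOf M with hD
  haveI hDn : D.Normal := ⟨fun u hu v => by
    rw [hD, Subgroup.mem_subgroupOf] at hu ⊢
    obtain ⟨k, hk⟩ := Subgroup.mem_zpowers_iff.1 hu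
    have hvd : Commute (v : G) (u : G) := hk ▸ (mem_cent.1 v.2).zpow_right k
    rw [show ((v * u * v⁻¹ : M) : G) = v * u * (v : G)⁻¹ from rfl, hvd.eq, mul_inv_cancel_right]
    exact hu⟩
  let π := QuotientGroup.mk' D
  have hπ1 : ∀ x : M, π x = 1 ↔ (x : G) ∈ Subgroup.zpowers d := fun x => QuotientGroup.eq_one_iff x
  have hD5 : Nat.card D = p := by
    rw [hD, Nat.card_congr (Subgroup.subgroupOfEquivOfLe ((Subgroup.zpowers_le).2
      (mem_cent.2 (Commute.refl d)))).toEquiv, Nat.card_zpowers, ho]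
  let iV : ∀ v : G, v ∈ V → M := fun v hv => ⟨v, mem_cent.2 (hVM v hv)⟩
  have hVd : ∀ v ∈ V, v ∈ Subgroup.zpowers d → v = 1 := fun v hv hvd => by
    have : v ∈ V ⊓ L := ⟨hv, (Subgroup.zpowers_le.2 hdL) hvd⟩
    rwa [hdis, Subgroup.mem_bot] at this
  -- the centralizers of the involutions of `V`
  have hcv : ∀ (v : G) (hv : v ∈ V), v ≠ 1 → ∀ c : M, Commute (π c) (π (iV v hv)) →
      ∃ (w : G) (hw : w ∈ V), π c = π (iV w hw) := by
    intro v hv hv1 c hc
    have h1 : π (c * iV v hv * c⁻¹ * (iV v hv)⁻¹) = 1 := by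
      rw [map_mul, map_mul, map_mul, map_inv, map_inv, hc.eq]; group
    rw [hπ1] at h1
    obtain ⟨k, hk⟩ := Subgroup.mem_zpowers_iff.1 h1
    change d ^ k = (c : G) * v * (c : G)⁻¹ * v⁻¹ at hk
    have hvi : v⁻¹ = v := inv_eq_of_mul_eq_one_right (by rw [← sq]; exact hV2 v hv)
    have e1 : (c : G) * v * (c : G)⁻¹ = d ^ k * v := by rw [hk, inv_mul_cancel_right]
    have e2 : d ^ k * v * (d ^ k * v) = 1 := by
      rw [← e1, conj_mul, ← sq, hV2 v hv, mul_one, mul_inv_cancel]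
    have hdv : Commute v (d ^ k) := (hVM v hv).zpow_right k
    rw [hdv.mul_mul_mul_comm, ← sq v, hV2 v hv, mul_one, ← zpow_add] at e2
    have hdk : d ^ k = 1 := by
      rw [← orderOf_dvd_iff_zpow_eq_one, ho] at e2 ⊢
      rcases hp with rfl | rfl <;> (push_cast at e2 ⊢; omega)
    rw [hdk, one_mul] at e1
    have hcH : (c : G) ∈ Subgroup.centralizer ({j} : Set G) := by
      rw [← hall v hv hv1]
      exact mem_cent.2 (mul_inv_eq_iff_eq_mul.1 e1)
    obtain ⟨a, ha, b, hb, hab⟩ := internal_decomp hVL _ hcH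
    have hbd : Commute b d := by
      have hcd : Commute (a * b) d := hab ▸ (mem_cent.1 c.2)
      simpa using (hVM a ha).inv_left.mul_left hcd
    obtain ⟨i, hi⟩ := hcentA (e ⟨b, hb⟩)
      (by rw [← map_mul, ← map_mul]; exact congrArg e (Subtype.ext hbd.eq))
    rw [← map_pow] at hi
    have hbd' : b = d ^ (i : ℕ) := congrArg Subtype.val (e.injective hi)
    refine ⟨a, ha, ?_⟩
    rw [← mul_inv_eq_one, ← map_inv, ← map_mul, hπ1]
    show (c : G) * a⁻¹ ∈ Subgroup.zpowers d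
    rw [← hab, hbd', ((hVM a ha).pow_right (i : ℕ)).eq, mul_inv_cancel_right]
    exact Subgroup.npow_mem_zpowers d _
  set tb := π (iV j hjV) with htb
  set VB : Subgroup (M ⧸ D) := (V.subgroupOf M).map π with hVB
  have hVBmem : ∀ (v : G) (hv : v ∈ V), π (iV v hv) ∈ VB := fun v hv => ⟨iV v hv, hv, rfl⟩
  have hVBe : ∀ q ∈ VB, ∃ (v : G) (hv : v ∈ V), π (iV v hv) = q := by
    rintro _ ⟨x, hx, rfl⟩; exact ⟨x, hx, rfl⟩
  have hVsq : ∀ q ∈ VB, q ^ 2 = 1 := by
    intro q hq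
    obtain ⟨v, hv, rfl⟩ := hVBe q hq
    rw [← map_pow, show iV v hv ^ 2 = 1 from Subtype.ext (hV2 v hv), map_one]
  have hVB4 : Nat.card VB = 4 := by
    rw [hVB, ← hV4]
    have hinj : Function.Injective fun v : V => π (iV v v.2) := fun v w e' => by
      have : π (iV v v.2 * (iV w w.2)⁻¹) = 1 := by rw [map_mul, map_inv]; simp [show π (iV v v.2) = π (iV w w.2) from e']
      rw [hπ1] at this
      exact Subtype.ext (mul_inv_eq_one.1 (hVd _ (V.mul_mem v.2 (V.inv_mem w.2)) this))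
    refine (Nat.card_congr (Equiv.ofBijective (fun v : V => (⟨π (iV v v.2), hVBmem v v.2⟩ : VB)) ⟨?_, ?_⟩)).symm
    · exact fun v w e' => hinj (congrArg Subtype.val e')
    · rintro ⟨q, hq⟩
      obtain ⟨v, hv, rfl⟩ := hVBe q hq
      exact ⟨⟨v, hv⟩, rfl⟩
  have htbVB : tb ∈ VB := hVBmem j hjV
  have hcent : ∀ q : M ⧸ D, Commute q tb → q ∈ VB := fun q hq => by
    obtain ⟨c, rfl⟩ := QuotientGroup.mk'_surjective D q
    obtain ⟨w, hw, e'⟩ := hcv j hjV hj1 c hq
    exact e' ▸ hVBmem w hw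
  have hVBc : ∀ p ∈ VB, ∀ q ∈ VB, Commute p q := fun p hp q hq => by
    have key : ∀ x ∈ VB, x⁻¹ = x := fun x hx => inv_eq_of_mul_eq_one_right (by rw [← sq]; exact hVsq x hx)
    calc p * q = (p * q)⁻¹ := (key _ (VB.mul_mem hp hq)).symm
      _ = q * p := by rw [mul_inv_rev, key p hp, key q hq]
  -- an element of order three permuting `V`
  haveI : Fact (Nat.Prime 3) := ⟨Nat.prime_three⟩
  obtain ⟨x, hx⟩ := exists_prime_orderOf_dvd_card' (G := K0) 3 (by rw [hK12]; norm_num)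
  have hxd : Commute (x : G) d := hK0L x x.2 d hdL
  let xM : M := ⟨x, mem_cent.2 hxd⟩
  have hx3 : (x : G) ^ 3 = 1 := by rw [← hx, ← Subgroup.orderOf_coe, pow_orderOf_eq_one]
  have hxV : π xM ∉ VB := by
    intro hm
    have h1 := hVsq _ hm
    have h3 : π xM ^ 3 = 1 := by rw [← map_pow, show xM ^ 3 = 1 from Subtype.ext hx3, map_one]
    rw [show (3 : ℕ) = 2 + 1 by norm_num, pow_succ, h1, one_mul, hπ1] at h3
    have hxL : (x : G) ∈ L := Subgroup.zpowers_le.2 hdL h3
    have := eq_one_of_central hVL e hxL fun l hl => hK0L _ x.2 l hl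
    rw [← Subgroup.orderOf_coe, this, orderOf_one] at hx
    norm_num at hx
  obtain ⟨ē⟩ : Nonempty ((M ⧸ D) ≃* A5) := by
    refine InvFour.alt_five_of_centralizer_four tb ?_ ?_ ?_ ?_ ?_
    · refine HallJankoPairs.ord_of (by rw [← sq]; exact hVsq _ htbVB) fun e' => hj1 ?_
      exact hVd j hjV ((hπ1 _).1 e')
    · rw [← hVB4]
      refine congrArg (fun S : Subgroup (M ⧸ D) => Nat.card S) (le_antisymm
        (fun c hc => hcent c (Subgroup.mem_centralizer_singleton_iff.1 hc))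
        fun c hc => Subgroup.mem_centralizer_singleton_iff.2 (hVBc c hc tb htbVB).eq)
    · exact fun c hc => hVsq c (hcent c (Subgroup.mem_centralizer_singleton_iff.1 hc))
    · rintro ⟨S, N, hN, hcompl⟩
      haveI := hN
      obtain ⟨n, hn⟩ := S.isPGroup'.exists_card_eq
      have hoddN : ¬ 2 ∣ Nat.card N := by
        rw [← hcompl.index_eq_card]; exact S.not_dvd_index
      have hqx : π xM ∈ N := by
        rw [← QuotientGroup.eq_one_iff, ← orderOf_eq_one_iff]
        refine Nat.eq_one_of_dvd_coprimes (a := 2 ^ n) (b := 3) (Nat.Coprime.pow_left n (by norm_num)) ?_ ?_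
        · refine (orderOf_dvd_natCard _).trans ?_
          rw [← Subgroup.index_eq_card, ← hn]
          rw [hcompl.symm.index_eq_card]
        · refine orderOf_dvd_of_pow_eq_one ?_
          rw [← QuotientGroup.mk_pow, ← map_pow, show xM ^ 3 = 1 from Subtype.ext hx3, map_one, QuotientGroup.mk_one]
      have hVN : ∀ q ∈ VB, q ∈ N → q = 1 := fun q hq hqN => by
        have h1 := Subgroup.orderOf_dvd_natCard N hqN
        rcases (Nat.dvd_prime Nat.prime_two).1 (orderOf_dvd_of_pow_eq_one (hVsq q hq)) with e' | e'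
        · exact orderOf_eq_one_iff.1 e'
        · rw [e'] at h1; exact absurd h1 hoddN
      have hxjV : (x : G) * j * (x : G)⁻¹ ∈ V := by
        have hxN : (x : G) ∈ Subgroup.normalizer (V : Set G) := hK0N x.2
        exact (Subgroup.mem_normalizer_iff.1 hxN j).1 hjV
      refine hxV (hcent _ (mul_inv_eq_iff_eq_mul.1 ?_))
      have hcm : π xM * tb * (π xM)⁻¹ * tb⁻¹ ∈ VB := by
        refine VB.mul_mem ?_ (VB.inv_mem htbVB)
        rw [htb, ← map_inv, ← map_mul, ← map_mul]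
        exact ⟨_, hxjV, rfl⟩
      have hcN : π xM * tb * (π xM)⁻¹ * tb⁻¹ ∈ N := by
        rw [show π xM * tb * (π xM)⁻¹ * tb⁻¹ = π xM * (tb * (π xM)⁻¹ * tb⁻¹) by group]
        exact N.mul_mem hqx (hN.conj_mem _ (N.inv_mem hqx) tb)
      exact mul_inv_eq_one.1 (hVN _ hcm hcN)
    · intro E hE hEab
      haveI := hE
      have hEp : IsPGroup 2 E := fun y => ⟨1, Subtype.ext (by rw [pow_one, Subgroup.coe_pow]; exact hEab.2 y y.2)⟩
      have hVp : IsPGroup 2 VB := fun y => ⟨1, Subtype.ext (by rw [pow_one, Subgroup.coe_pow]; exact hVsq y y.2)⟩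
      have hEV : E ≤ VB := by
        have hS : IsPGroup 2 (E ⊔ VB : Subgroup (M ⧸ D)) := hEp.to_sup_of_normal_left hVp
        set S := E ⊔ VB
        haveI : Nontrivial S := ⟨⟨⟨tb, (le_sup_right : VB ≤ S) htbVB⟩, 1, fun e' => hj1
          (hVd j hjV ((hπ1 _).1 (congrArg Subtype.val e')))⟩⟩
        haveI : Nontrivial (Subgroup.center S) := hS.center_nontrivial
        obtain ⟨c, hc1⟩ := exists_ne (1 : Subgroup.center S)
        have hcS : ∀ y ∈ S, Commute ((c : S) : M ⧸ D) y := fun y hy =>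
          (congrArg Subtype.val (Subgroup.mem_center_iff.1 c.2 ⟨y, hy⟩)).symm
        have hcV : ((c : S) : M ⧸ D) ∈ VB := hcent _ (hcS tb ((le_sup_right : VB ≤ S) htbVB))
        obtain ⟨v, hv, ev⟩ := hVBe _ hcV
        have hv1 : v ≠ 1 := by
          rintro rfl
          exact hc1 (Subtype.ext (Subtype.ext (by rw [← ev]; exact map_one π)))
        intro y hy
        obtain ⟨y', rfl⟩ := QuotientGroup.mk'_surjective D y
        obtain ⟨w, hw, e'⟩ := hcv v hv hv1 y' (by
          rw [ev]; exact (hcS _ ((le_sup_left : E ≤ S) hy)).symm)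
        exact e' ▸ hVBmem w hw
      refine ⟨fun h2 => ?_, fun h4 => ?_⟩
      · obtain ⟨⟨w, hwE⟩, hw1, huniq⟩ := (Nat.card_eq_two_iff' (1 : E)).1 h2
        have hw1' : w ≠ 1 := fun e' => hw1 (Subtype.ext e')
        obtain ⟨v, hv, ev⟩ := hVBe w (hEV hwE)
        have hv1 : v ≠ 1 := by
          rintro rfl
          exact hw1' (by rw [← ev]; exact map_one π)
        refine hxV ?_
        have hcw : π xM * w * (π xM)⁻¹ = w := congrArg Subtype.val (huniq ⟨_, hE.conj_mem w hwE (π xM)⟩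
          fun e' => hw1' (conj_eq_one_iff.1 (congrArg Subtype.val e' :)))
        obtain ⟨u, hu, e'⟩ := hcv v hv hv1 xM (by rw [ev]; exact mul_inv_eq_iff_eq_mul.1 hcw)
        exact e' ▸ hVBmem u hu
      · have hEeq : E = VB := Subgroup.eq_of_le_of_card_ge hEV (by rw [hVB4, h4])
        refine hnle ?_
        intro m hm
        have key : ∀ {m : G}, Commute m d → ∀ v ∈ V, m * v * m⁻¹ ∈ V := by
          intro m hm v hv
          have h1 : π ⟨m, mem_cent.2 hm⟩ * π (iV v hv) * (π ⟨m, mem_cent.2 hm⟩)⁻¹ ∈ VB := by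
            rw [← hEeq] at hVBmem ⊢
            exact hE.conj_mem _ (hVBmem v hv) _
          obtain ⟨w, hw, ew⟩ := hVBe _ h1
          rw [← map_inv, ← map_mul, ← map_mul, ← mul_inv_eq_one, ← map_inv, ← map_mul, hπ1] at ew
          obtain ⟨k, hk⟩ := Subgroup.mem_zpowers_iff.1 ew
          change d ^ k = w * (m * v * m⁻¹)⁻¹ at hk
          have e1 : m * v * m⁻¹ = (d ^ k)⁻¹ * w := by rw [hk]; group
          have e2 : (d ^ k)⁻¹ * w * ((d ^ k)⁻¹ * w) = 1 := by
            rw [← e1, conj_mul, ← sq, hV2 v hv, mul_one, mul_inv_cancel]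
          rw [((hVM w hw).zpow_right k).inv_right.mul_mul_mul_comm, ← sq w, hV2 w hw, mul_one, ← zpow_neg,
            ← zpow_add] at e2
          have hdk : d ^ k = 1 := by
            rw [← orderOf_dvd_iff_zpow_eq_one, ho] at e2 ⊢
            rcases hp with rfl | rfl <;> (push_cast at e2 ⊢; omega)
          rw [e1, hdk, inv_one, one_mul]; exact hw
        rw [Subgroup.mem_normalizer_iff]
        refine fun v => ⟨key (mem_cent.1 hm) v, fun hv => ?_⟩
        have := key (mem_cent.1 hm).inv_left _ hv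
        rwa [show m⁻¹ * (m * v * m⁻¹) * m⁻¹⁻¹ = v by group] at this
  refine ⟨ē.toMonoidHom.comp π, ē.surjective.comp (QuotientGroup.mk'_surjective D), fun y => ?_, ?_⟩
  · show ē (π y) = 1 ↔ _
    rw [MulEquiv.map_eq_one_iff, hπ1]
  · rw [← D.card_mul_index, Subgroup.index_eq_card, Nat.card_congr ē.toEquiv, hD5, nat_card_alternatingGroup, Nat.card_fin]
    rfl


set_option maxHeartbeats 800000 in
/-- the centralizer of an element of the first kind -/
theorem five_big (h : Hyp z Q) {d : G} (hd : DType z d) :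
    (∀ x : G, Commute d x → ¬ IsConj z x) ∧
    ∃ ρ : Subgroup.centralizer ({d} : Set G) →* A5, Function.Surjective ρ ∧
      (∀ x, ρ x = 1 ↔ (x : G) ∈ Subgroup.zpowers d) ∧ Nat.card (Subgroup.centralizer ({d} : Set G)) = 300 := by
  classical
  haveI : Fact (Nat.Prime 2) := ⟨Nat.prime_two⟩
  haveI : Fact (Nat.Prime 5) := ⟨by norm_num⟩
  obtain ⟨ho, j, hj, hjz, hdj⟩ := hd
  obtain ⟨z', Q', h', hzz', hjz', hjj, hjQ⟩ := at_invol h hj hjz
  obtain ⟨V, L, K0, hVL, hV4, hV2, hjV, ⟨e⟩, -, hall, hVK, hK12, hK0L, h720, -, -, hK0N⟩ := four_normalizer h' hjz' hjj hjQ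
  obtain ⟨hVH, hLH, hcomm, hdis, -⟩ := id hVL
  have hd5 : d ^ 5 = 1 := by rw [← ho, pow_orderOf_eq_one]
  have hd1 : d ≠ 1 := fun e' => by rw [e', orderOf_one] at ho; norm_num at ho
  have hdL : d ∈ L := by
    obtain ⟨a, ha, b, hb, hab⟩ := internal_decomp hVL d (mem_cent.2 hdj)
    have h5 : a ^ 5 * b ^ 5 = 1 := by
      rw [← (show Commute a b from hcomm a ha b hb).mul_pow, hab, hd5]
    have ha5 : a ^ 5 = a := by
      rw [show (5 : ℕ) = 2 * 2 + 1 by norm_num, pow_succ, pow_mul, hV2 a ha, one_pow, one_mul]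
    rw [ha5] at h5
    have : a ∈ V ⊓ L := ⟨ha, by rw [mul_eq_one_iff_eq_inv.1 h5]; exact L.inv_mem (L.pow_mem hb 5)⟩
    rw [hdis, Subgroup.mem_bot] at this
    rw [← hab, this, one_mul]; exact hb
  set M := Subgroup.centralizer ({d} : Set G) with hM
  have hVM : ∀ v ∈ V, Commute v d := fun v hv => hcomm v hv d hdL
  have hnoz : ∀ x : G, Commute d x → ¬ IsConj z x := by
    intro x hx hzx
    have hxx : x * x = 1 := by
      obtain ⟨g, rfl⟩ := isConj_iff.1 hzx
      rw [conj_mul, h.S.xt.sq, mul_one, mul_inv_cancel]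
    let xM : M := ⟨x, mem_cent.2 hx.symm⟩
    obtain ⟨S₁, hS₁⟩ := (show IsPGroup 2 (V.subgroupOf M) from fun v => ⟨1, Subtype.ext (Subtype.ext (by
      rw [pow_one]; exact hV2 _ v.2))⟩).exists_le_sylow
    obtain ⟨S₂, hS₂⟩ := (show IsPGroup 2 (Subgroup.zpowers xM) from fun y => by
      obtain ⟨k, hk⟩ := Subgroup.mem_zpowers_iff.1 y.2
      refine ⟨1, Subtype.ext ?_⟩
      rw [pow_one, Subgroup.coe_pow, ← hk, OneMemClass.coe_one, ← zpow_natCast, ← zpow_mul, mul_comm, zpow_mul,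
        zpow_natCast, sq, show xM * xM = 1 from Subtype.ext hxx, one_zpow]).exists_le_sylow
    have h4 : 4 ≤ Nat.card S₁ := by
      have := Subgroup.card_le_of_le hS₁
      rwa [Nat.card_congr (Subgroup.subgroupOfEquivOfLe (show V ≤ M from fun v hv => mem_cent.2 (hVM v hv))).toEquiv,
        hV4] at this
    have h2 := two_bound h (S := (S₂ : Subgroup M).map M.subtype) hzx ho (S₂.isPGroup'.map _)
      (by rintro _ ⟨y, -, rfl⟩; exact (mem_cent.1 y.2).symm) ⟨xM, hS₂ (Subgroup.mem_zpowers xM), rfl⟩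
    rw [Subgroup.card_map_of_injective M.subtype_injective, Sylow.card_eq_multiplicity S₂,
      ← Sylow.card_eq_multiplicity S₁] at h2
    omega
  refine ⟨hnoz, ?_⟩
  rcases mod_four hVL e hV4 hV2 hjV (fun e' => hjQ (e' ▸ Q'.one_mem)) (fun v hv hv1 => (hall v hv hv1).2)
      hK12 hK0L hK0N (Or.inr rfl) hdL ho (fun b hb => by
        obtain ⟨i, hi⟩ := a5_five_cent (e ⟨d, hdL⟩)
          (by rw [← map_pow, show (⟨d, hdL⟩ : L) ^ 5 = 1 from Subtype.ext hd5, map_one])
          (fun e' => hd1 (congrArg Subtype.val ((MulEquiv.map_eq_one_iff e).1 e'))) b hb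
        exact ⟨i, hi.symm⟩) with ⟨ρ, hρs, hρ, hc⟩ | hle
  · exact ⟨ρ, hρs, hρ, hc⟩
  · exfalso
    have h25 := (five_dvd h ho).trans (Subgroup.card_dvd_of_le hle)
    rw [h720] at h25
    norm_num at h25

end Cfsg.Agent.Lie.HJType
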