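import Mathlib
import Cfsg.Agent.Lib.Lie.HJType.Five

/-!
Groups of Hall–Janko type: the normaliser of a Sylow 5-subgroup and the classes of subgroups of order five.
-/

set_option autoImplicit false
set_option linter.style.haveILetI false
set_option linter.unusedSectionVars false
set_option linter.constructorNameAsVariable false

namespace Cfsg.Agent.Lie.HJType

open Equiv

universe u

local notation "A5" => alternatingGroup (Fin 5)

variable {G : Type u} [Group G] [Finite G] {z : G} {Q : Subgroup G}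

theorem conj_invol (h : Hyp z Q) {j : G} (hj : IsConj z j) : j * j = 1 ∧ j ≠ 1 := by
  obtain ⟨g, rfl⟩ := isConj_iff.1 hj
  exact ⟨by rw [conj_mul, h.S.xt.sq, mul_one, mul_inv_cancel], fun e => h.S.xt.ne (conj_eq_one_iff.1 e)⟩

theorem not_kType (h : Hyp z Q) {d : G} (hd : DType z d) : ¬ KType z d := by
  rintro ⟨-, j, hzj, hdj⟩
  exact (five_big h hd).1 j hdj hzj

theorem dType_conj {d : G} (hd : DType z d) (g : G) : DType z (g * d * g⁻¹) := by
  obtain ⟨ho, j, hj, hjz, hdj⟩ := hd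
  refine ⟨((MulAut.conj g).orderOf_eq d).trans ho, g * j * g⁻¹, ((MulAut.conj g).orderOf_eq j).trans hj,
    fun hc => hjz ?_, (Commute.conj_iff g).2 hdj⟩
  exact (isConj_iff.2 ⟨g, rfl⟩ : IsConj j (g * j * g⁻¹)).trans hc

theorem kType_conj {k : G} (hk : KType z k) (g : G) : KType z (g * k * g⁻¹) := by
  obtain ⟨ho, j, hj, hkj⟩ := hk
  exact ⟨((MulAut.conj g).orderOf_eq k).trans ho, g * j * g⁻¹, hj.trans (isConj_iff.2 ⟨g, rfl⟩),
    (Commute.conj_iff g).2 hkj⟩

theorem five_of_mem {d w : G} (hd : orderOf d = 5) (hw : w ∈ Subgroup.zpowers d) (hw1 : w ≠ 1) : orderOf w = 5 := by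
  have := orderOf_dvd_of_mem_zpowers hw
  rw [hd] at this
  exact ((Nat.dvd_prime (by norm_num)).1 this).resolve_left fun e => hw1 (orderOf_eq_one_iff.1 e)

theorem dType_pow {d w : G} (hd : DType z d) (hw : w ∈ Subgroup.zpowers d) (hw1 : w ≠ 1) : DType z w := by
  obtain ⟨ho, j, hj, hjz, hdj⟩ := hd
  obtain ⟨i, rfl⟩ := Subgroup.mem_zpowers_iff.1 hw
  exact ⟨five_of_mem ho hw hw1, j, hj, hjz, hdj.zpow_left i⟩

theorem kType_pow {k w : G} (hk : KType z k) (hw : w ∈ Subgroup.zpowers k) (hw1 : w ≠ 1) : KType z w := by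
  obtain ⟨ho, j, hj, hkj⟩ := hk
  obtain ⟨i, rfl⟩ := Subgroup.mem_zpowers_iff.1 hw
  exact ⟨five_of_mem ho hw hw1, j, hj, hkj.zpow_left i⟩

theorem exists_dType (h : Hyp z Q) : ∃ d : G, DType z d := by
  obtain ⟨t, htz, htt, htQ⟩ := exists_outer h
  obtain ⟨V, L, K0, hVL, -, -, htV, ⟨e⟩, -⟩ := four_normalizer h htz htt htQ
  haveI : Fact (Nat.Prime 5) := ⟨by norm_num⟩
  obtain ⟨d, hd⟩ := exists_prime_orderOf_dvd_card' (G := L) 5
    (by rw [Nat.card_congr e.toEquiv, nat_card_alternatingGroup, Nat.card_fin]; decide)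
  exact ⟨d, by rw [Subgroup.orderOf_coe]; exact hd, t,
    HallJankoPairs.ord_of htt (fun e' => htQ (e' ▸ Q.one_mem)),
    fun hc => outer_not_conj h htz htt htQ hc.symm, (hVL.2.2.1 t htV d d.2).symm⟩

theorem exists_kType (h : Hyp z Q) : ∃ k : G, KType z k := by
  haveI : Fact (Nat.Prime 5) := ⟨by norm_num⟩
  obtain ⟨k, hk⟩ := exists_prime_orderOf_dvd_card' (G := Subgroup.centralizer ({z} : Set G)) 5
    (by rw [card_cent h]; norm_num)
  exact ⟨k, by rw [Subgroup.orderOf_coe]; exact hk, z, IsConj.refl z, mem_cent.1 k.2⟩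

theorem exists_conj_mem (P : Sylow 5 G) (x : G) (hx : orderOf x = 5) :
    ∃ g : G, g * x * g⁻¹ ∈ (P : Subgroup G) := by
  haveI : Fact (Nat.Prime 5) := ⟨by norm_num⟩
  obtain ⟨P₀, hP₀⟩ := exists_sylow_mem x hx
  obtain ⟨g, hg⟩ := MulAction.exists_smul_eq G P₀ P
  refine ⟨g, ?_⟩
  rw [← hg, Sylow.coe_subgroup_smul]
  exact ⟨x, hP₀, rfl⟩

theorem pow_25 (h : Hyp z Q) (P : Sylow 5 G) {p : G} (hp : p ∈ (P : Subgroup G)) : p ^ 25 = 1 := by
  refine orderOf_dvd_iff_pow_eq_one.1 ?_
  have := Subgroup.orderOf_dvd_natCard (P : Subgroup G) hp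
  rwa [show Nat.card (P : Subgroup G) = 25 from card_five_part h P] at this

theorem sylow_types (h : Hyp z Q) (P : Sylow 5 G) :
    ∃ d k : G, d ∈ (P : Subgroup G) ∧ k ∈ (P : Subgroup G) ∧ DType z d ∧ KType z k := by
  obtain ⟨d, hd⟩ := exists_dType h
  obtain ⟨k, hk⟩ := exists_kType h
  obtain ⟨g, hg⟩ := exists_conj_mem P d hd.1
  obtain ⟨g', hg'⟩ := exists_conj_mem P k hk.1
  exact ⟨_, _, hg, hg', dType_conj hd g, kType_conj hk g'⟩

theorem sylow_five_self_cent (h : Hyp z Q) (P : Sylow 5 G) :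
    Subgroup.centralizer ((P : Subgroup G) : Set G) = P := by
  classical
  obtain ⟨d, -, hdP, -, hd, -⟩ := sylow_types h P
  obtain ⟨-, ρ, -, hρ, -⟩ := five_big h hd
  have hPC : ∀ x ∈ (P : Subgroup G), x ∈ Subgroup.centralizer ({d} : Set G) := fun x hx =>
    mem_cent.2 (sylow_five_comm h P hx hdP)
  refine le_antisymm (fun x hx => ?_) fun x hx => Subgroup.mem_centralizer_iff.2 fun p hp =>
    (sylow_five_comm h P hp hx).eq
  rw [Subgroup.mem_centralizer_iff] at hx
  let xC : Subgroup.centralizer ({d} : Set G) := ⟨x, mem_cent.2 (show Commute x d from (hx d hdP).symm)⟩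
  have hle : Subgroup.zpowers d ≤ (P : Subgroup G) := Subgroup.zpowers_le.2 hdP
  obtain ⟨p, hp, hp1⟩ : ∃ p, ∃ hp : p ∈ (P : Subgroup G), ρ ⟨p, hPC p hp⟩ ≠ 1 := by
    by_contra! hall
    have h1 : (P : Subgroup G) ≤ Subgroup.zpowers d := fun p hp => (hρ _).1 (hall p hp)
    have := Subgroup.card_le_of_le h1
    rw [Nat.card_zpowers, hd.1, show Nat.card (P : Subgroup G) = 25 from card_five_part h P] at this
    omega
  have hp5 : ρ ⟨p, hPC p hp⟩ ^ 5 = 1 := by
    refine orderOf_dvd_iff_pow_eq_one.1 ?_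
    have h1 : orderOf (ρ ⟨p, hPC p hp⟩) ∣ 25 := by
      refine (orderOf_map_dvd ρ _).trans ?_
      rw [← Subgroup.orderOf_coe, ← card_five_part h P]
      exact Subgroup.orderOf_dvd_natCard (P : Subgroup G) hp
    have h2 : orderOf (ρ ⟨p, hPC p hp⟩) ∣ 60 := by
      have := orderOf_dvd_natCard (ρ ⟨p, hPC p hp⟩)
      rwa [nat_card_alternatingGroup, Nat.card_fin] at this
    exact (Nat.dvd_gcd h1 h2).trans (by norm_num)
  obtain ⟨i, hi⟩ := a5_five_cent _ hp5 hp1 (ρ xC) (by
    rw [← map_mul, ← map_mul]; exact congrArg ρ (Subtype.ext (hx p hp).symm))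
  have h1 : ρ (xC * (⟨p, hPC p hp⟩ ^ (i : ℕ))⁻¹) = 1 := by rw [map_mul, map_inv, map_pow, hi, mul_inv_cancel]
  have h2 : x * (p ^ (i : ℕ))⁻¹ ∈ (P : Subgroup G) := hle ((hρ _).1 h1)
  have h3 := (P : Subgroup G).mul_mem h2 ((P : Subgroup G).pow_mem hp (i : ℕ))
  rwa [inv_mul_cancel_right] at h3

theorem sylow_eq_of_two (h : Hyp z Q) (P : Sylow 5 G) {H : Subgroup G} (hH : H ≤ P) {d k : G}
    (hd : DType z d) (hk : KType z k) (hdH : d ∈ H) (hkH : k ∈ H) : H = P := by
  refine Subgroup.eq_of_le_of_card_ge hH ?_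
  rw [show Nat.card (P : Subgroup G) = 25 from card_five_part h P]
  by_contra hlt
  have h25 : Nat.card H ∣ 5 ^ 2 := by
    rw [show (5 : ℕ) ^ 2 = 25 from rfl, ← card_five_part h P]; exact Subgroup.card_dvd_of_le hH
  obtain ⟨i, hi, he⟩ := (Nat.dvd_prime_pow (by norm_num)).1 h25
  have h5 : Nat.card (Subgroup.zpowers d) = 5 := by rw [Nat.card_zpowers, hd.1]
  have : Subgroup.zpowers d = H := Subgroup.eq_of_le_of_card_ge (Subgroup.zpowers_le.2 hdH) (by
    rw [h5, he]
    interval_cases i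
    · norm_num
    · norm_num
    · norm_num [he] at hlt)
  refine not_kType h (dType_pow hd (this ▸ hkH) fun e => ?_) hk
  have := hk.1
  rw [e, orderOf_one] at this
  norm_num at this

theorem norm_cent_d (h : Hyp z Q) (P : Sylow 5 G) {d : G} (hdP : d ∈ (P : Subgroup G)) (hd : DType z d) :
    Nat.card ↥(Subgroup.normalizer ((P : Subgroup G) : Set G) ⊓ Subgroup.centralizer ({d} : Set G)) = 50 := by
  classical
  haveI : Fact (Nat.Prime 5) := ⟨by norm_num⟩
  obtain ⟨-, hρ'⟩ := five_big h hd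
  set C := Subgroup.centralizer ({d} : Set G) with hC
  obtain ⟨ρ, hρs, hρ, h300⟩ := hρ'
  have hPC : (P : Subgroup G) ≤ C := fun x hx => mem_cent.2 (sylow_five_comm h P hx hdP)
  set Pc : Sylow 5 C := P.subtype hPC with hPc
  have hNeq : Subgroup.normalizer ((Pc : Subgroup C) : Set C) =
      (Subgroup.normalizer ((P : Subgroup G) : Set G) ⊓ C).subgroupOf C := by
    rw [Subgroup.inf_subgroupOf_right, hPc, Sylow.coe_subtype, ← Subgroup.subgroupOf_normalizer_eq hPC]
  have h25 : Nat.card (Pc : Subgroup C) = 25 := by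
    rw [hPc, Sylow.coe_subtype, Nat.card_congr (Subgroup.subgroupOfEquivOfLe hPC).toEquiv]
    exact card_five_part h P
  have hn : Nat.card (Sylow 5 C) = (Subgroup.normalizer ((Pc : Subgroup C) : Set C)).index :=
    Pc.card_eq_index_normalizer
  have hmod : Nat.card (Sylow 5 C) ≡ 1 [MOD 5] := card_sylow_modEq_one 5 C
  have hprod := (Subgroup.normalizer ((Pc : Subgroup C) : Set C)).card_mul_index
  obtain ⟨m, hm⟩ : 25 ∣ Nat.card (Subgroup.normalizer ((Pc : Subgroup C) : Set C)) :=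
    h25 ▸ Subgroup.card_dvd_of_le Subgroup.le_normalizer
  rw [hm, ← hn, h300, mul_assoc] at hprod
  have h12 : m * Nat.card (Sylow 5 C) = 12 := by omega
  have hne : Nat.card (Sylow 5 C) ≠ 1 := fun h1 => by
    have htop : Subgroup.normalizer ((Pc : Subgroup C) : Set C) = ⊤ := Subgroup.index_eq_one.1 (hn ▸ h1)
    haveI : (Pc : Subgroup C).Normal := Subgroup.normalizer_eq_top_iff.1 htop
    haveI : IsSimpleGroup A5 := alternatingGroup.isSimpleGroup (by rw [Nat.card_fin])
    rcases (Subgroup.Normal.map (H := (Pc : Subgroup C)) inferInstance ρ hρs).eq_bot_or_eq_top with hb | ht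
    · have h1 : (P : Subgroup G) ≤ Subgroup.zpowers d := fun p hp => (hρ ⟨p, hPC hp⟩).1 (by
        have : ρ ⟨p, hPC hp⟩ ∈ (Pc : Subgroup C).map ρ := ⟨_, by rw [hPc, Sylow.coe_subtype]; exact hp, rfl⟩
        rwa [hb, Subgroup.mem_bot] at this)
      have := Subgroup.card_le_of_le h1
      rw [Nat.card_zpowers, hd.1, show Nat.card (P : Subgroup G) = 25 from card_five_part h P] at this
      omega
    · have := Subgroup.card_map_dvd (H := (Pc : Subgroup C)) ρ
      rw [ht, Subgroup.card_top, h25, nat_card_alternatingGroup, Nat.card_fin] at this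
      revert this; decide
  rw [← Nat.card_congr (Subgroup.subgroupOfEquivOfLe (inf_le_right :
    Subgroup.normalizer ((P : Subgroup G) : Set G) ⊓ C ≤ C)).toEquiv, ← hNeq, hm]
  generalize Nat.card (Sylow 5 C) = n at h12 hmod hne
  have : n ∣ 12 := ⟨m, by rw [mul_comm]; exact h12.symm⟩
  have hn12 : n ≤ 12 := Nat.le_of_dvd (by norm_num) this
  unfold Nat.ModEq at hmod
  interval_cases n <;> omega

theorem k_two (h : Hyp z Q) {k : G} (hk : KType z k) {S : Subgroup G} (hS : IsPGroup 2 S)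
    (hSk : ∀ x ∈ S, Commute k x) : Nat.card S ≤ 2 := by
  haveI : Fact (Nat.Prime 2) := ⟨Nat.prime_two⟩
  by_contra hlt
  obtain ⟨n, hn⟩ := hS.exists_card_eq
  obtain ⟨j, hj⟩ := exists_prime_orderOf_dvd_card' (G := S) 2 (by
    rw [hn]
    exact dvd_pow_self 2 fun e => by rw [e] at hn; omega)
  have hzj : IsConj z j := by
    by_contra hne
    exact not_kType h ⟨hk.1, j, by rw [Subgroup.orderOf_coe]; exact hj, fun e => hne e.symm, hSk j j.2⟩ hk
  exact hlt (two_bound h hzj hk.1 hS hSk j.2)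

theorem fixed_sylow (h : Hyp z Q) (P : Sylow 5 G) {k y : G} (hkP : k ∈ (P : Subgroup G)) (hk : KType z k)
    (hyN : y ∈ Subgroup.normalizer ((P : Subgroup G) : Set G)) (hyk : Commute y k) {q : ℕ}
    (hy : orderOf y = q) (hq : q = 3 ∨ q = 7) : False := by
  classical
  haveI : Fact q.Prime := ⟨by rcases hq with rfl | rfl <;> norm_num⟩
  let ψ : Subgroup.zpowers y →* MulAut (P : Subgroup G) :=
    (P : Subgroup G).normalizerMonoidHom.comp (Subgroup.inclusion (Subgroup.zpowers_le.2 hyN))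
  letI : MulAction (Subgroup.zpowers y) (P : Subgroup G) := MulAction.compHom _ ψ
  have hval : ∀ (a : Subgroup.zpowers y) (p : (P : Subgroup G)),
      ((a • p : (P : Subgroup G)) : G) = a * p * (a : G)⁻¹ := fun a p => rfl
  have hpg : IsPGroup q (Subgroup.zpowers y) :=
    IsPGroup.of_card (n := 1) (by rw [Nat.card_zpowers, hy, pow_one])
  have hm := hpg.card_modEq_card_fixedPoints (P : Subgroup G)
  have hF : Nat.card (MulAction.fixedPoints (Subgroup.zpowers y) (P : Subgroup G)) =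
      Nat.card ↥((P : Subgroup G) ⊓ Subgroup.centralizer ({y} : Set G)) := by
    refine Nat.card_congr
      { toFun := fun p => ⟨(p : (P : Subgroup G)), (p : (P : Subgroup G)).2, mem_cent.2 ?_⟩
        invFun := fun p => ⟨⟨p, p.2.1⟩, fun a => Subtype.ext ?_⟩
        left_inv := fun p => rfl
        right_inv := fun p => rfl }
    · have := congrArg Subtype.val (p.2 ⟨y, Subgroup.mem_zpowers y⟩)
      rw [hval] at this
      exact (mul_inv_eq_iff_eq_mul.1 this).symm
    · obtain ⟨i, hi⟩ := Subgroup.mem_zpowers_iff.1 a.2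
      rw [hval, ← hi, ((show Commute (p : G) y from mem_cent.1 p.2.2).symm.zpow_left i).eq, mul_inv_cancel_right]
  rw [hF, show Nat.card (P : Subgroup G) = 25 from card_five_part h P] at hm
  have hd : Nat.card ↥((P : Subgroup G) ⊓ Subgroup.centralizer ({y} : Set G)) ∣ 5 ^ 2 := by
    rw [show (5 : ℕ) ^ 2 = 25 from rfl, ← card_five_part h P]; exact Subgroup.card_dvd_of_le inf_le_left
  have h5 : 5 ∣ Nat.card ↥((P : Subgroup G) ⊓ Subgroup.centralizer ({y} : Set G)) := by
    have := Subgroup.orderOf_dvd_natCard ((P : Subgroup G) ⊓ Subgroup.centralizer ({y} : Set G))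
      (⟨hkP, mem_cent.2 hyk.symm⟩ : k ∈ (P : Subgroup G) ⊓ Subgroup.centralizer ({y} : Set G))
    rwa [hk.1] at this
  obtain ⟨i, hi, he⟩ := (Nat.dvd_prime_pow (by norm_num)).1 hd
  rw [he] at hm h5
  have hi2 : i = 2 := by
    interval_cases i
    · norm_num at h5
    · rcases hq with rfl | rfl <;> simp [Nat.ModEq] at hm
    · rfl
  have hall : (P : Subgroup G) ⊓ Subgroup.centralizer ({y} : Set G) = P :=
    Subgroup.eq_of_le_of_card_ge inf_le_left (by rw [he, hi2]; exact (card_five_part h P).le)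
  have hyP : y ∈ (P : Subgroup G) := by
    rw [← sylow_five_self_cent h P, Subgroup.mem_centralizer_iff]
    intro p hp
    exact (mem_cent.1 ((hall.ge hp).2)).eq
  have := Subgroup.orderOf_dvd_natCard _ hyP
  rw [hy, show Nat.card (P : Subgroup G) = 25 from card_five_part h P] at this
  rcases hq with rfl | rfl <;> norm_num at this

omit [Finite G] in
theorem mem_of_index_two {C : Type*} [Group C] {K : Subgroup C} [K.Normal] (hK : K.index = 2) {x : C} {n : ℕ}
    (hx : x ^ (2 * n + 1) = 1) : x ∈ K := by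
  have h2 : x ^ 2 ∈ K := hK ▸ K.pow_index_mem x
  have : x = (x ^ 2) ^ (n + 1) := by
    rw [← pow_mul, show 2 * (n + 1) = 2 * n + 1 + 1 by ring, pow_succ, hx, one_mul]
  rw [this]
  exact K.pow_mem h2 _

/-- the centralizer of an element of the second kind has a subgroup of odd order and index two -/
theorem k_half (h : Hyp z Q) {k : G} (hk : KType z k) :
    ∃ K : Subgroup (Subgroup.centralizer ({k} : Set G)), K.Normal ∧ K.index = 2 ∧ ¬ 2 ∣ Nat.card K := by
  classical
  haveI : Fact (Nat.Prime 2) := ⟨Nat.prime_two⟩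
  set C := Subgroup.centralizer ({k} : Set G) with hC
  obtain ⟨-, j, hzj, hkj⟩ := id hk
  obtain ⟨hjj, hj1⟩ := conj_invol h hzj
  let jC : C := ⟨j, mem_cent.2 hkj.symm⟩
  have h2C : 2 ∣ Nat.card C := by
    have := Subgroup.orderOf_dvd_natCard C jC.2
    rwa [HallJankoPairs.ord_of hjj hj1] at this
  obtain ⟨S⟩ := (inferInstance : Nonempty (Sylow 2 C))
  have hS2 : Nat.card (S : Subgroup C) = 2 := by
    have hle := k_two h hk (S := (S : Subgroup C).map C.subtype) (S.isPGroup'.map _)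
      (by rintro _ ⟨x, -, rfl⟩; exact (mem_cent.1 x.2).symm)
    rw [Subgroup.card_map_of_injective C.subtype_injective] at hle
    have h2 : 2 ∣ Nat.card (S : Subgroup C) := S.dvd_card_of_dvd_card h2C
    exact le_antisymm hle (Nat.le_of_dvd Nat.card_pos h2)
  have hSc : Subgroup.normalizer ((S : Subgroup C) : Set C) ≤ Subgroup.centralizer ((S : Subgroup C) : Set C) := by
    intro n hn
    rw [Subgroup.mem_centralizer_iff]
    intro s hs
    by_cases hs1 : s = 1
    · rw [hs1, one_mul, mul_one]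
    obtain ⟨⟨u, hu⟩, -, huniq⟩ := (Nat.card_eq_two_iff' (1 : (S : Subgroup C))).1 hS2
    have e1 := huniq ⟨n * s * n⁻¹, (Subgroup.mem_normalizer_iff.1 hn s).1 hs⟩
      fun e => hs1 (conj_eq_one_iff.1 (congrArg Subtype.val e :))
    have e2 := huniq ⟨s, hs⟩ fun e => hs1 (congrArg Subtype.val e)
    exact (mul_inv_eq_iff_eq_mul.1 (congrArg Subtype.val (e1.trans e2.symm) :)).symm
  have hcompl := MonoidHom.ker_transferSylow_isComplement' S hSc
  exact ⟨_, inferInstance, hcompl.symm.index_eq_card.trans hS2, MonoidHom.not_dvd_card_ker_transferSylow S hSc⟩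

theorem norm_cent_k (h : Hyp z Q) (P : Sylow 5 G) {k : G} (hkP : k ∈ (P : Subgroup G)) (hk : KType z k) :
    Nat.card ↥(Subgroup.normalizer ((P : Subgroup G) : Set G) ⊓ Subgroup.centralizer ({k} : Set G)) = 50 := by
  classical
  haveI : Fact (Nat.Prime 2) := ⟨Nat.prime_two⟩
  haveI : Fact (Nat.Prime 5) := ⟨by norm_num⟩
  haveI : Fact (Nat.Prime 3) := ⟨Nat.prime_three⟩
  haveI : Fact (Nat.Prime 7) := ⟨by norm_num⟩
  set C := Subgroup.centralizer ({k} : Set G) with hC
  set T := Subgroup.normalizer ((P : Subgroup G) : Set G) ⊓ C with hT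
  have hPC : (P : Subgroup G) ≤ C := fun x hx => mem_cent.2 (sylow_five_comm h P hx hkP)
  have hPT : (P : Subgroup G) ≤ T := le_inf Subgroup.le_normalizer hPC
  obtain ⟨m, hm⟩ : 25 ∣ Nat.card T := card_five_part h P ▸ Subgroup.card_dvd_of_le hPT
  have hno : ∀ q, q = 3 ∨ q = 7 → ¬ q ∣ Nat.card T := fun q hq hd => by
    haveI : Fact q.Prime := ⟨by rcases hq with rfl | rfl <;> norm_num⟩
    obtain ⟨y, hy⟩ := exists_prime_orderOf_dvd_card' (G := T) q hd
    exact fixed_sylow h P hkP hk y.2.1 (mem_cent.1 y.2.2) ((Subgroup.orderOf_coe y).trans hy) hq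
  have h4 : ¬ 4 ∣ Nat.card T := fun hd => by
    obtain ⟨S, hS⟩ := Sylow.exists_subgroup_card_pow_prime (G := T) 2 (n := 2) (by norm_num; exact hd)
    have := k_two h hk (S := S.map T.subtype) ((IsPGroup.of_card hS).map _)
      (by rintro _ ⟨x, -, rfl⟩; exact (mem_cent.1 x.2.2).symm)
    rw [Subgroup.card_map_of_injective T.subtype_injective, hS] at this
    norm_num at this
  have hm2 : m = 1 ∨ m = 2 := by
    have h1 : Nat.card T ∣ 604800 := order_eq h ▸ Subgroup.card_subgroup_dvd_card T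
    rw [hm] at h1 h4
    have h2 : m ∣ 128 * 189 := by
      rw [show (604800 : ℕ) = 25 * (128 * 189) by norm_num] at h1
      exact Nat.dvd_of_mul_dvd_mul_left (by norm_num) h1
    have hco : Nat.Coprime m 189 := by
      rw [show (189 : ℕ) = 3 ^ 3 * 7 by norm_num]
      refine Nat.Coprime.mul_right (Nat.Coprime.pow_right _ ?_) ?_
      · exact ((Nat.Prime.coprime_iff_not_dvd Nat.prime_three).2 fun hd =>
          hno 3 (Or.inl rfl) (hm ▸ hd.mul_left 25)).symm
      · exact ((Nat.Prime.coprime_iff_not_dvd (by norm_num : Nat.Prime 7)).2 fun hd =>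
          hno 7 (Or.inr rfl) (hm ▸ hd.mul_left 25)).symm
    have h3 : m ∣ 2 ^ 7 := hco.dvd_of_dvd_mul_right h2
    obtain ⟨i, -, rfl⟩ := (Nat.dvd_prime_pow Nat.prime_two).1 h3
    rcases i with _ | _ | i
    · exact Or.inl rfl
    · exact Or.inr rfl
    · exact absurd (Dvd.dvd.mul_left ⟨2 ^ i, by ring⟩ 25) h4
  rcases hm2 with rfl | rfl
  swap
  · rw [hm]
  exfalso
  have hTP : (P : Subgroup G) = T :=
    Subgroup.eq_of_le_of_card_ge hPT (by rw [hm]; exact (card_five_part h P).ge)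
  obtain ⟨K, hKn, hKi, -⟩ := k_half h hk
  haveI := hKn
  set Pc : Sylow 5 C := P.subtype hPC with hPc
  have hPK : (Pc : Subgroup C) ≤ K := fun p hp => by
    rw [hPc, Sylow.coe_subtype] at hp
    exact mem_of_index_two hKi (n := 12) (Subtype.ext (by
      exact pow_25 h P hp))
  have htop : Subgroup.normalizer ((Pc : Subgroup C) : Set C) ⊔ K = ⊤ :=
    Sylow.normalizer_sup_eq_top' (N := K) Pc hPK
  have hle : Subgroup.normalizer ((Pc : Subgroup C) : Set C) ≤ K := fun x hx => hPK (by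
    rw [hPc, Sylow.coe_subtype] at hx ⊢
    rw [← Subgroup.subgroupOf_normalizer_eq hPC] at hx
    exact hTP.ge ⟨hx, x.2⟩)
  rw [sup_eq_right.2 hle] at htop
  rw [show K = ⊤ from htop, Subgroup.index_top] at hKi
  norm_num at hKi

theorem orbit_card (N : Subgroup G) (u : G) :
    {x : G | ∃ n ∈ N, n * u * n⁻¹ = x}.ncard * Nat.card ↥(N ⊓ Subgroup.centralizer ({u} : Set G)) = Nat.card N := by
  classical
  set O := {x : G | ∃ n ∈ N, n * u * n⁻¹ = x}
  letI : MulAction N G := MulAction.compHom G (MulAut.conj.comp N.subtype)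
  have hval : ∀ (n : N) (x : G), n • x = (n : G) * x * (n : G)⁻¹ := fun n x => rfl
  have e1 : O = MulAction.orbit N u := by
    ext x
    constructor
    · rintro ⟨n, hn, rfl⟩; exact ⟨⟨n, hn⟩, rfl⟩
    · rintro ⟨n, rfl⟩; exact ⟨n, n.2, rfl⟩
  have e2 : Nat.card (MulAction.stabilizer N u) = Nat.card ↥(N ⊓ Subgroup.centralizer ({u} : Set G)) :=
    Nat.card_congr
      { toFun := fun n => ⟨((n : N) : G), (n : N).2,
          mem_cent.2 (mul_inv_eq_iff_eq_mul.1 (show ((n : N) : G) * u * ((n : N) : G)⁻¹ = u from n.2))⟩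
        invFun := fun n => ⟨⟨n, n.2.1⟩, by
          show (n : G) * u * (n : G)⁻¹ = u
          rw [(mem_cent.1 n.2.2).eq, mul_inv_cancel_right]⟩
        left_inv := fun n => rfl
        right_inv := fun n => rfl }
  rw [e1, ← e2, ← MulAction.index_stabilizer, mul_comm]
  exact (MulAction.stabilizer N u).card_mul_index

theorem orbit_five (h : Hyp z Q) (P : Sylow 5 G) {u : G} (hu : u ∈ (P : Subgroup G))
    (ht : DType z u ∨ KType z u) :
    {x : G | ∃ n ∈ Subgroup.normalizer ((P : Subgroup G) : Set G), n * u * n⁻¹ = x}.ncard * 50 =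
      Nat.card (Subgroup.normalizer ((P : Subgroup G) : Set G)) := by
  have h50 : Nat.card ↥(Subgroup.normalizer ((P : Subgroup G) : Set G) ⊓ Subgroup.centralizer ({u} : Set G)) = 50 := by
    rcases ht with ht | ht
    · exact norm_cent_d h P hu ht
    · exact norm_cent_k h P hu ht
  rw [← h50]
  exact orbit_card _ u

theorem card_nontriv (h : Hyp z Q) (P : Sylow 5 G) :
    (((P : Subgroup G) : Set G) \ {1}).ncard = 24 := by
  rw [Set.ncard_sdiff_singleton_of_mem (P : Subgroup G).one_mem, ← Nat.card_coe_set_eq]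
  rw [show Nat.card ↥((P : Subgroup G) : Set G) = 25 from card_five_part h P]

theorem orbit_subset (P : Sylow 5 G) {u : G} (hu : u ∈ (P : Subgroup G)) (hu1 : u ≠ 1) :
    {x : G | ∃ n ∈ Subgroup.normalizer ((P : Subgroup G) : Set G), n * u * n⁻¹ = x} ⊆
      ((P : Subgroup G) : Set G) \ {1} := by
  rintro _ ⟨n, hn, rfl⟩
  exact ⟨(Subgroup.mem_normalizer_iff.1 hn u).1 hu, fun e => hu1 (conj_eq_one_iff.1 (Set.mem_singleton_iff.1 e))⟩

theorem card_normalizer_five (h : Hyp z Q) (P : Sylow 5 G) :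
    Nat.card (Subgroup.normalizer ((P : Subgroup G) : Set G)) = 300 := by
  classical
  haveI : Fact (Nat.Prime 5) := ⟨by norm_num⟩
  obtain ⟨d, k, hdP, hkP, hd, hk⟩ := sylow_types h P
  set N := Subgroup.normalizer ((P : Subgroup G) : Set G) with hN
  set A := {x : G | ∃ n ∈ N, n * d * n⁻¹ = x} with hA
  set B := {x : G | ∃ n ∈ N, n * k * n⁻¹ = x} with hB
  have ha := orbit_five h P hdP (Or.inl hd)
  have hb := orbit_five h P hkP (Or.inr hk)
  rw [← hN, ← hA] at ha
  rw [← hN, ← hB] at hb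
  have hne1 : ∀ {x : G}, orderOf x = 5 → x ≠ 1 := fun {x} hx e => by rw [e, orderOf_one] at hx; norm_num at hx
  have hdis : Disjoint A B := Set.disjoint_left.2 fun x ⟨n, _, e1⟩ ⟨n', _, e2⟩ =>
    not_kType h (e1 ▸ dType_conj hd n) (e2 ▸ kType_conj hk n')
  have hle : (A ∪ B).ncard ≤ 24 := card_nontriv h P ▸ Set.ncard_le_ncard
    (Set.union_subset (orbit_subset P hdP (hne1 hd.1)) (orbit_subset P hkP (hne1 hk.1))) (Set.toFinite _)
  rw [Set.ncard_union_eq hdis (Set.toFinite _) (Set.toFinite _), show B.ncard = A.ncard by omega] at hle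
  have hidx : N.index ≡ 1 [MOD 5] := by
    have := card_sylow_modEq_one 5 G
    rw [P.card_eq_index_normalizer] at this
    exact this
  have hprod := N.card_mul_index
  rw [order_eq h] at hprod
  set a := A.ncard with ha'
  have h12 : a * N.index = 12096 := by
    have h50 : 50 * (a * N.index) = 50 * 12096 := by rw [← mul_assoc, mul_comm 50 a, ha, hprod]
    exact Nat.eq_of_mul_eq_mul_left (by norm_num) h50
  have hd12 : a ∣ 12096 := ⟨_, h12.symm⟩
  have ha6 : a = 1 ∨ a = 6 := by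
    have hmod : a * N.index ≡ a * 1 [MOD 5] := hidx.mul_left a
    rw [h12, mul_one] at hmod
    unfold Nat.ModEq at hmod
    have : a ≤ 12 := by omega
    interval_cases a <;> omega
  rcases ha6 with h1 | h6
  · exfalso
    rw [h1] at ha
    have hT : ∀ {u : G}, u ∈ (P : Subgroup G) → DType z u ∨ KType z u → ∀ n ∈ N, Commute n u := by
      intro u hu ht n hn
      have he : N ⊓ Subgroup.centralizer ({u} : Set G) = N := by
        refine Subgroup.eq_of_le_of_card_ge inf_le_left ?_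
        rcases ht with ht | ht
        · rw [hN, norm_cent_d h P hu ht, ← hN]; omega
        · rw [hN, norm_cent_k h P hu ht, ← hN]; omega
      exact mem_cent.1 (he.ge hn).2
    have hNP : N ≤ (P : Subgroup G) := fun n hn => by
      rw [← sylow_five_self_cent h P, Subgroup.mem_centralizer_iff]
      intro p hp
      have hH := sylow_eq_of_two h P (H := (P : Subgroup G) ⊓ Subgroup.centralizer ({n} : Set G)) inf_le_left hd hk
        ⟨hdP, mem_cent.2 (hT hdP (Or.inl hd) n hn).symm⟩ ⟨hkP, mem_cent.2 (hT hkP (Or.inr hk) n hn).symm⟩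
      exact (mem_cent.1 (hH.ge hp).2).eq
    have := Subgroup.card_le_of_le hNP
    rw [show Nat.card (P : Subgroup G) = 25 from card_five_part h P] at this
    omega
  · omega

theorem not_conj_sq (h : Hyp z Q) (P : Sylow 5 G) {u : G} (hu : u ∈ (P : Subgroup G))
    (ht : DType z u ∨ KType z u) {n : G} (hn : n ∈ Subgroup.normalizer ((P : Subgroup G) : Set G)) :
    n * u * n⁻¹ ≠ u ^ 2 := by
  intro he
  have ho : orderOf u = 5 := ht.elim (·.1) (·.1)
  set N := Subgroup.normalizer ((P : Subgroup G) : Set G) with hN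
  have h50 : Nat.card ↥(N ⊓ Subgroup.centralizer ({u} : Set G)) = 50 := by
    rcases ht with ht | ht
    · exact norm_cent_d h P hu ht
    · exact norm_cent_k h P hu ht
  set U := Subgroup.zpowers u with hU
  set S := N ⊓ Subgroup.normalizer (U : Set G) with hS
  let f : S →* MulAut U := U.normalizerMonoidHom.comp (Subgroup.inclusion inf_le_right)
  have hf : ∀ x : S, f x = 1 ↔ Commute (x : G) u := fun x => by
    constructor
    · intro hx
      exact mul_inv_eq_iff_eq_mul.1 (congrArg Subtype.val (DFunLike.congr_fun hx ⟨u, Subgroup.mem_zpowers u⟩) :)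
    · intro hx
      ext v
      obtain ⟨i, hi⟩ := Subgroup.mem_zpowers_iff.1 v.2
      show (x : G) * v * (x : G)⁻¹ = v
      rw [← hi, (hx.zpow_right i).eq, mul_inv_cancel_right]
  have hpow : ∀ i : ℕ, n ^ i * u * (n ^ i)⁻¹ = u ^ (2 ^ i) := by
    intro i
    induction i with
    | zero => simp
    | succ i ih =>
      rw [pow_succ' n i, show n * n ^ i * u * (n * n ^ i)⁻¹ = n * (n ^ i * u * (n ^ i)⁻¹) * n⁻¹ by group, ih,
        ← conj_pow, he, ← pow_mul, pow_succ', mul_comm]
  have hnU : n ∈ Subgroup.normalizer (U : Set G) := by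
    rw [Subgroup.mem_normalizer_iff_map_conj_eq, hU, MonoidHom.map_zpowers]
    show Subgroup.zpowers (n * u * n⁻¹) = _
    rw [he]
    refine Subgroup.eq_of_le_of_card_ge (Subgroup.zpowers_le.2 (Subgroup.npow_mem_zpowers u 2)) ?_
    rw [Nat.card_zpowers, Nat.card_zpowers, Nat.Coprime.orderOf_pow (by rw [ho]; norm_num)]
  let nS : S := ⟨n, hn, hnU⟩
  haveI : Fact (Nat.Prime 2) := ⟨Nat.prime_two⟩
  have h2 : ¬ f nS ^ 2 ^ 1 = 1 := fun e => by
    rw [← map_pow, hf] at e
    have h4 : u ^ 4 = u := by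
      have := hpow 2
      rw [show ((nS ^ 2 ^ 1 : S) : G) = n ^ 2 from rfl] at e
      rw [e.eq, mul_inv_cancel_right] at this
      exact this.symm
    have h3 : u ^ 3 = 1 := by
      rw [pow_succ] at h4
      exact mul_eq_right.1 h4
    have := orderOf_dvd_of_pow_eq_one h3
    rw [ho] at this
    norm_num at this
  have h4 : f nS ^ 2 ^ (1 + 1) = 1 := by
    rw [← map_pow, hf, show ((nS ^ 2 ^ (1 + 1) : S) : G) = n ^ 4 from rfl]
    have := hpow 4
    rw [show u ^ (2 : ℕ) ^ 4 = u by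
      rw [show (2 : ℕ) ^ 4 = 5 * 3 + 1 by norm_num, pow_succ, pow_mul,
        show u ^ 5 = 1 by rw [← ho, pow_orderOf_eq_one], one_pow, one_mul]] at this
    exact mul_inv_eq_iff_eq_mul.1 this
  have ho4 := orderOf_eq_prime_pow h2 h4
  have h4r : 4 ∣ Nat.card f.range := by
    have := Subgroup.orderOf_dvd_natCard f.range (⟨nS, rfl⟩ : f nS ∈ f.range)
    rwa [ho4] at this
  have hker : Nat.card f.ker = 50 := by
    rw [← h50]
    exact Nat.card_congr
      { toFun := fun x => ⟨((x : S) : G), (x : S).2.1, mem_cent.2 ((hf _).1 x.2)⟩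
        invFun := fun x => ⟨⟨x, x.2.1, Subgroup.mem_normalizer_iff_map_conj_eq.2 (by
            rw [hU, MonoidHom.map_zpowers]
            show Subgroup.zpowers ((x : G) * u * (x : G)⁻¹) = _
            rw [(mem_cent.1 x.2.2).eq, mul_inv_cancel_right])⟩, (hf _).2 (mem_cent.1 x.2.2)⟩
        left_inv := fun x => rfl
        right_inv := fun x => rfl }
  have hdvd : Nat.card S ∣ 300 := card_normalizer_five h P ▸ Subgroup.card_dvd_of_le inf_le_left
  rw [← f.ker.card_mul_index, Subgroup.index_ker, hker] at hdvd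
  have : 50 * 4 ∣ 300 := (Nat.mul_dvd_mul_left 50 h4r).trans hdvd
  norm_num at this

theorem classes_five_types (h : Hyp z Q) (P : Sylow 5 G) :
    ∃ X Y : Subgroup G, Nat.card X = 5 ∧ Nat.card Y = 5 ∧
      ((∀ x ∈ X, x ≠ 1 → DType z x) ∧ ∀ y ∈ Y, y ≠ 1 → KType z y) ∧
      (∀ g : G, X.map (MulAut.conj g).toMonoidHom ≠ Y) ∧
      ∀ W : Subgroup G, Nat.card W = 5 →
        ∃ g : G, W.map (MulAut.conj g).toMonoidHom = X ∨ W.map (MulAut.conj g).toMonoidHom = Y := by
  classical
  haveI : Fact (Nat.Prime 5) := ⟨by norm_num⟩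
  obtain ⟨d, k, hdP, hkP, hd, hk⟩ := sylow_types h P
  refine ⟨Subgroup.zpowers d, Subgroup.zpowers k, by rw [Nat.card_zpowers, hd.1],
    by rw [Nat.card_zpowers, hk.1],
    ⟨fun x hx hx1 => dType_pow hd hx hx1, fun y hy hy1 => kType_pow hk hy hy1⟩, fun g e => ?_, ?_⟩
  · rw [MonoidHom.map_zpowers] at e
    have hm : g * d * g⁻¹ ∈ Subgroup.zpowers k := e.le (Subgroup.mem_zpowers _)
    refine not_kType h (dType_conj hd g) (kType_pow hk hm fun e' => ?_)
    have := (dType_conj hd g).1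
    rw [e', orderOf_one] at this
    norm_num at this
  set N := Subgroup.normalizer ((P : Subgroup G) : Set G) with hN
  let O : G → Set G := fun u => {x | ∃ n ∈ N, n * u * n⁻¹ = x}
  have hne1 : ∀ {x : G}, orderOf x = 5 → x ≠ 1 := fun {x} hx e => by rw [e, orderOf_one] at hx; norm_num at hx
  have hd2 : DType z (d ^ 2) := dType_pow hd (Subgroup.npow_mem_zpowers d 2) fun e => by
    have := orderOf_dvd_of_pow_eq_one e; rw [hd.1] at this; norm_num at this
  have hk2 : KType z (k ^ 2) := kType_pow hk (Subgroup.npow_mem_zpowers k 2) fun e => by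
    have := orderOf_dvd_of_pow_eq_one e; rw [hk.1] at this; norm_num at this
  have hdd : ∀ {a b : G}, DType z a → KType z b → Disjoint (O a) (O b) := fun {a b} ha hb =>
    Set.disjoint_left.2 fun x ⟨n, _, e1⟩ ⟨n', _, e2⟩ => not_kType h (e1 ▸ dType_conj ha n) (e2 ▸ kType_conj hb n')
  have hsq : ∀ {a : G}, a ∈ (P : Subgroup G) → DType z a ∨ KType z a → Disjoint (O a) (O (a ^ 2)) := by
    intro a ha hta
    refine Set.disjoint_left.2 fun x ⟨n, hn, e1⟩ ⟨n', hn', e2⟩ => not_conj_sq h P ha hta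
      (N.mul_mem (N.inv_mem hn') hn) ?_
    rw [← e2] at e1
    calc n'⁻¹ * n * a * (n'⁻¹ * n)⁻¹ = n'⁻¹ * (n * a * n⁻¹) * n' := by group
      _ = a ^ 2 := by rw [e1]; group
  have h6 : ∀ {a : G}, a ∈ (P : Subgroup G) → DType z a ∨ KType z a → (O a).ncard = 6 := by
    intro a ha hta
    have := orbit_five h P ha hta
    rw [card_normalizer_five h P] at this
    change (O a).ncard * 50 = 300 at this
    omega
  have hsub : O d ∪ O (d ^ 2) ∪ (O k ∪ O (k ^ 2)) ⊆ ((P : Subgroup G) : Set G) \ {1} :=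
    Set.union_subset (Set.union_subset (orbit_subset P hdP (hne1 hd.1))
      (orbit_subset P (Subgroup.pow_mem _ hdP 2) (hne1 hd2.1)))
      (Set.union_subset (orbit_subset P hkP (hne1 hk.1))
      (orbit_subset P (Subgroup.pow_mem _ hkP 2) (hne1 hk2.1)))
  have hall : O d ∪ O (d ^ 2) ∪ (O k ∪ O (k ^ 2)) = ((P : Subgroup G) : Set G) \ {1} := by
    refine Set.eq_of_subset_of_ncard_le hsub ?_ (Set.toFinite _)
    rw [card_nontriv h P, Set.ncard_union_eq ?_ (Set.toFinite _) (Set.toFinite _),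
      Set.ncard_union_eq (hsq hdP (Or.inl hd)) (Set.toFinite _) (Set.toFinite _),
      Set.ncard_union_eq (hsq hkP (Or.inr hk)) (Set.toFinite _) (Set.toFinite _),
      h6 hdP (Or.inl hd), h6 (Subgroup.pow_mem _ hdP 2) (Or.inl hd2), h6 hkP (Or.inr hk),
      h6 (Subgroup.pow_mem _ hkP 2) (Or.inr hk2)]
    rw [Set.disjoint_union_left, Set.disjoint_union_right, Set.disjoint_union_right]
    exact ⟨⟨hdd hd hk, hdd hd hk2⟩, hdd hd2 hk, hdd hd2 hk2⟩
  intro W hW
  obtain ⟨w, hw⟩ := exists_prime_orderOf_dvd_card' (G := W) 5 hW.symm.dvd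
  have hw' : orderOf (w : G) = 5 := (Subgroup.orderOf_coe w).trans hw
  have hWw : W = Subgroup.zpowers (w : G) := (Subgroup.eq_of_le_of_card_ge (Subgroup.zpowers_le.2 w.2)
    (by rw [Nat.card_zpowers, hw', hW])).symm
  obtain ⟨g, hg⟩ := exists_conj_mem P (w : G) hw'
  have hz2 : ∀ {a : G}, orderOf a = 5 → Subgroup.zpowers (a ^ 2) = Subgroup.zpowers a := fun {a} ha =>
    Subgroup.eq_of_le_of_card_ge (Subgroup.zpowers_le.2 (Subgroup.npow_mem_zpowers a 2))
      (by rw [Nat.card_zpowers, Nat.card_zpowers, Nat.Coprime.orderOf_pow (by rw [ha]; norm_num)])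
  have hmap : ∀ u n : G, n * u * n⁻¹ = g * (w : G) * g⁻¹ →
      W.map (MulAut.conj (n⁻¹ * g)).toMonoidHom = Subgroup.zpowers u := fun u n e => by
    rw [hWw, MonoidHom.map_zpowers]
    congr 1
    show n⁻¹ * g * (w : G) * (n⁻¹ * g)⁻¹ = u
    rw [show n⁻¹ * g * (w : G) * (n⁻¹ * g)⁻¹ = n⁻¹ * (g * w * g⁻¹) * n by group, ← e]
    group
  rcases hall.ge ⟨hg, fun e => hne1 hw' (conj_eq_one_iff.1 (Set.mem_singleton_iff.1 e))⟩ with
    (⟨n, -, e⟩ | ⟨n, -, e⟩) | (⟨n, -, e⟩ | ⟨n, -, e⟩)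
  · exact ⟨_, Or.inl (hmap _ n e)⟩
  · exact ⟨_, Or.inl ((hmap _ n e).trans (hz2 hd.1))⟩
  · exact ⟨_, Or.inr (hmap _ n e)⟩
  · exact ⟨_, Or.inr ((hmap _ n e).trans (hz2 hk.1))⟩

theorem classes_five (h : Hyp z Q) (P : Sylow 5 G) :
    ∃ X Y : Subgroup G, Nat.card X = 5 ∧ Nat.card Y = 5 ∧
      (∀ g : G, X.map (MulAut.conj g).toMonoidHom ≠ Y) ∧
      ∀ W : Subgroup G, Nat.card W = 5 →
        ∃ g : G, W.map (MulAut.conj g).toMonoidHom = X ∨ W.map (MulAut.conj g).toMonoidHom = Y := by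
  obtain ⟨X, Y, hX, hY, -, hne, hall⟩ := classes_five_types h P
  exact ⟨X, Y, hX, hY, hne, hall⟩

theorem five_cases (h : Hyp z Q) {c : G} (hc : orderOf c = 5) : DType z c ∨ KType z c := by
  obtain ⟨P, -⟩ := exists_sylow_mem c hc
  obtain ⟨X, Y, -, -, ⟨hX, hY⟩, -, hall⟩ := classes_five_types h P
  obtain ⟨g, hg⟩ := hall (Subgroup.zpowers c) (by rw [Nat.card_zpowers, hc])
  have hm : g * c * g⁻¹ ∈ (Subgroup.zpowers c).map (MulAut.conj g).toMonoidHom :=
    ⟨c, Subgroup.mem_zpowers c, rfl⟩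
  have h1 : g * c * g⁻¹ ≠ 1 := fun e => by
    rw [conj_eq_one_iff.1 e, orderOf_one] at hc
    norm_num at hc
  have hback : c = g⁻¹ * (g * c * g⁻¹) * g⁻¹⁻¹ := by group
  rw [hback]
  rcases hg with e | e
  · exact Or.inl (dType_conj (hX _ (e ▸ hm) h1) _)
  · exact Or.inr (kType_conj (hY _ (e ▸ hm) h1) _)

theorem norm_cent {y g : G} {q r : ℕ} (hy : orderOf y = q) (hq : 0 < q) (hg : g ^ r = 1)
    (hc : g * y * g⁻¹ ∈ Subgroup.zpowers y) (hi : ∀ i < q, i ^ r % q = 1 % q → i % q = 1 % q) :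
    Commute g y := by
  obtain ⟨m, hm⟩ := (mem_powers_iff_mem_zpowers).2 hc
  change y ^ m = g * y * g⁻¹ at hm
  rw [← pow_mod_orderOf, hy] at hm
  have hpow : ∀ k : ℕ, g ^ k * y * (g ^ k)⁻¹ = y ^ ((m % q) ^ k) := by
    intro k
    induction k with
    | zero => simp
    | succ k ih =>
      rw [pow_succ g k, show g ^ k * g * y * (g ^ k * g)⁻¹ = g ^ k * (g * y * g⁻¹) * (g ^ k)⁻¹ by group, ← hm,
        ← conj_pow, ih, ← pow_mul, ← pow_succ]
  have h1 := hpow r
  rw [hg, one_mul, inv_one, mul_one] at h1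
  have h2 : (m % q) ^ r % q = 1 % q := by
    have := (pow_eq_pow_iff_modEq (x := y) (m := 1) (n := (m % q) ^ r)).1 (by rw [pow_one]; exact h1.symm)
    rw [hy] at this
    exact this
  have h3 := hi _ (Nat.mod_lt _ hq) h2
  have h4 : y ^ (m % q) = y := by
    rw [← pow_one y, ← pow_mul, one_mul, pow_eq_pow_iff_modEq, hy]
    exact h3
  rw [h4] at hm
  exact mul_inv_eq_iff_eq_mul.1 hm.symm

set_option maxHeartbeats 400000 in
/-- the centralizer of an element of the second kind -/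
theorem card_cent_k (h : Hyp z Q) {k : G} (hk : KType z k) :
    Nat.card (Subgroup.centralizer ({k} : Set G)) = 50 := by
  classical
  haveI : Fact (Nat.Prime 5) := ⟨by norm_num⟩
  haveI : Fact (Nat.Prime 7) := ⟨by norm_num⟩
  obtain ⟨P, hkP⟩ := exists_sylow_mem k hk.1
  have hh := k_half h hk
  set C := Subgroup.centralizer ({k} : Set G) with hC
  obtain ⟨K, hKn, hKi, hKo⟩ := hh
  haveI := hKn
  have hPC : (P : Subgroup G) ≤ C := fun x hx => mem_cent.2 (sylow_five_comm h P hx hkP)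
  set Pc : Sylow 5 C := P.subtype hPC with hPc
  have hN50 : Nat.card (Subgroup.normalizer ((Pc : Subgroup C) : Set C)) = 50 := by
    rw [hPc, Sylow.coe_subtype, ← Subgroup.subgroupOf_normalizer_eq hPC, ← Subgroup.inf_subgroupOf_right,
      Nat.card_congr (Subgroup.subgroupOfEquivOfLe inf_le_right).toEquiv]
    exact norm_cent_k h P hkP hk
  have hprod := (Subgroup.normalizer ((Pc : Subgroup C) : Set C)).card_mul_index
  rw [hN50] at hprod
  set b := (Subgroup.normalizer ((Pc : Subgroup C) : Set C)).index with hb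
  have hmod : b ≡ 1 [MOD 5] := by
    have := card_sylow_modEq_one 5 C
    rw [Pc.card_eq_index_normalizer] at this
    exact this
  have hK25 : Nat.card K = 25 * b := by
    have := K.card_mul_index
    rw [hKi, ← hprod] at this
    omega
  have hKd : Nat.card K ∣ 4725 := by
    have h1 : Nat.card K ∣ 128 * 4725 := by
      have := (Subgroup.card_subgroup_dvd_card K).trans (Subgroup.card_subgroup_dvd_card C)
      rwa [order_eq h] at this
    refine (Nat.Coprime.pow_right 7 ?_).dvd_of_dvd_mul_left (show Nat.card K ∣ 2 ^ 7 * 4725 from h1)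
    exact ((Nat.Prime.coprime_iff_not_dvd Nat.prime_two).2 hKo).symm
  rw [hK25, show (4725 : ℕ) = 25 * 189 from rfl] at hKd
  have hbd : b ∣ 189 := Nat.dvd_of_mul_dvd_mul_left (by norm_num) hKd
  have hb' : b = 1 ∨ b = 21 := by
    have : b ≤ 189 := Nat.le_of_dvd (by norm_num) hbd
    have hm : b % 5 = 1 := hmod
    have hdiv : b ∈ Nat.divisors 189 := Nat.mem_divisors.2 ⟨hbd, by norm_num⟩
    rw [show Nat.divisors 189 = {1, 3, 7, 9, 21, 27, 63, 189} by decide +kernel] at hdiv
    simp only [Finset.mem_insert, Finset.mem_singleton] at hdiv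
    omega
  rcases hb' with h1 | h21
  · rw [h1] at hprod; exact hprod.symm
  exfalso
  -- a subgroup of odd order `525`
  set K' := K.map C.subtype with hK'
  have hK'c : Nat.card K' = 525 := by
    rw [hK', Subgroup.card_map_of_injective C.subtype_injective, hK25, h21]
  have hPK : (P : Subgroup G) ≤ K' := fun p hp => ⟨⟨p, hPC hp⟩, mem_of_index_two hKi (n := 12)
    (Subtype.ext (by
      exact pow_25 h P hp)),
    rfl⟩
  set Pk : Sylow 5 K' := P.subtype hPK with hPk
  have hP25 : Nat.card (P : Subgroup G) = 25 := card_five_part h P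
  have hNP : Subgroup.normalizer ((P : Subgroup G) : Set G) ⊓ K' ≤ (P : Subgroup G) := by
    refine le_of_eq (Subgroup.eq_of_le_of_card_ge (le_inf Subgroup.le_normalizer hPK) ?_).symm
    have h1 : Nat.card ↥(Subgroup.normalizer ((P : Subgroup G) : Set G) ⊓ K') ∣ 525 :=
      hK'c ▸ Subgroup.card_dvd_of_le inf_le_right
    have h2 : Nat.card ↥(Subgroup.normalizer ((P : Subgroup G) : Set G) ⊓ K') ∣ 50 :=
      norm_cent_k h P hkP hk ▸ Subgroup.card_dvd_of_le (le_inf inf_le_left
        (inf_le_right.trans (Subgroup.map_subtype_le K)))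
    exact le_of_le_of_eq (Nat.le_of_dvd (by norm_num) (Nat.dvd_gcd h1 h2)) hP25.symm
  have hPc' : Subgroup.normalizer ((Pk : Subgroup K') : Set K') ≤
      Subgroup.centralizer ((Pk : Subgroup K') : Set K') := by
    intro x hx
    rw [hPk, Sylow.coe_subtype, ← Subgroup.subgroupOf_normalizer_eq hPK] at hx
    rw [Subgroup.mem_centralizer_iff]
    intro y hy
    exact Subtype.ext (sylow_five_comm h P hy (hNP ⟨hx, x.2⟩)).eq
  obtain ⟨M, hMn, hM21⟩ : ∃ M : Subgroup K', M.Normal ∧ Nat.card M = 21 := by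
    refine ⟨(MonoidHom.transferSylow Pk hPc').ker, inferInstance, ?_⟩
    have := (MonoidHom.ker_transferSylow_isComplement' Pk hPc').card_mul_card
    have h25 : Nat.card (Pk : Subgroup K') = 25 := by
      rw [hPk, Sylow.coe_subtype, Nat.card_congr (Subgroup.subgroupOfEquivOfLe hPK).toEquiv, hP25]
    rw [h25, hK'c] at this
    omega
  obtain ⟨y, hy⟩ := exists_prime_orderOf_dvd_card' (G := M) 7 (by rw [hM21]; norm_num)
  have hy' : orderOf ((y : K') : G) = 7 := by rw [Subgroup.orderOf_coe, Subgroup.orderOf_coe, hy]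
  have hcomm : ∀ p ∈ (P : Subgroup G), Commute p ((y : K') : G) := by
    intro p hp
    refine norm_cent (r := 25) hy' (by norm_num)
      (pow_25 h P hp) ?_ (by decide +kernel)
    let y' : M := ⟨⟨p, hPK hp⟩ * y * ⟨p, hPK hp⟩⁻¹,
      hMn.conj_mem _ y.2 _⟩
    by_contra hne
    have hy'o : orderOf y' = 7 := by
      rw [← Subgroup.orderOf_coe, ← Subgroup.orderOf_coe]
      show orderOf (p * ((y : K') : G) * p⁻¹) = 7
      exact ((MulAut.conj p).orderOf_eq _).trans hy'
    have hd : Disjoint (Subgroup.zpowers y) (Subgroup.zpowers y') := by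
      rw [Subgroup.disjoint_def]
      intro a ha ha'
      by_contra ha1
      have ho : orderOf a = 7 := ((Nat.dvd_prime (by norm_num)).1
        (hy ▸ orderOf_dvd_of_mem_zpowers ha)).resolve_left fun e => ha1 (orderOf_eq_one_iff.1 e)
      have e1 : Subgroup.zpowers a = Subgroup.zpowers y := Subgroup.eq_of_le_of_card_ge
        (Subgroup.zpowers_le.2 ha) (by rw [Nat.card_zpowers, Nat.card_zpowers, ho, hy])
      have e2 : Subgroup.zpowers a = Subgroup.zpowers y' := Subgroup.eq_of_le_of_card_ge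
        (Subgroup.zpowers_le.2 ha') (by rw [Nat.card_zpowers, Nat.card_zpowers, ho, hy'o])
      obtain ⟨i, hi⟩ := Subgroup.mem_zpowers_iff.1
        (show y' ∈ Subgroup.zpowers y from e1 ▸ e2 ▸ Subgroup.mem_zpowers y')
      exact hne (Subgroup.mem_zpowers_iff.2 ⟨i, congrArg (fun v : M => ((v : K') : G)) hi⟩)
    have := Nat.card_le_card_of_injective _ (Subgroup.mul_injective_of_disjoint hd)
    rw [Nat.card_prod, Nat.card_zpowers, Nat.card_zpowers, hy, hy'o, hM21] at this
    norm_num at this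
  have hyP : ((y : K') : G) ∈ (P : Subgroup G) := by
    rw [← sylow_five_self_cent h P, Subgroup.mem_centralizer_iff]
    exact fun p hp => (hcomm p hp).eq
  have := Subgroup.orderOf_dvd_natCard _ hyP
  rw [hy', hP25] at this
  norm_num at this

end Cfsg.Agent.Lie.HJType
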