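import Mathlib
import Cfsg.Agent.Lib.Lie.HJType.FiveNormalizer

/-!
Groups of Hall–Janko type: the two kinds of elements of order three and their centralisers.
-/

set_option autoImplicit false
set_option linter.style.haveILetI false
set_option linter.unusedSectionVars false
set_option linter.constructorNameAsVariable false

namespace Cfsg.Agent.Lie.HJType

open Equiv

universe u

local notation "A5" => alternatingGroup (Fin 5)

theorem a5_three_cent : ∀ g : A5, g ^ 3 = 1 → g ≠ 1 → ∀ h : A5, h * g = g * h → ∃ k : Fin 3, g ^ (k : ℕ) = h := by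
  decide +kernel

theorem a5_three_fix : ∀ g : A5, g ^ 3 = 1 → g ≠ 1 → ∃ i j : Fin 5, i ≠ j ∧
    (g : Perm (Fin 5)) i = i ∧ (g : Perm (Fin 5)) j = j ∧ ∀ k : Fin 5, (g : Perm (Fin 5)) k = k → k = i ∨ k = j := by
  decide +kernel

theorem a5_three_vec : ∀ g : A5, g ^ 3 = 1 → g ≠ 1 → ∀ v, Even5 v → actv g v = v →
    (∀ k : Fin 5, (g : Perm (Fin 5)) k = k → v k = 0) → v = 0 := by
  decide +kernel

theorem a5_three_conj : ∀ g : A5, g ^ 3 = 1 → g ≠ 1 → ∀ g' : A5, g' ^ 3 = 1 → g' ≠ 1 → ∃ s : A5, s * g * s⁻¹ = g' := by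
  decide +kernel

theorem a4_invol : Nat.card {k : alternatingGroup (Fin 4) // k * k = 1} = 4 := by
  rw [Nat.card_eq_fintype_card]; decide +kernel

variable {G : Type u} [Group G] [Finite G] {z : G} {Q : Subgroup G}

/-- elements of order three commuting with a conjugate of `z` -/
def XType (z u : G) : Prop := orderOf u = 3 ∧ ∃ j : G, IsConj z j ∧ Commute u j

/-- elements of order three commuting with an involution of the second class -/
def YType (z u : G) : Prop := orderOf u = 3 ∧ ∃ j : G, orderOf j = 2 ∧ ¬ IsConj j z ∧ Commute u j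

theorem xType_conj {u : G} (hu : XType z u) (g : G) : XType z (g * u * g⁻¹) := by
  obtain ⟨ho, j, hj, hc⟩ := hu
  exact ⟨((MulAut.conj g).orderOf_eq u).trans ho, g * j * g⁻¹, hj.trans (isConj_iff.2 ⟨g, rfl⟩),
    (Commute.conj_iff g).2 hc⟩

theorem yType_conj {u : G} (hu : YType z u) (g : G) : YType z (g * u * g⁻¹) := by
  obtain ⟨ho, j, hj, hjz, hc⟩ := hu
  refine ⟨((MulAut.conj g).orderOf_eq u).trans ho, g * j * g⁻¹, ((MulAut.conj g).orderOf_eq j).trans hj,
    fun hc => hjz ?_, (Commute.conj_iff g).2 hc⟩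
  exact (isConj_iff.2 ⟨g, rfl⟩ : IsConj j (g * j * g⁻¹)).trans hc

theorem xType_inv {u : G} (hu : XType z u) : XType z u⁻¹ := by
  obtain ⟨ho, j, hj, hc⟩ := hu
  exact ⟨(orderOf_inv u).trans ho, j, hj, hc.inv_left⟩

theorem three_ne {u : G} (ho : orderOf u = 3) : u ^ 3 = 1 ∧ u ≠ 1 := by
  refine ⟨by rw [← ho, pow_orderOf_eq_one], fun e => ?_⟩
  rw [e, orderOf_one] at ho
  norm_num at ho

theorem core_pi (h : Hyp z Q) (F : Frame z Q) {u : G} (hu : Commute u z) (ho : orderOf u = 3) :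
    F.π (cen z hu) ^ 3 = 1 ∧ F.π (cen z hu) ≠ 1 := by
  refine ⟨?_, fun e => ?_⟩
  · rw [← map_pow, show cen z hu ^ 3 = 1 from Subtype.ext (three_ne ho).1, map_one]
  · have hd := Subgroup.orderOf_dvd_natCard Q ((F.ker _).1 e : u ∈ Q)
    rw [show orderOf ((cen z hu : Subgroup.centralizer ({z} : Set G)) : G) = 3 from ho, F.card] at hd
    norm_num at hd

set_option maxHeartbeats 400000 in
/-- the Sylow 2-subgroup of the centraliser of an element of order three in `C(z)` -/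
theorem x_core (h : Hyp z Q) {u : G} (hu : Commute u z) (ho : orderOf u = 3) :
    Nat.card ↥(Q ⊓ Subgroup.centralizer ({u} : Set G)) = 8 ∧
    (∀ r, Commute r z → Commute r u → (∃ n : ℕ, r ^ 2 ^ n = 1) → r ∈ Q ⊓ Subgroup.centralizer ({u} : Set G)) ∧
    ∀ r ∈ Q ⊓ Subgroup.centralizer ({u} : Set G),
      (∀ s ∈ Q ⊓ Subgroup.centralizer ({u} : Set G), Commute r s) → r = 1 ∨ r = z := by
  classical
  obtain ⟨F⟩ := exists_frame h
  obtain ⟨hg3, hg1⟩ := core_pi h F hu ho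
  set g := F.π (cen z hu) with hg
  obtain ⟨i, j, hij, hi, hj, honly⟩ := a5_three_fix g hg3 hg1
  set R := Q ⊓ Subgroup.centralizer ({u} : Set G) with hR
  have hui : ∀ i : Fin 5, (g : Perm (Fin 5)) i = i → F.u i ∈ R := by
    intro i hi
    refine ⟨F.mem i, mem_cent.2 ?_⟩
    have h0 := F.act (cen z hu) i
    rw [← hg, hi] at h0
    rcases h0 with e | e
    · exact (mul_inv_eq_iff_eq_mul.1 e).symm
    · exfalso
      change u * F.u i * u⁻¹ = F.u i * z at e
      have e2 : u ^ 2 * F.u i * (u ^ 2)⁻¹ = F.u i := by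
        rw [sq, show u * u * F.u i * (u * u)⁻¹ = u * (u * F.u i * u⁻¹) * u⁻¹ by group, e, ← conj_mul, e, hu.eq,
          mul_inv_cancel_right, mul_assoc, h.S.xt.sq, mul_one]
      have hc2 : Commute (u ^ 2) (F.u i) := mul_inv_eq_iff_eq_mul.1 e2
      have hc : Commute u (F.u i) := by
        have := hc2.pow_left 2
        rwa [← pow_mul, show 2 * 2 = 3 + 1 from rfl, pow_succ, (three_ne ho).1, one_mul] at this
      rw [hc.eq, mul_inv_cancel_right] at e
      exact h.S.xt.ne (mul_eq_left.1 e.symm)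
  have hfix : ∀ r ∈ R, actv g (F.vec r) = F.vec r := by
    intro r hr
    rw [hg, ← F.vconj (cen z hu) hr.1]
    show F.vec (u * r * u⁻¹) = _
    rw [(mem_cent.1 hr.2).symm.eq, mul_inv_cancel_right]
  have hker : ∀ r ∈ R, F.vec r i = 0 → F.vec r j = 0 → r = 1 ∨ r = z := fun r hr h1 h2 =>
    F.vec_facts.2 r hr.1 (a5_three_vec g hg3 hg1 _ (F.vec_facts.1 r hr.1) (hfix r hr)
      fun k hk => (honly k hk).elim (fun e => e ▸ h1) fun e => e ▸ h2)
  have hzR : z ∈ R := ⟨h.S.xt.mem, mem_cent.2 hu.symm⟩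
  refine ⟨?_, fun r hrz hru ⟨n, hn⟩ => ⟨?_, mem_cent.2 hru⟩, fun r hr hall => hker r hr
    (F.vec_eq_zero_iff.2 (hall _ (hui i hi))) (F.vec_eq_zero_iff.2 (hall _ (hui j hj)))⟩
  · let f : R →* Multiplicative (ZMod 2 × ZMod 2) :=
      { toFun := fun r => Multiplicative.ofAdd (F.vec r i, F.vec r j)
        map_one' := by rw [OneMemClass.coe_one, F.vec_one]; rfl
        map_mul' := fun r s => by
          rw [Subgroup.coe_mul, F.vec_mul r.2.1 s.2.1]; rfl }
    have hfs : Function.Surjective f := by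
      rintro ⟨a, b⟩
      have ha : ∀ a : ZMod 2, a = 0 ∨ a = 1 := by decide
      have e01 : f ⟨F.u i, hui i hi⟩ = Multiplicative.ofAdd ((0, 1) : ZMod 2 × ZMod 2) := by
        show Multiplicative.ofAdd (F.vec (F.u i) i, F.vec (F.u i) j) = _
        rw [F.vec_u, E, E, if_pos rfl, if_neg (Ne.symm hij)]
      have e10 : f ⟨F.u j, hui j hj⟩ = Multiplicative.ofAdd ((1, 0) : ZMod 2 × ZMod 2) := by
        show Multiplicative.ofAdd (F.vec (F.u j) i, F.vec (F.u j) j) = _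
        rw [F.vec_u, E, E, if_neg hij, if_pos rfl]
      rcases ha a with rfl | rfl <;> rcases ha b with rfl | rfl
      · exact ⟨1, map_one f⟩
      · exact ⟨_, e01⟩
      · exact ⟨_, e10⟩
      · exact ⟨⟨F.u i, hui i hi⟩ * ⟨F.u j, hui j hj⟩, by rw [map_mul, e01, e10]; rfl⟩
    have hk : Nat.card f.ker = 2 := by
      rw [Nat.card_eq_two_iff' (1 : f.ker)]
      refine ⟨⟨⟨z, hzR⟩, ?_⟩, ?_, ?_⟩
      · show Multiplicative.ofAdd (F.vec z i, F.vec z j) = 1
        rw [F.vec_z]; rfl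
      · intro e
        exact h.S.xt.ne (congrArg Subtype.val (congrArg Subtype.val e))
      · rintro ⟨⟨r, hr⟩, hr0⟩ hne
        have h0 : (F.vec r i, F.vec r j) = ((0, 0) : ZMod 2 × ZMod 2) := hr0
        rcases hker r hr (Prod.ext_iff.1 h0).1 (Prod.ext_iff.1 h0).2 with e | e
        · exact absurd (Subtype.ext (Subtype.ext e)) hne
        · exact Subtype.ext (Subtype.ext e)
    rw [← f.ker.card_mul_index, Subgroup.index_ker, MonoidHom.range_eq_top.2 hfs, Subgroup.card_top, hk,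
      Nat.card_congr Multiplicative.toAdd, Nat.card_prod, Nat.card_zmod]
  · refine (F.ker (cen z hrz)).1 ?_
    obtain ⟨k, hk⟩ := a5_three_cent g hg3 hg1 (F.π (cen z hrz)) (by
      rw [hg, ← map_mul, ← map_mul]; exact congrArg F.π (Subtype.ext hru.eq))
    rw [← orderOf_eq_one_iff]
    refine Nat.eq_one_of_dvd_coprimes (a := 2 ^ n) (b := 3) (Nat.Coprime.pow_left n (by norm_num)) ?_ ?_
    · refine orderOf_dvd_of_pow_eq_one ?_
      rw [← map_pow, show cen z hrz ^ 2 ^ n = 1 from Subtype.ext hn, map_one]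
    · refine orderOf_dvd_of_pow_eq_one ?_
      rw [← hk, ← pow_mul, mul_comm, pow_mul, hg3, one_pow]

theorem x_sylow (h : Hyp z Q) {u : G} (hu : Commute u z) (ho : orderOf u = 3)
    (S : Sylow 2 (Subgroup.centralizer ({u} : Set G)))
    (hS : (Q ⊓ Subgroup.centralizer ({u} : Set G)).subgroupOf (Subgroup.centralizer ({u} : Set G)) ≤ S) :
    (Q ⊓ Subgroup.centralizer ({u} : Set G)).subgroupOf (Subgroup.centralizer ({u} : Set G)) = S := by
  haveI : Fact (Nat.Prime 2) := ⟨Nat.prime_two⟩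
  obtain ⟨-, habs, hcen⟩ := x_core h hu ho
  refine le_antisymm hS fun s hs => ?_
  let zC : Subgroup.centralizer ({u} : Set G) := ⟨z, mem_cent.2 hu.symm⟩
  have hzS : zC ∈ (S : Subgroup _) := hS (show zC ∈ _ from Subgroup.mem_subgroupOf.2 ⟨h.S.xt.mem, zC.2⟩)
  haveI : Nontrivial (S : Subgroup (Subgroup.centralizer ({u} : Set G))) :=
    ⟨⟨⟨zC, hzS⟩, 1, fun e => h.S.xt.ne (congrArg Subtype.val (congrArg Subtype.val e))⟩⟩
  haveI : Nontrivial (Subgroup.center (S : Subgroup (Subgroup.centralizer ({u} : Set G)))) :=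
    S.isPGroup'.center_nontrivial
  obtain ⟨c, hc1⟩ := exists_ne (1 : Subgroup.center (S : Subgroup (Subgroup.centralizer ({u} : Set G))))
  have hcc : ∀ (w : Subgroup.centralizer ({u} : Set G)) (hw : w ∈ (S : Subgroup (Subgroup.centralizer ({u} : Set G)))), Commute (((c : (S : Subgroup (Subgroup.centralizer ({u} : Set G)))) : Subgroup.centralizer ({u} : Set G)) : G) (w : G) := fun w hw =>
    (congrArg (fun a : (S : Subgroup (Subgroup.centralizer ({u} : Set G))) => (a : G)) (Subgroup.mem_center_iff.1 c.2 ⟨w, hw⟩)).symm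
  obtain ⟨m, hm⟩ := S.isPGroup' (c : (S : Subgroup (Subgroup.centralizer ({u} : Set G))))
  have hcR := habs _ (hcc zC hzS) (mem_cent.1 (c : (S : Subgroup (Subgroup.centralizer ({u} : Set G)))).1.2)
    ⟨m, congrArg (fun a : (S : Subgroup (Subgroup.centralizer ({u} : Set G))) => (a : G)) hm⟩
  have hcz : (((c : (S : Subgroup (Subgroup.centralizer ({u} : Set G)))) : Subgroup.centralizer ({u} : Set G)) : G) = z := by
    refine (hcen _ hcR fun r hr => hcc ⟨r, hr.2⟩ (hS (Subgroup.mem_subgroupOf.2 hr))).resolve_left fun e => hc1 ?_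
    exact Subtype.ext (Subtype.ext (Subtype.ext e))
  obtain ⟨n, hn⟩ := S.isPGroup' ⟨s, hs⟩
  exact Subgroup.mem_subgroupOf.2 (habs _ (hcz ▸ (hcc s hs).symm) (mem_cent.1 s.2)
    ⟨n, congrArg (fun a : (S : Subgroup (Subgroup.centralizer ({u} : Set G))) => (a : G)) hn⟩)

/-- every involution commuting with an element of the first kind is conjugate to `z` -/
theorem x_invol (h : Hyp z Q) {u j : G} (hu : XType z u) (hj : orderOf j = 2) (huj : Commute u j) : IsConj z j := by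
  classical
  haveI : Fact (Nat.Prime 2) := ⟨Nat.prime_two⟩
  obtain ⟨ho, z', hzz', huz'⟩ := hu
  obtain ⟨Q', h'⟩ := hyp_at h hzz'
  refine hzz'.trans ?_
  set C := Subgroup.centralizer ({u} : Set G) with hC
  have h8 : Nat.card ↥((Q' ⊓ C).subgroupOf C) = 8 := by
    rw [Nat.card_congr (Subgroup.subgroupOfEquivOfLe inf_le_right).toEquiv]; exact (x_core h' huz' ho).1
  obtain ⟨S₁, hS₁⟩ := (IsPGroup.of_card (n := 3) h8 : IsPGroup 2 ((Q' ⊓ C).subgroupOf C)).exists_le_sylow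
  let jC : C := ⟨j, mem_cent.2 huj.symm⟩
  have hjo : orderOf jC = 2 := by rw [← Subgroup.orderOf_coe]; exact hj
  obtain ⟨S₂, hS₂⟩ := (IsPGroup.of_card (p := 2) (n := 1) (by rw [Nat.card_zpowers, hjo, pow_one]) :
    IsPGroup 2 (Subgroup.zpowers jC)).exists_le_sylow
  obtain ⟨g, hg⟩ := MulAction.exists_smul_eq C S₂ S₁
  have hm : g * jC * g⁻¹ ∈ (S₁ : Subgroup C) := by
    rw [← hg, Sylow.coe_subgroup_smul]; exact ⟨jC, hS₂ (Subgroup.mem_zpowers jC), rfl⟩
  rw [← x_sylow h' huz' ho S₁ hS₁] at hm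
  obtain ⟨hjj, hj1⟩ := HallJankoPairs.ord_two hj
  refine (core_conj h' (Subgroup.mem_subgroupOf.1 hm).1 ?_ ?_).trans (isConj_iff.2 ⟨(g : G)⁻¹, ?_⟩)
  · show (g : G) * j * (g : G)⁻¹ * ((g : G) * j * (g : G)⁻¹) = 1
    rw [conj_mul, hjj, mul_one, mul_inv_cancel]
  · exact fun e => hj1 (conj_eq_one_iff.1 e)
  · show (g : G)⁻¹ * ((g : G) * j * (g : G)⁻¹) * (g : G)⁻¹⁻¹ = j
    group

theorem x_two_part (h : Hyp z Q) {u : G} (hu : XType z u) :
    8 ∣ Nat.card (Subgroup.centralizer ({u} : Set G)) ∧ ¬ 16 ∣ Nat.card (Subgroup.centralizer ({u} : Set G)) := by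
  classical
  haveI : Fact (Nat.Prime 2) := ⟨Nat.prime_two⟩
  obtain ⟨ho, z', hzz', huz'⟩ := hu
  obtain ⟨Q', h'⟩ := hyp_at h hzz'
  set C := Subgroup.centralizer ({u} : Set G) with hC
  have h8 : Nat.card ↥((Q' ⊓ C).subgroupOf C) = 8 := by
    rw [Nat.card_congr (Subgroup.subgroupOfEquivOfLe inf_le_right).toEquiv]; exact (x_core h' huz' ho).1
  obtain ⟨S, hS⟩ := (IsPGroup.of_card (n := 3) h8 : IsPGroup 2 ((Q' ⊓ C).subgroupOf C)).exists_le_sylow
  rw [x_sylow h' huz' ho S hS] at h8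
  refine ⟨h8 ▸ Subgroup.card_subgroup_dvd_card (S : Subgroup C), fun hd => ?_⟩
  have := S.pow_dvd_card_of_pow_dvd_card (n := 4) (by norm_num; exact hd)
  rw [h8] at this
  norm_num at this

theorem not_yType (h : Hyp z Q) {u : G} (hu : XType z u) : ¬ YType z u := by
  rintro ⟨-, j, hj, hjz, hc⟩
  exact hjz (x_invol h hu hj hc).symm

theorem conj_in_centralizer (h : Hyp z Q) {a b : G} (ha : Commute a z) (hb : Commute b z)
    (hao : orderOf a = 3) (hbo : orderOf b = 3) : IsConj a b := by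
  classical
  haveI : Fact (Nat.Prime 3) := ⟨Nat.prime_three⟩
  obtain ⟨F⟩ := exists_frame h
  obtain ⟨ha3, ha1⟩ := core_pi h F ha hao
  obtain ⟨hb3, hb1⟩ := core_pi h F hb hbo
  obtain ⟨s, hs⟩ := a5_three_conj _ ha3 ha1 _ hb3 hb1
  obtain ⟨c, hc⟩ := F.surj s
  set b' := cen z hb with hb'
  set a' := c * cen z ha * c⁻¹ with ha'
  have hπ : F.π a' = F.π b' := by rw [ha', map_mul, map_mul, map_inv, hc, hs]
  set W := (Subgroup.zpowers (F.π b')).comap F.π with hW
  have hbW : b' ∈ W := Subgroup.mem_comap.2 (Subgroup.mem_zpowers _)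
  have haW : a' ∈ W := Subgroup.mem_comap.2 (hπ ▸ Subgroup.mem_zpowers _)
  have hπo : orderOf (F.π b') = 3 := orderOf_eq_prime hb3 hb1
  have hW96 : Nat.card W = 96 := by
    have h1 := W.card_mul_index
    have h2 := (Subgroup.zpowers (F.π b')).card_mul_index
    rw [hW, Subgroup.index_comap_of_surjective _ F.surj, ← hW, card_cent h] at h1
    rw [Nat.card_zpowers, hπo, nat_card_alternatingGroup, Nat.card_fin] at h2
    rw [show (Subgroup.zpowers (F.π b')).index = 20 by simp [Nat.factorial] at h2; omega] at h1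
    omega
  have syl : ∀ x : W, orderOf x = 3 → ∃ S : Sylow 3 W, (S : Subgroup W) = Subgroup.zpowers x := by
    intro x hx
    have h3 : Nat.card (Subgroup.zpowers x) = 3 ^ 1 := by rw [Nat.card_zpowers, hx, pow_one]
    obtain ⟨S, hS⟩ := (IsPGroup.of_card h3).exists_le_sylow
    refine ⟨S, (Subgroup.eq_of_le_of_card_ge hS ?_).symm⟩
    obtain ⟨n, hn⟩ := S.isPGroup'.exists_card_eq
    have hd := Subgroup.card_subgroup_dvd_card (S : Subgroup W)
    change Nat.card (S : Subgroup W) = 3 ^ n at hn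
    rw [hn, hW96] at hd
    rw [hn, h3]
    refine Nat.pow_le_pow_right (by norm_num) ?_
    by_contra hn2
    have : 3 ^ 2 ∣ 96 := (pow_dvd_pow 3 (by omega : 2 ≤ n)).trans hd
    norm_num at this
  have hao' : orderOf (⟨a', haW⟩ : W) = 3 := by
    rw [← Subgroup.orderOf_coe, ← Subgroup.orderOf_coe]
    show orderOf ((c : G) * a * (c : G)⁻¹) = 3
    exact ((MulAut.conj (c : G)).orderOf_eq a).trans hao
  have hbo' : orderOf (⟨b', hbW⟩ : W) = 3 := by
    rw [← Subgroup.orderOf_coe, ← Subgroup.orderOf_coe]; exact hbo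
  obtain ⟨Sa, hSa⟩ := syl _ hao'
  obtain ⟨Sb, hSb⟩ := syl _ hbo'
  obtain ⟨w, hw⟩ := MulAction.exists_smul_eq W Sa Sb
  have hm : w * ⟨a', haW⟩ * w⁻¹ ∈ (Sb : Subgroup W) := by
    rw [← hw, Sylow.coe_subgroup_smul, hSa]; exact ⟨_, Subgroup.mem_zpowers _, rfl⟩
  rw [hSb] at hm
  obtain ⟨k, hk⟩ := Subgroup.mem_zpowers_iff.1 hm
  have hk' : b' ^ k = (w : Subgroup.centralizer ({z} : Set G)) * a' * (w : Subgroup.centralizer ({z} : Set G))⁻¹ :=
    congrArg Subtype.val hk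
  obtain ⟨m, hm'⟩ := Subgroup.mem_zpowers_iff.1 (Subgroup.mem_comap.1 w.2)
  have hπk : F.π b' ^ k = F.π b' := by
    rw [← map_zpow, hk', map_mul, map_mul, map_inv, hπ, ← hm', ((Commute.refl (F.π b')).zpow_left m).eq,
      mul_inv_cancel_right]
  have hk1 : b' ^ k = b' := by
    conv_rhs => rw [← zpow_one b']
    rw [zpow_eq_zpow_iff_modEq, ← Subgroup.orderOf_coe, show ((b' : Subgroup.centralizer ({z} : Set G)) : G) = b from rfl,
      hbo, ← hπo, ← zpow_eq_zpow_iff_modEq, zpow_one]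
    exact hπk
  rw [hk1] at hk'
  refine isConj_iff.2 ⟨(w : Subgroup.centralizer ({z} : Set G)) * c, ?_⟩
  have := congrArg Subtype.val hk'
  change b = ((w : Subgroup.centralizer ({z} : Set G)) : G) * ((c : G) * a * (c : G)⁻¹) * _⁻¹ at this
  rw [this]; group

theorem x_conj_all (h : Hyp z Q) {a b : G} (ha : XType z a) (hb : XType z b) : IsConj a b := by
  obtain ⟨hao, j, hj, haj⟩ := ha
  obtain ⟨hbo, j', hj', hbj⟩ := hb
  obtain ⟨g, rfl⟩ := isConj_iff.1 hj
  obtain ⟨g', rfl⟩ := isConj_iff.1 hj'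
  have key : ∀ {u g : G}, Commute u (g * z * g⁻¹) → Commute (g⁻¹ * u * g) z := fun {u g} hu => by
    have := (Commute.conj_iff g⁻¹).2 hu
    rwa [show g⁻¹ * (g * z * g⁻¹) * g⁻¹⁻¹ = z by group, inv_inv] at this
  have hc := conj_in_centralizer h (key haj) (key hbj)
    (by have := ((MulAut.conj g⁻¹).orderOf_eq a).trans hao; simpa using this)
    (by have := ((MulAut.conj g'⁻¹).orderOf_eq b).trans hbo; simpa using this)
  exact ((isConj_iff.2 ⟨g⁻¹, by rw [inv_inv]⟩).trans hc).trans (isConj_iff.2 ⟨g', by group⟩)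

theorem mem_factor {V L C : Subgroup G} (h : Cfsg.IsInternalDirectProduct V L C) (hV : ∀ v ∈ V, v ^ 2 = 1)
    {x : G} (hx : x ∈ C) {n : ℕ} (hn : x ^ (2 * n + 1) = 1) : x ∈ L := by
  obtain ⟨a, ha, b, hb, rfl⟩ := internal_decomp h x hx
  have hab : Commute a b := h.2.2.1 a ha b hb
  rw [hab.mul_pow, pow_succ a, pow_mul, hV a ha, one_pow, one_mul] at hn
  have hm : a ∈ V ⊓ L := ⟨ha, by rw [mul_eq_one_iff_eq_inv.1 hn]; exact L.inv_mem (L.pow_mem hb _)⟩
  rw [h.2.2.2.1, Subgroup.mem_bot] at hm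
  rw [hm, one_mul]; exact hb

/-- an element of order three centralised by an element of the first kind of order five -/
theorem d_three (h : Hyp z Q) {d u : G} (hd : DType z d) (ho : orderOf u = 3) (hud : Commute u d) : XType z u := by
  classical
  haveI : Fact (Nat.Prime 3) := ⟨Nat.prime_three⟩
  obtain ⟨-, ρ, -, -, h300⟩ := five_big h hd
  obtain ⟨hdo, j, hj, hjz, hdj⟩ := id hd
  obtain ⟨z', Q', h', hzz', hjz', hjj, hjQ⟩ := at_invol h hj hjz
  obtain ⟨V, L, K0, hVL, -, hV2, -, -, hzL, -, -, hK12, hK0L, -⟩ := four_normalizer h' hjz' hjj hjQ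
  have hdL : d ∈ L := mem_factor hVL hV2 (mem_cent.2 hdj) (n := 2) (orderOf_dvd_iff_pow_eq_one.1 hdo.dvd)
  obtain ⟨x, hx⟩ := exists_prime_orderOf_dvd_card' (G := K0) 3 (by rw [hK12]; norm_num)
  have hxo : orderOf (x : G) = 3 := (Subgroup.orderOf_coe x).trans hx
  have hxT : XType z (x : G) := ⟨hxo, z', hzz', hK0L x x.2 z' hzL⟩
  set M := Subgroup.centralizer ({d} : Set G) with hM
  have syl : ∀ y : M, orderOf y = 3 → ∃ S : Sylow 3 M, (S : Subgroup M) = Subgroup.zpowers y := by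
    intro y hy
    have h3 : Nat.card (Subgroup.zpowers y) = 3 ^ 1 := by rw [Nat.card_zpowers, hy, pow_one]
    obtain ⟨S, hS⟩ := (IsPGroup.of_card h3).exists_le_sylow
    refine ⟨S, (Subgroup.eq_of_le_of_card_ge hS ?_).symm⟩
    obtain ⟨n, hn⟩ := S.isPGroup'.exists_card_eq
    have hdv := Subgroup.card_subgroup_dvd_card (S : Subgroup M)
    change Nat.card (S : Subgroup M) = 3 ^ n at hn
    rw [hn, h300] at hdv
    rw [hn, h3]
    refine Nat.pow_le_pow_right (by norm_num) ?_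
    by_contra hn2
    have : 3 ^ 2 ∣ 300 := (pow_dvd_pow 3 (by omega : 2 ≤ n)).trans hdv
    norm_num at this
  obtain ⟨Su, hSu⟩ := syl ⟨u, mem_cent.2 hud⟩ (by rw [← Subgroup.orderOf_coe]; exact ho)
  obtain ⟨Sx, hSx⟩ := syl ⟨x, mem_cent.2 (hK0L x x.2 d hdL)⟩ (by rw [← Subgroup.orderOf_coe]; exact hxo)
  obtain ⟨w, hw⟩ := MulAction.exists_smul_eq M Su Sx
  have hm : w * ⟨u, mem_cent.2 hud⟩ * w⁻¹ ∈ (Sx : Subgroup M) := by
    rw [← hw, Sylow.coe_subgroup_smul, hSu]; exact ⟨_, Subgroup.mem_zpowers _, rfl⟩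
  rw [hSx] at hm
  obtain ⟨k, hk⟩ := Subgroup.mem_zpowers_iff.1 hm
  have hk' : (x : G) ^ k = (w : G) * u * (w : G)⁻¹ := congrArg Subtype.val hk
  refine ⟨ho, (w : G)⁻¹ * z' * (w : G), hzz'.trans (isConj_iff.2 ⟨(w : G)⁻¹, by rw [inv_inv]⟩), ?_⟩
  have := (Commute.conj_iff (w : G)⁻¹).2 ((show Commute (x : G) z' from hK0L x x.2 z' hzL).zpow_left k)
  rw [hk', inv_inv] at this
  rwa [show (w : G)⁻¹ * ((w : G) * u * (w : G)⁻¹) * (w : G) = u by group] at this

theorem y_conj_all (h : Hyp z Q) {a b : G} (ha : YType z a) (hb : YType z b) : IsConj a b := by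
  obtain ⟨hao, j, hj, hjz, haj⟩ := ha
  obtain ⟨hbo, j', hj', hjz', hbj⟩ := hb
  obtain ⟨hjj, hj1⟩ := HallJankoPairs.ord_two hj
  obtain ⟨z', Q', h', hzz', htz, htt, htQ⟩ := at_invol h hj' hjz'
  obtain ⟨V, L, K0, hVL, -, hV2, -, ⟨e⟩, -⟩ := four_normalizer h' htz htt htQ
  obtain ⟨g, hg⟩ := isConj_iff.1 ((two_classes h' htz htt htQ hjj hj1).resolve_left
    fun hc => hjz (hzz'.trans hc).symm).symm
  have hao' : orderOf (g * a * g⁻¹) = 3 := ((MulAut.conj g).orderOf_eq a).trans hao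
  have haL : g * a * g⁻¹ ∈ L := mem_factor hVL hV2 (mem_cent.2 (hg ▸ (Commute.conj_iff g).2 haj)) (n := 1)
    (three_ne hao').1
  have hbL : b ∈ L := mem_factor hVL hV2 (mem_cent.2 hbj) (n := 1) (three_ne hbo).1
  obtain ⟨s, hs⟩ := a5_three_conj (e ⟨_, haL⟩)
    (by rw [← map_pow, show (⟨_, haL⟩ : L) ^ 3 = 1 from Subtype.ext (three_ne hao').1, map_one])
    (fun e' => (three_ne hao').2 (congrArg Subtype.val ((MulEquiv.map_eq_one_iff e).1 e')))
    (e ⟨b, hbL⟩) (by rw [← map_pow, show (⟨b, hbL⟩ : L) ^ 3 = 1 from Subtype.ext (three_ne hbo).1, map_one])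
    (fun e' => (three_ne hbo).2 (congrArg Subtype.val ((MulEquiv.map_eq_one_iff e).1 e')))
  have hs' : e.symm s * ⟨_, haL⟩ * (e.symm s)⁻¹ = ⟨b, hbL⟩ := e.injective (by
    rw [map_mul, map_mul, map_inv, e.apply_symm_apply, hs])
  exact (isConj_iff.2 ⟨g, rfl⟩).trans (isConj_iff.2 ⟨((e.symm s : L) : G), congrArg Subtype.val hs'⟩)

set_option maxHeartbeats 400000 in
/-- the centraliser of an element of the second kind -/
theorem y_cent (h : Hyp z Q) {u : G} (hu : YType z u) :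
    ∃ (V : Subgroup G) (x : G), XType z x ∧ Commute x u ∧
      Nat.card (Subgroup.centralizer ({u} : Set G)) = 36 ∧
      (∀ g : G, Commute g u → ∀ v ∈ V, g * v * g⁻¹ ∈ V) ∧ (∀ v ∈ V, v ^ 2 = 1) ∧
      (∀ v ∈ V, v ≠ 1 → ¬ IsConj z v) ∧
      ∀ i : G, Commute i u → orderOf i = 2 → i ∈ V := by
  classical
  haveI : Fact (Nat.Prime 3) := ⟨Nat.prime_three⟩
  haveI : Fact (Nat.Prime 5) := ⟨by norm_num⟩
  obtain ⟨ho, j, hj, hjz, huj⟩ := id hu
  obtain ⟨z', Q', h', hzz', hjz', hjj, hjQ⟩ := at_invol h hj hjz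
  obtain ⟨V, L, K0, hVL, hV4, hV2, hjV, ⟨e⟩, hzL, hall, hVK, hK12, hK0L, h720, ⟨e4⟩, -, hK0N⟩ :=
    four_normalizer h' hjz' hjj hjQ
  obtain ⟨hu3, hu1⟩ := three_ne ho
  have huL : u ∈ L := mem_factor hVL hV2 (mem_cent.2 huj) (n := 1) hu3
  have hcentA : ∀ b : A5, b * e ⟨u, huL⟩ = e ⟨u, huL⟩ * b → ∃ i : ℕ, b = e ⟨u, huL⟩ ^ i := fun b hb => by
    obtain ⟨i, hi⟩ := a5_three_cent (e ⟨u, huL⟩)
      (by rw [← map_pow, show (⟨u, huL⟩ : L) ^ 3 = 1 from Subtype.ext hu3, map_one])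
      (fun e' => hu1 (congrArg Subtype.val ((MulEquiv.map_eq_one_iff e).1 e'))) b hb
    exact ⟨i, hi.symm⟩
  have hle : Subgroup.centralizer ({u} : Set G) ≤ Subgroup.normalizer (V : Set G) := by
    rcases mod_four hVL e hV4 hV2 hjV (HallJankoPairs.ord_two hj).2 (fun v hv hv1 => (hall v hv hv1).2)
      hK12 hK0L hK0N (Or.inl rfl) huL ho hcentA with ⟨ρ, -, -, hc⟩ | hle
    swap
    · exact hle
    exfalso
    obtain ⟨c, hc5⟩ := exists_prime_orderOf_dvd_card' (G := Subgroup.centralizer ({u} : Set G)) 5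
      (by rw [hc]; norm_num)
    have hco : orderOf (c : G) = 5 := (Subgroup.orderOf_coe c).trans hc5
    have hcu : Commute u (c : G) := (mem_cent.1 c.2).symm
    rcases five_cases h hco with hd | hk
    · exact not_yType h (d_three h hd ho hcu) hu
    · have := Subgroup.orderOf_dvd_natCard (Subgroup.centralizer ({(c : G)} : Set G)) (mem_cent.2 hcu)
      rw [card_cent_k h hk, ho] at this
      norm_num at this
  have hKL : ∀ k ∈ K0, k ∈ L → k = 1 := fun k hk hkL => eq_one_of_central hVL e hkL fun l hl => hK0L k hk l hl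
  -- the normaliser is the product of the two factors
  have hLN : L ≤ Subgroup.normalizer (V : Set G) := by
    intro l hl
    rw [Subgroup.mem_normalizer_iff]
    intro v
    constructor
    · intro hv
      rw [← hVL.2.2.1 v hv l hl, mul_inv_cancel_right]; exact hv
    · intro hv
      have h1 := hVL.2.2.1 _ hv l hl
      have h2 : l * v * l⁻¹ = v := by
        calc l * v * l⁻¹ = l⁻¹ * (l * (l * v * l⁻¹)) := by group
          _ = l⁻¹ * (l * v * l⁻¹ * l) := by rw [h1]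
          _ = v := by group
      exact h2 ▸ hv
  let f : K0 × L → Subgroup.normalizer (V : Set G) := fun p =>
    ⟨(p.1 : G) * p.2, Subgroup.mul_mem _ (hK0N p.1.2) (hLN p.2.2)⟩
  have hf : Function.Bijective f := by
    refine (Nat.bijective_iff_injective_and_card f).2 ⟨?_, ?_⟩
    · rintro ⟨a, b⟩ ⟨a', b'⟩ e'
      have e'' : (a : G) * b = a' * b' := congrArg Subtype.val e'
      have hm : (a' : G)⁻¹ * a = 1 := hKL _ (K0.mul_mem (K0.inv_mem a'.2) a.2) (by
        rw [show (a' : G)⁻¹ * a = b' * (b : G)⁻¹ by rw [eq_mul_inv_iff_mul_eq, mul_assoc, e'', inv_mul_cancel_left]]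
        exact L.mul_mem b'.2 (L.inv_mem b.2))
      rw [inv_mul_eq_one] at hm
      rw [← hm] at e''
      exact Prod.ext (Subtype.ext hm.symm) (Subtype.ext (mul_left_cancel e''))
    · rw [Nat.card_prod, hK12, h720, Nat.card_congr e.toEquiv, nat_card_alternatingGroup, Nat.card_fin]
      rfl
  have hku : ∀ k ∈ K0, Commute k u := fun k hk => hK0L k hk u huL
  have hdec : ∀ g : G, Commute g u → ∃ k ∈ K0, ∃ i : ℕ, g = k * u ^ i := by
    intro g hg
    obtain ⟨⟨k, l⟩, hkl⟩ := hf.2 ⟨g, hle (mem_cent.2 hg)⟩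
    have hkl' : (k : G) * l = g := congrArg Subtype.val hkl
    have hlu : Commute (l : G) u := by
      have h1 : Commute ((k : G)⁻¹ * g) u := (hku k k.2).inv_left.mul_left hg
      rwa [← hkl', inv_mul_cancel_left] at h1
    obtain ⟨i, hi⟩ := hcentA (e l) (by
      rw [← map_mul, ← map_mul]; exact congrArg e (Subtype.ext hlu.eq))
    rw [← map_pow] at hi
    exact ⟨k, k.2, i, by rw [← hkl', show (l : G) = u ^ i from congrArg Subtype.val (e.injective hi)]⟩
  have hV_invol : ∀ k ∈ K0, k * k = 1 → k ∈ V := by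
    have hset : {k : G | k ∈ K0 ∧ k * k = 1} = (V : Set G) := by
      have hsub : (V : Set G) ⊆ {k : G | k ∈ K0 ∧ k * k = 1} := fun v hv => ⟨hVK hv, by rw [← sq]; exact hV2 v hv⟩
      refine (Set.eq_of_subset_of_ncard_le hsub ?_ (Set.toFinite _)).symm
      rw [← Nat.card_coe_set_eq, ← Nat.card_coe_set_eq]
      rw [show Nat.card ↥(V : Set G) = 4 from hV4, ← a4_invol]
      refine Nat.card_le_card_of_injective (fun k : {k : G | k ∈ K0 ∧ k * k = 1} =>
        (⟨e4 ⟨(k : G), k.2.1⟩, ?_⟩ : {a : alternatingGroup (Fin 4) // a * a = 1})) fun k k' e' => ?_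
      · rw [← map_mul, show (⟨(k : G), k.2.1⟩ : K0) * ⟨(k : G), k.2.1⟩ = 1 from Subtype.ext k.2.2, map_one]
      · have e'' := e4.injective (congrArg Subtype.val e')
        exact Subtype.ext (congrArg Subtype.val e'' :)
    intro k hk hkk
    exact hset.le ⟨hk, hkk⟩
  obtain ⟨x, hx⟩ := exists_prime_orderOf_dvd_card' (G := K0) 3 (by rw [hK12]; norm_num)
  refine ⟨V, x, ⟨(Subgroup.orderOf_coe x).trans hx, z', hzz', hK0L x x.2 z' hzL⟩, hku x x.2, ?_,
    fun g hg v hv => (Subgroup.mem_normalizer_iff.1 (hle (mem_cent.2 hg)) v).1 hv, hV2, fun v hv hv1 hc => ?_, ?_⟩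
  · let φ : K0 × Subgroup.zpowers u → Subgroup.centralizer ({u} : Set G) := fun p =>
      ⟨(p.1 : G) * p.2, mem_cent.2 ((hku p.1 p.1.2).mul_left (by
        obtain ⟨i, hi⟩ := Subgroup.mem_zpowers_iff.1 p.2.2
        rw [← hi]; exact (Commute.refl u).zpow_left i))⟩
    have hφ : Function.Bijective φ := by
      refine ⟨fun p q e' => ?_, fun g => ?_⟩
      · have e'' : f (p.1, ⟨p.2, Subgroup.zpowers_le.2 huL p.2.2⟩) = f (q.1, ⟨q.2, Subgroup.zpowers_le.2 huL q.2.2⟩) :=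
          Subtype.ext (congrArg Subtype.val e' :)
        have e3 := Prod.ext_iff.1 (hf.1 e'')
        exact Prod.ext e3.1 (Subtype.ext (congrArg Subtype.val e3.2 :))
      · obtain ⟨k, hk, i, hi⟩ := hdec g (mem_cent.1 g.2)
        exact ⟨(⟨k, hk⟩, ⟨u ^ i, Subgroup.npow_mem_zpowers u i⟩), Subtype.ext hi.symm⟩
    rw [← Nat.card_congr (Equiv.ofBijective φ hφ), Nat.card_prod, hK12, Nat.card_zpowers, ho]
  · exact hjz ((hall v hv hv1).1.trans hc.symm)
  · intro i hiu hio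
    obtain ⟨k, hk, m, rfl⟩ := hdec i hiu
    obtain ⟨hii, -⟩ := HallJankoPairs.ord_two hio
    rw [((hku k hk).pow_right m).symm.mul_mul_mul_comm, ← pow_add] at hii
    have h1 : k * k = 1 := hKL _ (K0.mul_mem hk hk) (by
      rw [mul_eq_one_iff_eq_inv.1 hii]; exact L.inv_mem (L.pow_mem huL _))
    rw [h1, one_mul] at hii
    have hm3 : 3 ∣ m + m := ho ▸ orderOf_dvd_of_pow_eq_one hii
    obtain ⟨c, rfl⟩ : 3 ∣ m := by omega
    rw [pow_mul, hu3, one_pow, mul_one]
    exact hV_invol k hk h1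

end Cfsg.Agent.Lie.HJType
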