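import Mathlib
import Cfsg.Agent.Lib.Lie.HJType.Three
import Cfsg.Agent.Lib.Solv.Extraspecial

/-!
Groups of Hall–Janko type: the Sylow 3- and 7-subgroups.
-/

set_option autoImplicit false
set_option linter.style.haveILetI false
set_option linter.unusedSectionVars false
set_option linter.constructorNameAsVariable false

namespace Cfsg.Agent.Lie.HJType

open Equiv

universe u

local notation "A5" => alternatingGroup (Fin 5)

theorem a5_three_inv : ∀ g : A5, g ^ 3 = 1 → g ≠ 1 → ∃ s : A5, s * s = 1 ∧ s ≠ 1 ∧ s * g * s⁻¹ = g ^ 2 := by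
  decide +kernel

variable {G : Type u} [Group G] [Finite G] {z : G} {Q : Subgroup G}

theorem fixed_card {q : ℕ} [Fact q.Prime] (P : Subgroup G) {y : G} (hyN : y ∈ Subgroup.normalizer (P : Set G))
    (hy : orderOf y = q) : Nat.card P ≡ Nat.card ↥(P ⊓ Subgroup.centralizer ({y} : Set G)) [MOD q] := by
  classical
  let ψ : Subgroup.zpowers y →* MulAut P :=
    P.normalizerMonoidHom.comp (Subgroup.inclusion (Subgroup.zpowers_le.2 hyN))
  letI : MulAction (Subgroup.zpowers y) P := MulAction.compHom _ ψ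
  have hval : ∀ (a : Subgroup.zpowers y) (p : P), ((a • p : P) : G) = a * p * (a : G)⁻¹ := fun a p => rfl
  have hpg : IsPGroup q (Subgroup.zpowers y) :=
    IsPGroup.of_card (n := 1) (by rw [Nat.card_zpowers, hy, pow_one])
  have hm := hpg.card_modEq_card_fixedPoints P
  rwa [Nat.card_congr
      { toFun := fun p : MulAction.fixedPoints (Subgroup.zpowers y) P =>
          (⟨(p : P), (p : P).2, mem_cent.2 (by
            have := congrArg Subtype.val (p.2 ⟨y, Subgroup.mem_zpowers y⟩)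
            rw [hval] at this
            exact (mul_inv_eq_iff_eq_mul.1 this).symm)⟩ : ↥(P ⊓ Subgroup.centralizer ({y} : Set G)))
        invFun := fun p => ⟨⟨p, p.2.1⟩, fun a => Subtype.ext (by
          obtain ⟨i, hi⟩ := Subgroup.mem_zpowers_iff.1 a.2
          rw [hval, ← hi, ((show Commute (p : G) y from mem_cent.1 p.2.2).symm.zpow_left i).eq, mul_inv_cancel_right])⟩
        left_inv := fun p => rfl
        right_inv := fun p => rfl }] at hm

theorem card_three_part (h : Hyp z Q) (P : Sylow 3 G) : Nat.card P = 27 := by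
  haveI : Fact (Nat.Prime 3) := ⟨Nat.prime_three⟩
  obtain ⟨n, hn⟩ := P.isPGroup'.exists_card_eq
  have h1 : Nat.card P ∣ 604800 := order_eq h ▸ Subgroup.card_subgroup_dvd_card (P : Subgroup G)
  have h2 : 3 ^ 3 ∣ Nat.card P := P.pow_dvd_card_of_pow_dvd_card (by rw [order_eq h]; norm_num)
  change Nat.card P = 3 ^ n at hn
  rw [hn] at h1 h2 ⊢
  have h3 := (Nat.pow_dvd_pow_iff_le_right (by norm_num : 1 < 3)).1 h2
  have : n = 3 := by
    by_contra hne
    have : 3 ^ 4 ∣ 604800 := (pow_dvd_pow 3 (by omega : 4 ≤ n)).trans h1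
    norm_num at this
  rw [this]; norm_num

theorem exists_yType (h : Hyp z Q) : ∃ y : G, YType z y := by
  obtain ⟨t, htz, htt, htQ⟩ := exists_outer h
  obtain ⟨V, L, K0, hVL, -, -, htV, ⟨e⟩, -⟩ := four_normalizer h htz htt htQ
  haveI : Fact (Nat.Prime 3) := ⟨Nat.prime_three⟩
  obtain ⟨d, hd⟩ := exists_prime_orderOf_dvd_card' (G := L) 3
    (by rw [Nat.card_congr e.toEquiv, nat_card_alternatingGroup, Nat.card_fin]; decide)
  exact ⟨d, by rw [Subgroup.orderOf_coe]; exact hd, t,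
    HallJankoPairs.ord_of htt (fun e' => htQ (e' ▸ Q.one_mem)),
    fun hc => outer_not_conj h htz htt htQ hc.symm, (hVL.2.2.1 t htV d d.2).symm⟩

theorem exists_conj_mem3 (P : Sylow 3 G) (x : G) (hx : orderOf x = 3) :
    ∃ g : G, g * x * g⁻¹ ∈ (P : Subgroup G) := by
  haveI : Fact (Nat.Prime 3) := ⟨Nat.prime_three⟩
  obtain ⟨P₀, hP₀⟩ := (IsPGroup.of_card (p := 3) (n := 1) (by rw [Nat.card_zpowers, hx, pow_one]) :
    IsPGroup 3 (Subgroup.zpowers x)).exists_le_sylow
  obtain ⟨g, hg⟩ := MulAction.exists_smul_eq G P₀ P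
  refine ⟨g, ?_⟩
  rw [← hg, Sylow.coe_subgroup_smul]
  exact ⟨x, hP₀ (Subgroup.mem_zpowers x), rfl⟩

theorem three_zpowers {w g : G} (hw : orderOf w = 3) (hg : g ∈ Subgroup.zpowers w) : g = 1 ∨ g = w ∨ g = w⁻¹ := by
  obtain ⟨i, rfl⟩ := Subgroup.mem_zpowers_iff.1 hg
  have h3 := (three_ne hw).1
  rw [← zpow_mod_orderOf, hw]
  have hc : i % (3 : ℕ) = 0 ∨ i % (3 : ℕ) = 1 ∨ i % (3 : ℕ) = 2 := by omega
  rcases hc with e | e | e <;> rw [e]
  · exact Or.inl (zpow_zero w)
  · exact Or.inr (Or.inl (zpow_one w))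
  · refine Or.inr (Or.inr ?_)
    rw [eq_inv_iff_mul_eq_one, show (2 : ℤ) = ((2 : ℕ) : ℤ) from rfl, zpow_natCast, ← pow_succ]
    exact h3

theorem yType_inv {u : G} (hu : YType z u) : YType z u⁻¹ := by
  obtain ⟨ho, j, hj, hjz, hc⟩ := hu
  exact ⟨(orderOf_inv u).trans ho, j, hj, hjz, hc.inv_left⟩

theorem y_card (h : Hyp z Q) {u : G} (hu : YType z u) :
    Nat.card (Subgroup.centralizer ({u} : Set G)) = 36 := by
  obtain ⟨V, x, -, -, hc, -⟩ := y_cent h hu
  exact hc

set_option maxHeartbeats 400000 in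
/-- the centre of a Sylow 3-subgroup -/
theorem sylow_center (h : Hyp z Q) (P : Sylow 3 G) :
    ∃ w y : G, w ∈ (P : Subgroup G) ∧ y ∈ (P : Subgroup G) ∧ XType z w ∧ YType z y ∧
      (∀ p ∈ (P : Subgroup G), Commute p w) ∧
      (∀ g ∈ (P : Subgroup G), (∀ p ∈ (P : Subgroup G), Commute p g) → g ∈ Subgroup.zpowers w) ∧
      ∀ a ∈ (P : Subgroup G), ∀ b ∈ (P : Subgroup G), a * b * a⁻¹ * b⁻¹ ∈ Subgroup.zpowers w := by
  classical
  haveI : Fact (Nat.Prime 3) := ⟨Nat.prime_three⟩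
  obtain ⟨y₀, hy₀⟩ := exists_yType h
  obtain ⟨g₀, hyP⟩ := exists_conj_mem3 P y₀ hy₀.1
  have hy := yType_conj hy₀ g₀
  set y := g₀ * y₀ * g₀⁻¹
  have hyo := hy.1
  have hP27 : Nat.card (P : Subgroup G) = 27 := card_three_part h P
  have hnc : ¬ ∀ p ∈ (P : Subgroup G), Commute p y := fun hall => by
    have hd : Nat.card (P : Subgroup G) ∣ Nat.card (Subgroup.centralizer ({y} : Set G)) :=
      Subgroup.card_dvd_of_le fun p hp => mem_cent.2 (hall p hp)
    rw [y_card h hy, hP27] at hd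
    norm_num at hd
  set A := (P : Subgroup G) ⊓ Subgroup.centralizer ({y} : Set G) with hA
  have hAd : Nat.card A ∣ 9 := by
    have h1 : Nat.card A ∣ 27 := hP27 ▸ Subgroup.card_dvd_of_le inf_le_left
    have h2 : Nat.card A ∣ 36 := y_card h hy ▸ Subgroup.card_dvd_of_le inf_le_right
    exact (Nat.dvd_gcd h1 h2).trans (by norm_num)
  set Z := Subgroup.center (P : Subgroup G) with hZ
  set Z' := Z.map (P : Subgroup G).subtype with hZ'
  have hZmem : ∀ g, g ∈ Z' ↔ g ∈ (P : Subgroup G) ∧ ∀ p ∈ (P : Subgroup G), Commute p g := by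
    intro g
    constructor
    · rintro ⟨q, hq, rfl⟩
      exact ⟨q.2, fun p hp => congrArg Subtype.val (Subgroup.mem_center_iff.1 hq ⟨p, hp⟩)⟩
    · rintro ⟨hg, hc⟩
      exact ⟨⟨g, hg⟩, Subgroup.mem_center_iff.2 fun p => Subtype.ext (hc p p.2).eq, rfl⟩
  have hyZ : y ∉ Z' := fun hm => hnc ((hZmem y).1 hm).2
  have hZA : Z' ≤ A := fun g hg => ⟨((hZmem g).1 hg).1, mem_cent.2 (((hZmem g).1 hg).2 y hyP).symm⟩
  haveI : Nontrivial (P : Subgroup G) :=
    Finite.one_lt_card_iff_nontrivial.1 (by rw [hP27]; norm_num)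
  haveI : Nontrivial Z := P.isPGroup'.center_nontrivial
  have hZc : Nat.card Z' = Nat.card Z := Subgroup.card_map_of_injective (P : Subgroup G).subtype_injective
  have hZ3 : Nat.card Z' = 3 := by
    have h1 : Nat.card Z' ∣ 3 ^ 2 := (Subgroup.card_dvd_of_le hZA).trans (by simpa using hAd)
    obtain ⟨i, hi, he⟩ := (Nat.dvd_prime_pow Nat.prime_three).1 h1
    interval_cases i
    · exfalso
      have := Finite.one_lt_card (α := Z)
      rw [hZc] at he
      omega
    · simpa using he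
    · exfalso
      refine hyZ ?_
      have : Z' = A := Subgroup.eq_of_le_of_card_ge hZA (by
        rw [he]; exact Nat.le_of_dvd (by norm_num) hAd)
      rw [this]
      exact ⟨hyP, mem_cent.2 (Commute.refl y)⟩
  obtain ⟨w', hw'⟩ := exists_prime_orderOf_dvd_card' (G := Z') 3 hZ3.symm.dvd
  set w : G := (w' : G) with hw
  have hwo : orderOf w = 3 := (Subgroup.orderOf_coe w').trans hw'
  have hwZ : ∀ g, g ∈ Subgroup.zpowers w ↔ g ∈ Z' := by
    have : Subgroup.zpowers w = Z' := Subgroup.eq_of_le_of_card_ge (Subgroup.zpowers_le.2 w'.2)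
      (by rw [Nat.card_zpowers, hwo, hZ3])
    intro g; rw [this]
  have hcomm : ∀ a ∈ (P : Subgroup G), ∀ b ∈ (P : Subgroup G), a * b * a⁻¹ * b⁻¹ ∈ Subgroup.zpowers w := by
    intro a ha b hb
    have hq : Nat.card ((P : Subgroup G) ⧸ Z) = 3 ^ 2 := by
      have := Z.card_eq_card_quotient_mul_card_subgroup
      rw [hP27, ← hZc, hZ3] at this
      norm_num
      omega
    haveI : IsMulCommutative ((P : Subgroup G) ⧸ Z) := IsPGroup.isMulCommutative_of_card_eq_prime_sq hq
    have : (⟨a, ha⟩ * ⟨b, hb⟩ * (⟨a, ha⟩ : (P : Subgroup G))⁻¹ * (⟨b, hb⟩ : (P : Subgroup G))⁻¹) ∈ Z := by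
      rw [← QuotientGroup.eq_one_iff]
      simp only [QuotientGroup.mk_mul, QuotientGroup.mk_inv]
      rw [mul_comm' (QuotientGroup.mk (⟨a, ha⟩ : (P : Subgroup G))) (QuotientGroup.mk (⟨b, hb⟩ : (P : Subgroup G)))]
      group
    exact (hwZ _).2 ⟨_, this, rfl⟩
  have hwP : w ∈ (P : Subgroup G) := ((hZmem w).1 w'.2).1
  have hwc : ∀ p ∈ (P : Subgroup G), Commute p w := ((hZmem w).1 w'.2).2
  refine ⟨w, y, hwP, hyP, ?_, hy, hwc, fun g hg hc => (hwZ g).2 ((hZmem g).2 ⟨hg, hc⟩), hcomm⟩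
  -- the centre is of the first kind
  obtain ⟨V, x, hxT, hxy, -, -⟩ := y_cent h hy
  have hA9 : Nat.card A = 9 := by
    obtain ⟨i, hi, he⟩ := (Nat.dvd_prime_pow Nat.prime_three).1 (show Nat.card A ∣ 3 ^ 2 by simpa using hAd)
    have hlt : Nat.card Z' < Nat.card A := by
      refine lt_of_le_of_ne (Subgroup.card_le_of_le hZA) fun e => hyZ ?_
      rw [Subgroup.eq_of_le_of_card_ge hZA e.ge]
      exact ⟨hyP, mem_cent.2 (Commute.refl y)⟩
    rw [hZ3, he] at hlt
    interval_cases i <;> simp_all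
  set C := Subgroup.centralizer ({y} : Set G) with hC
  have hsyl : ∀ S : Sylow 3 C, Nat.card (S : Subgroup C) = 9 := by
    intro S
    obtain ⟨n, hn⟩ := S.isPGroup'.exists_card_eq
    have h2 : 3 ^ 2 ∣ Nat.card (S : Subgroup C) :=
      S.pow_dvd_card_of_pow_dvd_card (by rw [y_card h hy]; norm_num)
    have h1 : Nat.card (S : Subgroup C) ∣ 36 := y_card h hy ▸ Subgroup.card_subgroup_dvd_card (S : Subgroup C)
    change Nat.card (S : Subgroup C) = 3 ^ n at hn
    rw [hn] at h1 h2 ⊢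
    have := (Nat.pow_dvd_pow_iff_le_right (by norm_num : 1 < 3)).1 h2
    have hn2 : n = 2 := by
      by_contra hne
      have : 3 ^ 3 ∣ 36 := (pow_dvd_pow 3 (by omega : 3 ≤ n)).trans h1
      norm_num at this
    rw [hn2]; norm_num
  have hAc : Nat.card (A.subgroupOf C) = 3 ^ 2 := by
    rw [Nat.card_congr (Subgroup.subgroupOfEquivOfLe inf_le_right).toEquiv, hA9]; norm_num
  obtain ⟨SA, hSA⟩ := (IsPGroup.of_card hAc).exists_le_sylow
  have hSAeq : A.subgroupOf C = SA := Subgroup.eq_of_le_of_card_ge hSA (by rw [hsyl, hAc]; norm_num)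
  obtain ⟨hxo, -⟩ := id hxT
  let xC : C := ⟨x, mem_cent.2 hxy⟩
  obtain ⟨Sx, hSx⟩ := (IsPGroup.of_card (p := 3) (n := 1)
    (by rw [Nat.card_zpowers, ← Subgroup.orderOf_coe, hxo, pow_one]) : IsPGroup 3 (Subgroup.zpowers xC)).exists_le_sylow
  obtain ⟨c, hc⟩ := MulAction.exists_smul_eq C Sx SA
  have hcx : c * xC * c⁻¹ ∈ A.subgroupOf C := by
    rw [hSAeq, ← hc, Sylow.coe_subgroup_smul]; exact ⟨xC, hSx (Subgroup.mem_zpowers xC), rfl⟩
  rw [Subgroup.mem_subgroupOf] at hcx
  change (c : G) * x * (c : G)⁻¹ ∈ A at hcx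
  have hx' := xType_conj hxT (c : G)
  set x' := (c : G) * x * (c : G)⁻¹ with hx'def
  have hx'y : Commute x' y := mem_cent.1 hcx.2
  -- some conjugate of `y` differs by the centre
  obtain ⟨p, hpP, hpy⟩ : ∃ p ∈ (P : Subgroup G), ¬ Commute p y := by simpa using hnc
  have hv := hcomm p hpP y hyP
  set v := p * y * p⁻¹ * y⁻¹ with hvdef
  have hv1 : v ≠ 1 := fun e => hpy (mul_inv_eq_iff_eq_mul.1 (mul_inv_eq_one.1 e))
  have hvP := ((hZmem v).1 ((hwZ v).1 hv))
  have hvy : YType z (v * y) := by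
    rw [hvdef, inv_mul_cancel_right]; exact yType_conj hy p
  have hvy2 : YType z (v * v * y) := by
    have := yType_conj hy (p * p)
    rwa [show p * p * y * (p * p)⁻¹ = p * (p * y * p⁻¹) * p⁻¹ by group,
      show p * y * p⁻¹ = v * y by rw [hvdef, inv_mul_cancel_right],
      show p * (v * y) * p⁻¹ = (p * v * p⁻¹) * (p * y * p⁻¹) by group,
      (hvP.2 p hpP).eq, mul_inv_cancel_right, show p * y * p⁻¹ = v * y by rw [hvdef, inv_mul_cancel_right],
      ← mul_assoc] at this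
  have hvcases := three_zpowers hwo hv
  have hvo : orderOf v = 3 := by
    rcases hvcases with e | e | e
    · exact absurd e hv1
    · rw [e, hwo]
    · rw [e, orderOf_inv, hwo]
  suffices hX : XType z v by
    rcases hvcases with e | e | e
    · exact absurd e hv1
    · exact e ▸ hX
    · have := xType_inv hX
      rwa [e, inv_inv] at this
  -- `v` is in the span of `x'` and `y`
  have hgen : ∀ a ∈ A, ∃ i j : ℕ, i < 3 ∧ j < 3 ∧ a = x' ^ i * y ^ j := by
    have hdis : Disjoint (Subgroup.zpowers x') (Subgroup.zpowers y) := by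
      rw [Subgroup.disjoint_def]
      intro g hg hg'
      rcases three_zpowers hx'.1 hg with rfl | rfl | rfl
      · rfl
      · rcases three_zpowers hyo hg' with e | e | e
        · exact e
        · exact absurd hy (e ▸ not_yType h hx')
        · exact absurd (yType_inv hy) (e ▸ not_yType h hx')
      · rcases three_zpowers hyo hg' with e | e | e
        · exact e
        · exact absurd hy (e ▸ not_yType h (xType_inv hx'))
        · exact absurd (yType_inv hy) (e ▸ not_yType h (xType_inv hx'))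
    let f : Subgroup.zpowers x' × Subgroup.zpowers y → A := fun p =>
      ⟨(p.1 : G) * p.2, A.mul_mem (Subgroup.zpowers_le.2 hcx p.1.2)
        (Subgroup.zpowers_le.2 (⟨hyP, mem_cent.2 (Commute.refl y)⟩ : y ∈ A) p.2.2)⟩
    have hf : Function.Bijective f := (Nat.bijective_iff_injective_and_card f).2
      ⟨fun a b e => Subgroup.mul_injective_of_disjoint hdis (congrArg Subtype.val e :),
        by rw [Nat.card_prod, Nat.card_zpowers, Nat.card_zpowers, hx'.1, hyo, hA9]⟩
    intro a ha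
    obtain ⟨⟨⟨a1, ha1⟩, ⟨a2, ha2⟩⟩, e⟩ := hf.2 ⟨a, ha⟩
    obtain ⟨i, hi⟩ := mem_powers_iff_mem_zpowers.2 ha1
    obtain ⟨j, hj⟩ := mem_powers_iff_mem_zpowers.2 ha2
    change x' ^ i = a1 at hi
    change y ^ j = a2 at hj
    refine ⟨i % 3, j % 3, Nat.mod_lt _ (by norm_num), Nat.mod_lt _ (by norm_num), ?_⟩
    have e' : a1 * a2 = a := congrArg Subtype.val e
    rw [← e', ← hi, ← hj, ← pow_mod_orderOf x', ← pow_mod_orderOf y, hx'.1, hyo]
  obtain ⟨i, j, hi, hj, hij⟩ := hgen v (hZA ((hwZ v).1 hv))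
  have hy3 := (three_ne hyo).1
  have hx3 := (three_ne hx'.1).1
  have hP3 : 27 ∣ Nat.card (Subgroup.centralizer ({v} : Set G)) :=
    hP27 ▸ Subgroup.card_dvd_of_le fun q hq => mem_cent.2 (hvP.2 q hq)
  have hvnY : ¬ YType z v := fun hvY => by
    rw [y_card h hvY] at hP3; norm_num at hP3
  have e11 : v * y = x' ^ i * y ^ (j + 1) := by rw [hij, mul_assoc, ← pow_succ]
  have e22 : v * v * y = x' ^ (i + i) * y ^ (j + j + 1) := by
    rw [hij, ((hx'y.pow_pow i j).symm).mul_mul_mul_comm, ← pow_add, ← pow_add, mul_assoc, ← pow_succ]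
  have hxp : ∀ k : ℕ, k % 3 ≠ 0 → XType z (x' ^ k) := fun k hk => by
    rw [← pow_mod_orderOf, hx'.1]
    rcases (show k % 3 = 1 ∨ k % 3 = 2 by omega) with e | e <;> rw [e]
    · rw [pow_one]; exact hx'
    · rw [show x' ^ 2 = x'⁻¹ by rw [eq_inv_iff_mul_eq_one, ← pow_succ]; exact hx3]
      exact xType_inv hx'
  interval_cases j
  · rw [pow_zero, mul_one] at hij
    interval_cases i
    · exact absurd (hij.trans (pow_zero x')) hv1
    · exact hij ▸ hxp 1 (by norm_num)
    · exact hij ▸ hxp 2 (by norm_num)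
  · exfalso
    rw [hy3, mul_one] at e22
    interval_cases i
    · exact hvnY (by rw [hij, pow_zero, pow_one, one_mul]; exact hy)
    · exact not_yType h (hxp 2 (by norm_num)) (e22 ▸ hvy2)
    · exact not_yType h (hxp 4 (by norm_num)) (e22 ▸ hvy2)
  · exfalso
    rw [hy3, mul_one] at e11
    interval_cases i
    · exact hvnY (by
        rw [hij, pow_zero, one_mul, show y ^ 2 = y⁻¹ by rw [eq_inv_iff_mul_eq_one, ← pow_succ]; exact hy3]
        exact yType_inv hy)
    · exact not_yType h (hxp 1 (by norm_num)) (e11 ▸ hvy)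
    · exact not_yType h (hxp 2 (by norm_num)) (e11 ▸ hvy)

theorem x_three (h : Hyp z Q) {u : G} (hu : XType z u) :
    27 ∣ Nat.card (Subgroup.centralizer ({u} : Set G)) := by
  obtain ⟨P⟩ := (inferInstance : Nonempty (Sylow 3 G))
  obtain ⟨w, y, hwP, -, hw, -, hwc, -, -⟩ := sylow_center h P
  obtain ⟨g, hg⟩ := isConj_iff.1 (x_conj_all h hw hu)
  have hc : Nat.card ↥((P : Subgroup G).map (MulAut.conj g).toMonoidHom) = Nat.card (P : Subgroup G) :=
    Subgroup.card_map_of_injective (MulAut.conj g).injective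
  rw [show (27 : ℕ) = Nat.card (P : Subgroup G) from (card_three_part h P).symm, ← hc]
  refine Subgroup.card_dvd_of_le ?_
  rintro _ ⟨q, hq, rfl⟩
  exact mem_cent.2 (hg ▸ (Commute.conj_iff g).2 (hwc q hq))

theorem x_five (h : Hyp z Q) {u : G} (hu : XType z u) :
    5 ∣ Nat.card (Subgroup.centralizer ({u} : Set G)) ∧ ¬ 25 ∣ Nat.card (Subgroup.centralizer ({u} : Set G)) := by
  classical
  haveI : Fact (Nat.Prime 5) := ⟨by norm_num⟩
  haveI : Fact (Nat.Prime 3) := ⟨Nat.prime_three⟩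
  constructor
  · obtain ⟨t, htz, htt, htQ⟩ := exists_outer h
    obtain ⟨V, L, K0, hVL, -, -, htV, ⟨e⟩, hzL, -, -, hK12, hK0L, -⟩ := four_normalizer h htz htt htQ
    obtain ⟨d, hd⟩ := exists_prime_orderOf_dvd_card' (G := L) 5
      (by rw [Nat.card_congr e.toEquiv, nat_card_alternatingGroup, Nat.card_fin]; decide)
    obtain ⟨x, hx⟩ := exists_prime_orderOf_dvd_card' (G := K0) 3 (by rw [hK12]; norm_num)
    obtain ⟨g, hg⟩ := isConj_iff.1 (x_conj_all h
      ⟨(Subgroup.orderOf_coe x).trans hx, z, IsConj.refl z, hK0L x x.2 z hzL⟩ hu)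
    have hm : g * (d : G) * g⁻¹ ∈ Subgroup.centralizer ({u} : Set G) :=
      mem_cent.2 (hg ▸ (Commute.conj_iff g).2 (show Commute (d : G) x from (hK0L x x.2 d d.2).symm))
    have := Subgroup.orderOf_dvd_natCard _ hm
    rwa [show orderOf (g * (d : G) * g⁻¹) = 5 from
      ((MulAut.conj g).orderOf_eq (d : G)).trans ((Subgroup.orderOf_coe d).trans hd)] at this
  · intro h25
    obtain ⟨S, hS⟩ := Sylow.exists_subgroup_card_pow_prime (G := Subgroup.centralizer ({u} : Set G)) 5 (n := 2)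
      (by norm_num; exact h25)
    obtain ⟨P, hP⟩ := ((IsPGroup.of_card hS).map (Subgroup.centralizer ({u} : Set G)).subtype).exists_le_sylow
    have heq : S.map (Subgroup.centralizer ({u} : Set G)).subtype = P := Subgroup.eq_of_le_of_card_ge hP (by
      rw [Subgroup.card_map_of_injective (Subgroup.centralizer ({u} : Set G)).subtype_injective, hS]
      exact (card_five_part h P).le)
    have huP : u ∈ (P : Subgroup G) := by
      rw [← sylow_five_self_cent h P, Subgroup.mem_centralizer_iff]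
      intro p hp
      obtain ⟨q, -, rfl⟩ := heq.ge hp
      exact (mem_cent.1 q.2).eq
    have := Subgroup.orderOf_dvd_natCard _ huP
    rw [hu.1, show Nat.card (P : Subgroup G) = 25 from card_five_part h P] at this
    norm_num at this

theorem x_card_cases (h : Hyp z Q) {u : G} (hu : XType z u) :
    Nat.card (Subgroup.centralizer ({u} : Set G)) = 1080 ∨ Nat.card (Subgroup.centralizer ({u} : Set G)) = 7560 := by
  obtain ⟨h8, h16⟩ := x_two_part h hu
  obtain ⟨h5, h25⟩ := x_five h hu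
  have h27 := x_three h hu
  have hd : Nat.card (Subgroup.centralizer ({u} : Set G)) ∣ 604800 := order_eq h ▸ Subgroup.card_subgroup_dvd_card _
  generalize Nat.card (Subgroup.centralizer ({u} : Set G)) = n at *
  obtain ⟨m, rfl⟩ : 1080 ∣ n :=
    Nat.Coprime.mul_dvd_of_dvd_of_dvd (by norm_num : Nat.Coprime 216 5)
      (Nat.Coprime.mul_dvd_of_dvd_of_dvd (by norm_num : Nat.Coprime 8 27) h8 h27) h5
  have hm : m ∣ 560 := Nat.dvd_of_mul_dvd_mul_left (by norm_num : 0 < 1080) hd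
  have hm2 : ¬ 2 ∣ m := fun hh => h16 ((show 16 ∣ 1080 * 2 by norm_num).trans (mul_dvd_mul_left _ hh))
  have hm5 : ¬ 5 ∣ m := fun hh => h25 ((show 25 ∣ 1080 * 5 by norm_num).trans (mul_dvd_mul_left _ hh))
  have h7 : m ∣ 7 := by
    refine Nat.Coprime.dvd_of_dvd_mul_left (m := 80) ?_ (show m ∣ 80 * 7 from hm)
    rw [show (80 : ℕ) = 2 ^ 4 * 5 from rfl]
    exact Nat.Coprime.mul_right (Nat.Coprime.pow_right _ ((Nat.Prime.coprime_iff_not_dvd Nat.prime_two).2 hm2).symm)
      ((Nat.Prime.coprime_iff_not_dvd (by norm_num : Nat.Prime 5)).2 hm5).symm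
  rcases (Nat.dvd_prime (by norm_num)).1 h7 with rfl | rfl
  · exact Or.inl rfl
  · exact Or.inr rfl

end Cfsg.Agent.Lie.HJType
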