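import Mathlib
import Cfsg.Agent.Lib.Lie.HJType.ThreeSylow

/-!
Groups of Hall–Janko type: normalisers of the Sylow 3- and 7-subgroups.
-/

set_option autoImplicit false
set_option linter.style.haveILetI false
set_option linter.unusedSectionVars false
set_option linter.constructorNameAsVariable false

namespace Cfsg.Agent.Lie.HJType

open Equiv
open scoped Pointwise

universe u

local notation "A5" => alternatingGroup (Fin 5)

variable {G : Type u} [Group G] [Finite G] {z : G} {Q : Subgroup G}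

/-- counting the Sylow subgroups of a subgroup -/
theorem count_in {p : ℕ} [Fact p.Prime] (P : Sylow p G) {H : Subgroup G} (hPH : (P : Subgroup G) ≤ H) :
    ∃ n : ℕ, Nat.card ↥(Subgroup.normalizer ((P : Subgroup G) : Set G) ⊓ H) * n = Nat.card H ∧ n ≡ 1 [MOD p] := by
  set Pc : Sylow p H := P.subtype hPH with hPc
  refine ⟨(Subgroup.normalizer ((Pc : Subgroup H) : Set H)).index, ?_, ?_⟩
  · rw [← (Subgroup.normalizer ((Pc : Subgroup H) : Set H)).card_mul_index]
    congr 1
    rw [hPc, Sylow.coe_subtype, ← Subgroup.subgroupOf_normalizer_eq hPH, ← Subgroup.inf_subgroupOf_right,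
      Nat.card_congr (Subgroup.subgroupOfEquivOfLe inf_le_right).toEquiv]
  · have := card_sylow_modEq_one p H
    rw [Pc.card_eq_index_normalizer] at this
    exact this

theorem conj_in {p : ℕ} [Fact p.Prime] (P P' : Sylow p G) {H : Subgroup G} (h1 : (P : Subgroup G) ≤ H)
    (h2 : (P' : Subgroup G) ≤ H) :
    ∃ c ∈ H, (P : Subgroup G).map (MulAut.conj c).toMonoidHom = P' := by
  obtain ⟨c, hc⟩ := MulAction.exists_smul_eq H (P.subtype h1) (P'.subtype h2)
  refine ⟨c, c.2, ?_⟩
  have he : (P'.subtype h2 : Subgroup H) = MulAut.conj c • (P.subtype h1 : Subgroup H) := by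
    rw [← hc, Sylow.coe_subgroup_smul]
  rw [Sylow.coe_subtype, Sylow.coe_subtype] at he
  ext x
  constructor
  · rintro ⟨q, hq, rfl⟩
    have : c * ⟨q, h1 hq⟩ * c⁻¹ ∈ (P' : Subgroup G).subgroupOf H := he ▸ ⟨⟨q, h1 hq⟩, hq, rfl⟩
    exact this
  · intro hx
    obtain ⟨q, hq, e⟩ := (he ▸ (show (⟨x, h2 hx⟩ : H) ∈ (P' : Subgroup G).subgroupOf H from hx) :
      (⟨x, h2 hx⟩ : H) ∈ MulAut.conj c • (P : Subgroup G).subgroupOf H)
    exact ⟨(q : G), hq, congrArg Subtype.val e⟩

theorem card_seven_part (h : Hyp z Q) (D : Sylow 7 G) : Nat.card (D : Subgroup G) = 7 := by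
  haveI : Fact (Nat.Prime 7) := ⟨by norm_num⟩
  obtain ⟨n, hn⟩ := D.isPGroup'.exists_card_eq
  have h1 : Nat.card (D : Subgroup G) ∣ 604800 := order_eq h ▸ Subgroup.card_subgroup_dvd_card (D : Subgroup G)
  have h2 : 7 ^ 1 ∣ Nat.card (D : Subgroup G) := D.pow_dvd_card_of_pow_dvd_card (by rw [order_eq h]; norm_num)
  change Nat.card (D : Subgroup G) = 7 ^ n at hn
  rw [hn] at h1 h2 ⊢
  have h3 := (Nat.pow_dvd_pow_iff_le_right (by norm_num : 1 < 7)).1 h2
  have : n = 1 := by
    by_contra hne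
    have : 7 ^ 2 ∣ 604800 := (pow_dvd_pow 7 (by omega : 2 ≤ n)).trans h1
    norm_num at this
  rw [this]; norm_num

set_option maxHeartbeats 400000 in
theorem seven_options (h : Hyp z Q) (D : Sylow 7 G) :
    ∃ c : ℕ, Nat.card (Subgroup.centralizer ((D : Subgroup G) : Set G)) = 7 * c ∧
      ((Nat.card (Subgroup.normalizer ((D : Subgroup G) : Set G)) = 42 ∧ (c = 1 ∨ c = 3)) ∨
       (Nat.card (Subgroup.normalizer ((D : Subgroup G) : Set G)) = 189 ∧ (c = 9 ∨ c = 27))) := by
  classical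
  haveI : Fact (Nat.Prime 7) := ⟨by norm_num⟩
  haveI : Fact (Nat.Prime 2) := ⟨Nat.prime_two⟩
  haveI : Fact (Nat.Prime 5) := ⟨by norm_num⟩
  set C := Subgroup.centralizer ((D : Subgroup G) : Set G) with hC
  set N := Subgroup.normalizer ((D : Subgroup G) : Set G) with hN
  have hD7 := card_seven_part h D
  haveI hcyc : IsCyclic (D : Subgroup G) := isCyclic_of_prime_card hD7
  have hcD : IsMulCommutative (D : Subgroup G) := inferInstance
  have hDC : (D : Subgroup G) ≤ C := fun a ha => Subgroup.mem_centralizer_iff.2 fun b hb =>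
    congrArg Subtype.val (mul_comm' (⟨b, hb⟩ : (D : Subgroup G)) ⟨a, ha⟩)
  have hCN : C ≤ N := Subgroup.centralizer_le_normalizer _
  obtain ⟨d', hd'⟩ := exists_prime_orderOf_dvd_card' (G := (D : Subgroup G)) 7 hD7.symm.dvd
  have hd : orderOf (d' : G) = 7 := (Subgroup.orderOf_coe d').trans hd'
  have hdc : ∀ g ∈ C, Commute g (d' : G) := fun g hg => (Subgroup.mem_centralizer_iff.1 hg _ d'.2).symm
  have h2 : ¬ 2 ∣ Nat.card C := fun hh => by
    obtain ⟨j, hj⟩ := exists_prime_orderOf_dvd_card' (G := C) 2 hh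
    have hjo : orderOf (j : G) = 2 := (Subgroup.orderOf_coe j).trans hj
    have hm := Subgroup.orderOf_dvd_natCard (Subgroup.centralizer ({(j : G)} : Set G))
      (mem_cent.2 (hdc j j.2).symm)
    by_cases hzj : IsConj z (j : G)
    · obtain ⟨Q', h'⟩ := hyp_at h hzj
      rw [hd, card_cent h'] at hm
      norm_num at hm
    · obtain ⟨z', Q', h', -, htz, htt, htQ⟩ := at_invol h hjo fun e => hzj e.symm
      rw [hd, card_cent_two h' htz htt htQ] at hm
      norm_num at hm
  have h5 : ¬ 5 ∣ Nat.card C := fun hh => by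
    obtain ⟨c, hc⟩ := exists_prime_orderOf_dvd_card' (G := C) 5 hh
    have hco : orderOf (c : G) = 5 := (Subgroup.orderOf_coe c).trans hc
    have hm := Subgroup.orderOf_dvd_natCard (Subgroup.centralizer ({(c : G)} : Set G))
      (mem_cent.2 (hdc c c.2).symm)
    rcases five_cases h hco with hd5 | hk5
    · obtain ⟨-, ρ, -, -, h300⟩ := five_big h hd5
      rw [hd, h300] at hm
      norm_num at hm
    · rw [hd, card_cent_k h hk5] at hm
      norm_num at hm
  obtain ⟨c, hc⟩ : 7 ∣ Nat.card C := hD7 ▸ Subgroup.card_dvd_of_le hDC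
  refine ⟨c, hc, ?_⟩
  have hc27 : c ∣ 3 ^ 3 := by
    have h1 : Nat.card C ∣ 3200 * 189 := by
      have := Subgroup.card_subgroup_dvd_card C
      rwa [order_eq h] at this
    have hco : Nat.Coprime (Nat.card C) 3200 := by
      rw [show (3200 : ℕ) = 2 ^ 7 * 5 ^ 2 from rfl]
      exact Nat.Coprime.mul_right (Nat.Coprime.pow_right _ ((Nat.Prime.coprime_iff_not_dvd Nat.prime_two).2 h2).symm)
        (Nat.Coprime.pow_right _ ((Nat.Prime.coprime_iff_not_dvd (by norm_num : Nat.Prime 5)).2 h5).symm)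
    have := hco.dvd_of_dvd_mul_left h1
    rw [hc, show (189 : ℕ) = 7 * 27 from rfl] at this
    exact Nat.dvd_of_mul_dvd_mul_left (by norm_num) this
  -- the quotient of the normaliser
  let f := (D : Subgroup G).normalizerMonoidHom
  have hker : Nat.card f.ker = Nat.card C := by
    rw [show f.ker = C.subgroupOf N from Subgroup.normalizerMonoidHom_ker _,
      Nat.card_congr (Subgroup.subgroupOfEquivOfLe hCN).toEquiv]
  have he : Nat.card f.range ∣ 6 := by
    have h1 := Subgroup.card_subgroup_dvd_card f.range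
    rwa [IsCyclic.card_mulAut, hD7, show Nat.totient 7 = 6 from by decide] at h1
  have hNc : Nat.card N = 7 * c * Nat.card f.range := by
    rw [← f.ker.card_mul_index, Subgroup.index_ker, hker, hc]
  obtain ⟨n, hn, hmod⟩ : ∃ n, Nat.card N * n = 604800 ∧ n ≡ 1 [MOD 7] := by
    refine ⟨N.index, by rw [N.card_mul_index, order_eq h], ?_⟩
    have := card_sylow_modEq_one 7 G
    rw [D.card_eq_index_normalizer] at this
    exact this
  obtain ⟨i, hi, rfl⟩ := (Nat.dvd_prime_pow Nat.prime_three).1 hc27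
  have hee : Nat.card f.range ∈ Nat.divisors 6 := Nat.mem_divisors.2 ⟨he, by norm_num⟩
  rw [show Nat.divisors 6 = {1, 2, 3, 6} by decide +kernel] at hee
  simp only [Finset.mem_insert, Finset.mem_singleton] at hee
  rw [hNc] at hn ⊢
  unfold Nat.ModEq at hmod
  rcases hee with e | e | e | e <;> rw [e] at hn ⊢ <;> interval_cases i <;> norm_num at hn ⊢ <;> omega

set_option maxHeartbeats 400000 in
theorem no_seven (h : Hyp z Q) {u : G} (hu : XType z u) :
    ¬ 7 ∣ Nat.card (Subgroup.centralizer ({u} : Set G)) := by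
  classical
  haveI : Fact (Nat.Prime 7) := ⟨by norm_num⟩
  haveI : Fact (Nat.Prime 3) := ⟨Nat.prime_three⟩
  intro h7
  have key : ∀ (D : Sylow 7 G) (w : G), XType z w → (D : Subgroup G) ≤ Subgroup.centralizer ({w} : Set G) →
      ∃ T, Nat.card ↥(Subgroup.normalizer ((D : Subgroup G) : Set G) ⊓ Subgroup.centralizer ({w} : Set G)) = T ∧
        ∃ n, T * n = 7560 ∧ n % 7 = 1 := by
    intro D w hw hD
    obtain ⟨n, hn, hmod⟩ := count_in D hD
    have h7' : 7 ∣ Nat.card (Subgroup.centralizer ({w} : Set G)) := card_seven_part h D ▸ Subgroup.card_dvd_of_le hD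
    have hc : Nat.card (Subgroup.centralizer ({w} : Set G)) = 7560 := by
      rcases x_card_cases h hw with e | e
      · rw [e] at h7'; norm_num at h7'
      · exact e
    exact ⟨_, rfl, n, hn.trans hc, hmod⟩
  obtain ⟨d, hd⟩ := exists_prime_orderOf_dvd_card' (G := Subgroup.centralizer ({u} : Set G)) 7 h7
  have hdo : orderOf (d : G) = 7 := (Subgroup.orderOf_coe d).trans hd
  obtain ⟨D, hD⟩ := (IsPGroup.of_card (p := 7) (n := 1) (by rw [Nat.card_zpowers, hdo, pow_one]) :
    IsPGroup 7 (Subgroup.zpowers (d : G))).exists_le_sylow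
  have hDeq : (D : Subgroup G) = Subgroup.zpowers (d : G) := (Subgroup.eq_of_le_of_card_ge hD
    (by rw [Nat.card_zpowers, hdo]; exact (card_seven_part h D).le)).symm
  have hDu : (D : Subgroup G) ≤ Subgroup.centralizer ({u} : Set G) := hDeq ▸ Subgroup.zpowers_le.2 d.2
  obtain ⟨c, hc, hcase⟩ := seven_options h D
  set N := Subgroup.normalizer ((D : Subgroup G) : Set G) with hN
  set C := Subgroup.centralizer ((D : Subgroup G) : Set G) with hC
  have huC : u ∈ C := Subgroup.mem_centralizer_iff.2 fun q hq => (mem_cent.1 (hDu hq)).eq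
  have hc1 : c ≠ 1 := fun e => by
    have := Subgroup.orderOf_dvd_natCard C huC
    rw [hu.1, hc, e] at this
    norm_num at this
  rcases hcase with ⟨hN42, hc'⟩ | ⟨hN189, -⟩
  · obtain ⟨T, hT, n, hn, hmod⟩ := key D u hu hDu
    have h1 : T ∣ 42 := by rw [← hT, ← hN42]; exact Subgroup.card_dvd_of_le inf_le_left
    have h21 : 21 ∣ T := by
      rw [← hT]
      refine Nat.Coprime.mul_dvd_of_dvd_of_dvd (by norm_num : Nat.Coprime 7 3) ?_ ?_
      · exact (card_seven_part h D).symm.dvd.trans (Subgroup.card_dvd_of_le (le_inf Subgroup.le_normalizer hDu))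
      · exact hu.1 ▸ Subgroup.orderOf_dvd_natCard _
          (⟨Subgroup.centralizer_le_normalizer _ huC, mem_cent.2 (Commute.refl u)⟩ :
            u ∈ N ⊓ Subgroup.centralizer ({u} : Set G))
    obtain ⟨k, rfl⟩ := h21
    have hk : k ∣ 2 := Nat.dvd_of_mul_dvd_mul_left (by norm_num : 0 < 21) h1
    rcases (Nat.dvd_prime Nat.prime_two).1 hk with rfl | rfl <;> omega
  · obtain ⟨S, hS⟩ := Sylow.exists_subgroup_card_pow_prime (G := N) 3 (n := 3) (by rw [hN189]; norm_num)
    obtain ⟨P, hP⟩ := ((IsPGroup.of_card hS).map N.subtype).exists_le_sylow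
    have hPeq : S.map N.subtype = P := Subgroup.eq_of_le_of_card_ge hP (by
      rw [Subgroup.card_map_of_injective N.subtype_injective, hS]
      exact (card_three_part h P).le)
    have hPN : (P : Subgroup G) ≤ N := hPeq ▸ Subgroup.map_subtype_le S
    obtain ⟨w, y, hwP, -, hw, -, hwc, hwu, hcomm⟩ := sylow_center h P
    let g := (D : Subgroup G).normalizerMonoidHom.comp (Subgroup.inclusion hPN)
    have hgk : ∀ q : (P : Subgroup G), q ∈ g.ker ↔ (q : G) ∈ C := by
      intro q
      show Subgroup.inclusion hPN q ∈ (D : Subgroup G).normalizerMonoidHom.ker ↔ _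
      rw [Subgroup.normalizerMonoidHom_ker, Subgroup.mem_subgroupOf]; rfl
    have hne : g.ker ≠ ⊥ := fun hb => by
      have hinj : Function.Injective g := (MonoidHom.ker_eq_bot_iff g).1 hb
      haveI : IsCyclic (D : Subgroup G) := isCyclic_of_prime_card (card_seven_part h D)
      have := Nat.card_le_card_of_injective g hinj
      rw [IsCyclic.card_mulAut, card_seven_part h D, show Nat.totient 7 = 6 from by decide,
        show Nat.card (P : Subgroup G) = 27 from card_three_part h P] at this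
      omega
    obtain ⟨⟨k, hk⟩, hk1'⟩ := Subgroup.ne_bot_iff_exists_ne_one.1 hne
    have hk1 : k ≠ 1 := fun e => hk1' (Subtype.ext e)
    have hgen : ∀ v ∈ Subgroup.zpowers w, v ≠ 1 → v ∈ C → w ∈ C := by
      intro v hv hv1 hvC
      rcases three_zpowers hw.1 hv with e | e | e
      · exact absurd e hv1
      · exact e ▸ hvC
      · simpa [e] using C.inv_mem hvC
    have hwC : w ∈ C := by
      by_cases hall : ∀ p ∈ (P : Subgroup G), Commute p (k : G)
      · exact hgen _ (hwu k k.2 hall) (fun e => hk1 (Subtype.ext e)) ((hgk k).1 hk)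
      · push Not at hall
        obtain ⟨p, hp, hpk⟩ := hall
        refine hgen _ (hcomm p hp k k.2) (fun e => hpk (mul_inv_eq_iff_eq_mul.1 (mul_inv_eq_one.1 e))) ?_
        let pp : (P : Subgroup G) := ⟨p, hp⟩
        have h1 : ((pp * k * pp⁻¹ : (P : Subgroup G)) : G) ∈ C :=
          (hgk _).1 ((MonoidHom.normal_ker g).conj_mem k hk pp)
        exact C.mul_mem h1 (C.inv_mem ((hgk k).1 hk))
    have hDw : (D : Subgroup G) ≤ Subgroup.centralizer ({w} : Set G) := fun q hq =>
      mem_cent.2 (Subgroup.mem_centralizer_iff.1 hwC q hq)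
    obtain ⟨T, hT, n, hn, hmod⟩ := key D w hw hDw
    have h189 : 189 ∣ T := by
      rw [← hT]
      refine Nat.Coprime.mul_dvd_of_dvd_of_dvd (by norm_num : Nat.Coprime 7 27) ?_ ?_
      · exact (card_seven_part h D).symm.dvd.trans (Subgroup.card_dvd_of_le (le_inf Subgroup.le_normalizer hDw))
      · exact card_three_part h P ▸ Subgroup.card_dvd_of_le (le_inf hPN fun q hq => mem_cent.2 (hwc q hq))
    have hT' : T = 189 :=
      Nat.dvd_antisymm (by rw [← hT, ← hN189]; exact Subgroup.card_dvd_of_le inf_le_left) h189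
    subst hT'
    omega

theorem x_card (h : Hyp z Q) {u : G} (hu : XType z u) :
    Nat.card (Subgroup.centralizer ({u} : Set G)) = 1080 := by
  rcases x_card_cases h hu with e | e
  · exact e
  · exact absurd (e ▸ (by norm_num : 7 ∣ 7560)) (no_seven h hu)

theorem conj_pow_inv {i y : G} (e : i * y * i⁻¹ = y ^ 2) (hy : y ^ 3 = 1) : i * y * i⁻¹ = y⁻¹ := by
  rw [e, eq_inv_iff_mul_eq_one, ← pow_succ]; exact hy

set_option maxHeartbeats 400000 in
/-- some involution centralises the centre of a Sylow 3-subgroup and normalises it -/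
theorem exists_invol (h : Hyp z Q) (P : Sylow 3 G) {w : G} (hwP : w ∈ (P : Subgroup G)) (hwX : XType z w)
    (hwc : ∀ p ∈ (P : Subgroup G), Commute p w) :
    ∃ i : G, orderOf i = 2 ∧ Commute i w ∧ i ∈ Subgroup.normalizer ((P : Subgroup G) : Set G) := by
  classical
  haveI : Fact (Nat.Prime 3) := ⟨Nat.prime_three⟩
  haveI : Fact (Nat.Prime 2) := ⟨Nat.prime_two⟩
  obtain ⟨t, htz, htt, htQ⟩ := exists_outer h
  obtain ⟨V, L, K0, hVL, -, -, htV, ⟨e⟩, hzL, -, -, hK12, hK0L, -⟩ := four_normalizer h htz htt htQ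
  obtain ⟨x', hx'⟩ := exists_prime_orderOf_dvd_card' (G := K0) 3 (by rw [hK12]; norm_num)
  obtain ⟨y', hy'⟩ := exists_prime_orderOf_dvd_card' (G := L) 3
    (by rw [Nat.card_congr e.toEquiv, nat_card_alternatingGroup, Nat.card_fin]; decide)
  set x : G := (x' : G) with hxdef
  set y : G := (y' : G) with hydef
  have hxT : XType z x := ⟨(Subgroup.orderOf_coe x').trans hx', z, IsConj.refl z, hK0L x x'.2 z hzL⟩
  have hyo : orderOf y = 3 := (Subgroup.orderOf_coe y').trans hy'
  have hyT : YType z y := ⟨hyo, t, HallJankoPairs.ord_of htt (fun e' => htQ (e' ▸ Q.one_mem)),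
    fun hc => outer_not_conj h htz htt htQ hc.symm, (hVL.2.2.1 t htV y y'.2).symm⟩
  have hxy : Commute x y := hK0L x x'.2 y y'.2
  obtain ⟨s, hs2, hs1, hs⟩ := a5_three_inv (e y')
    (by rw [← map_pow, show y' ^ 3 = 1 from Subtype.ext (three_ne hyo).1, map_one])
    (fun e' => (three_ne hyo).2 (congrArg Subtype.val ((MulEquiv.map_eq_one_iff e).1 e')))
  set i' := e.symm s with hi'
  set i : G := (i' : G) with hidef
  have hii : i * i = 1 := congrArg Subtype.val (show i' * i' = 1 by rw [hi', ← map_mul, hs2, map_one])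
  have hi1 : i ≠ 1 := fun e' => hs1 (by
    rw [← e.apply_symm_apply s, ← hi', show i' = 1 from Subtype.ext e', map_one])
  have hiy : i * y * i⁻¹ = y⁻¹ := conj_pow_inv (congrArg Subtype.val (show i' * y' * i'⁻¹ = y' ^ 2 from
    e.injective (by rw [map_mul, map_mul, map_inv, hi', e.apply_symm_apply, hs, map_pow]))) (three_ne hyo).1
  have hix : Commute i x := (hK0L x x'.2 i i'.2).symm
  -- the group `A = C(x) ∩ C(y)`
  set A := Subgroup.centralizer ({x} : Set G) ⊓ Subgroup.centralizer ({y} : Set G) with hA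
  have hxA : x ∈ A := ⟨mem_cent.2 (Commute.refl x), mem_cent.2 hxy⟩
  have hyA : y ∈ A := ⟨mem_cent.2 hxy.symm, mem_cent.2 (Commute.refl y)⟩
  have hA9 : Nat.card A ∣ 9 := by
    have h36 : Nat.card A ∣ 4 * 9 := by
      rw [show 4 * 9 = 36 from rfl, ← y_card h hyT]; exact Subgroup.card_dvd_of_le inf_le_right
    have hodd : ¬ 2 ∣ Nat.card A := fun hh => by
      obtain ⟨j, hj⟩ := exists_prime_orderOf_dvd_card' (G := A) 2 hh
      have hjo : orderOf (j : G) = 2 := (Subgroup.orderOf_coe j).trans hj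
      obtain ⟨V', x₀, -, -, -, -, -, hVz, hVinv⟩ := y_cent h hyT
      exact hVz _ (hVinv _ (mem_cent.1 j.2.2) hjo) (HallJankoPairs.ord_two hjo).2
        (x_invol h hxT hjo (mem_cent.1 j.2.1).symm)
    exact (show Nat.Coprime (Nat.card A) 4 by
      rw [show (4 : ℕ) = 2 ^ 2 from rfl]
      exact Nat.Coprime.pow_right _ ((Nat.Prime.coprime_iff_not_dvd Nat.prime_two).2 hodd).symm).dvd_of_dvd_mul_left h36
  have hA9' : Nat.card A = 9 := by
    obtain ⟨k, hk, he⟩ := (Nat.dvd_prime_pow Nat.prime_three).1 (show Nat.card A ∣ 3 ^ 2 by simpa using hA9)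
    interval_cases k
    · exfalso
      have := Subgroup.orderOf_dvd_natCard A hyA
      rw [hyo, he] at this
      norm_num at this
    · exfalso
      have e1 : Subgroup.zpowers x = A := Subgroup.eq_of_le_of_card_ge (Subgroup.zpowers_le.2 hxA)
        (by rw [Nat.card_zpowers, hxT.1, he]; norm_num)
      rcases three_zpowers hxT.1 (e1.ge hyA) with e' | e' | e'
      · exact (three_ne hyo).2 e'
      · exact not_yType h hxT (e' ▸ hyT)
      · exact not_yType h (xType_inv hxT) (e' ▸ hyT)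
    · simpa using he
  -- a Sylow subgroup of `C(x)` above `A`
  set H := Subgroup.centralizer ({x} : Set G) with hH
  have hAp : IsPGroup 3 (A.subgroupOf H) := IsPGroup.of_card (n := 2) (by
    rw [Nat.card_congr (Subgroup.subgroupOfEquivOfLe inf_le_left).toEquiv, hA9']; norm_num)
  obtain ⟨S, hS⟩ := hAp.exists_le_sylow
  obtain ⟨P₀, hP₀⟩ := (S.isPGroup'.map H.subtype).exists_le_sylow
  have hP₀eq : (S : Subgroup H).map H.subtype = P₀ := Subgroup.eq_of_le_of_card_ge hP₀ (by
    rw [Subgroup.card_map_of_injective H.subtype_injective]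
    have h27 : 3 ^ 3 ∣ Nat.card (S : Subgroup H) :=
      S.pow_dvd_card_of_pow_dvd_card (by rw [x_card h hxT]; norm_num)
    exact (card_three_part h P₀).le.trans (by simpa using Nat.le_of_dvd Nat.card_pos h27))
  have hPH : (P₀ : Subgroup G) ≤ H := hP₀eq ▸ Subgroup.map_subtype_le (S : Subgroup H)
  have hAP : A ≤ (P₀ : Subgroup G) := fun a ha => hP₀eq ▸ ⟨⟨a, ha.1⟩, hS ha, rfl⟩
  obtain ⟨w₀, y₀, -, -, hw₀, -, -, hwu₀, hcomm₀⟩ := sylow_center h P₀
  have hw₀o := hw₀.1
  have hxw₀ : x ∈ Subgroup.zpowers w₀ := hwu₀ x (hAP hxA) fun p hp => mem_cent.1 (hPH hp)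
  have hmemA : ∀ g, g ∈ A ↔ Commute g x ∧ Commute g y := fun g => by
    rw [hA, Subgroup.mem_inf, mem_cent, mem_cent]
  have hnorm : ∀ n, Commute n x → (∀ g, Commute g x → (Commute g (n * y * n⁻¹) ↔ Commute g y)) →
      n ∈ Subgroup.normalizer (A : Set G) := by
    intro n hnx hny
    rw [Subgroup.mem_normalizer_iff]
    intro g
    rw [hmemA, hmemA]
    have hnxe : n * x * n⁻¹ = x := by rw [hnx.eq, mul_inv_cancel_right]
    have h1 : Commute g x ↔ Commute (n * g * n⁻¹) x := by
      conv_rhs => rw [← hnxe, Commute.conj_iff]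
    constructor
    · rintro ⟨hgx, hgy⟩
      exact ⟨h1.1 hgx, (hny _ (h1.1 hgx)).1 ((Commute.conj_iff n).2 hgy)⟩
    · rintro ⟨hgx, hgy⟩
      exact ⟨h1.2 hgx, (Commute.conj_iff n).1 ((hny _ hgx).2 hgy)⟩
  set M := H ⊓ Subgroup.normalizer (A : Set G) with hM
  have hiM : i ∈ M := ⟨mem_cent.2 hix, hnorm i hix fun g _ => by rw [hiy, Commute.inv_right_iff]⟩
  have hPM : (P₀ : Subgroup G) ≤ M := fun p hp => ⟨hPH hp, hnorm p (mem_cent.1 (hPH hp)) fun g hgx => by
    have hv := hcomm₀ p hp y (hAP hyA)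
    set v := p * y * p⁻¹ * y⁻¹ with hv'
    have hvg : Commute g v := by
      rcases three_zpowers hxT.1 (g := v) (by
        have : Subgroup.zpowers x = Subgroup.zpowers w₀ := Subgroup.eq_of_le_of_card_ge (Subgroup.zpowers_le.2 hxw₀)
          (by rw [Nat.card_zpowers, Nat.card_zpowers, hxT.1, hw₀o])
        rw [this]; exact hv) with e' | e' | e'
      · rw [e']; exact Commute.one_right g
      · rw [e']; exact hgx
      · rw [e']; exact hgx.inv_right
    rw [show p * y * p⁻¹ = v * y by rw [hv', inv_mul_cancel_right]]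
    exact ⟨fun hc => by simpa using hvg.inv_right.mul_right hc, fun hc => hvg.mul_right hc⟩⟩
  have hM54 : Nat.card M ≤ 54 := by
    have h1 := orbit_card M y
    have h2 : Nat.card ↥(M ⊓ Subgroup.centralizer ({y} : Set G)) ≤ 9 := hA9' ▸ Subgroup.card_le_of_le
      fun g hg => (⟨hg.1.1, hg.2⟩ : g ∈ A)
    have h3 : {g : G | ∃ n ∈ M, n * y * n⁻¹ = g} ⊆ (A : Set G) \ (Subgroup.zpowers x : Set G) := by
      rintro _ ⟨n, hn, rfl⟩
      refine ⟨(Subgroup.mem_normalizer_iff.1 hn.2 y).1 hyA, fun hm => ?_⟩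
      rcases three_zpowers hxT.1 hm with e' | e' | e'
      · exact (three_ne hyo).2 (conj_eq_one_iff.1 e')
      · exact not_yType h hxT (e' ▸ yType_conj hyT n)
      · exact not_yType h (xType_inv hxT) (e' ▸ yType_conj hyT n)
    have h4 : ((A : Set G) \ (Subgroup.zpowers x : Set G)).ncard = 6 := by
      rw [Set.ncard_sdiff (Subgroup.zpowers_le.2 hxA) (Set.toFinite _), ← Nat.card_coe_set_eq, ← Nat.card_coe_set_eq]
      rw [show Nat.card ↥(A : Set G) = 9 from hA9',
        show Nat.card ↥(Subgroup.zpowers x : Set G) = 3 from (Nat.card_zpowers x).trans hxT.1]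
    rw [← h1]
    calc _ ≤ 6 * 9 := Nat.mul_le_mul (h4 ▸ Set.ncard_le_ncard h3 (Set.toFinite _)) h2
      _ = 54 := by norm_num
  have hdvd : 54 ∣ Nat.card M := Nat.Coprime.mul_dvd_of_dvd_of_dvd (by norm_num : Nat.Coprime 27 2)
    (card_three_part h P₀ ▸ Subgroup.card_dvd_of_le hPM)
    (HallJankoPairs.ord_of hii hi1 ▸ Subgroup.orderOf_dvd_natCard M hiM)
  have hM' : Nat.card M = 54 := le_antisymm hM54 (Nat.le_of_dvd Nat.card_pos hdvd)
  have hPn : ((P₀ : Subgroup G).subgroupOf M).Normal := by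
    refine Subgroup.normal_of_index_eq_two ?_
    have := ((P₀ : Subgroup G).subgroupOf M).card_mul_index
    rw [Nat.card_congr (Subgroup.subgroupOfEquivOfLe hPM).toEquiv,
      show Nat.card (P₀ : Subgroup G) = 27 from card_three_part h P₀, hM'] at this
    omega
  have hiN : i ∈ Subgroup.normalizer ((P₀ : Subgroup G) : Set G) :=
    ((Subgroup.normal_subgroupOf_iff_le_normalizer hPM).1 hPn) hiM
  -- transport to `P`
  obtain ⟨g, hg⟩ := MulAction.exists_smul_eq G P₀ P
  have hcoe : (P : Subgroup G) = (P₀ : Subgroup G).map (MulAut.conj g).toMonoidHom := by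
    rw [← hg, Sylow.coe_subgroup_smul]; rfl
  obtain ⟨w₁, y₁, -, -, hw₁, -, hw₁c, hw₁u, -⟩ := sylow_center h P
  have hgx : g * x * g⁻¹ ∈ Subgroup.zpowers w₁ := hw₁u _ (hcoe ▸ ⟨x, hAP hxA, rfl⟩) fun p hp => by
    obtain ⟨q, hq, rfl⟩ := hcoe.le hp
    exact (Commute.conj_iff g).2 (mem_cent.1 (hPH hq))
  have hww : Subgroup.zpowers (g * x * g⁻¹) = Subgroup.zpowers w := by
    have hwm : w ∈ Subgroup.zpowers w₁ := hw₁u w hwP hwc
    have e1 : Subgroup.zpowers w = Subgroup.zpowers w₁ := Subgroup.eq_of_le_of_card_ge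
      (Subgroup.zpowers_le.2 hwm) (by rw [Nat.card_zpowers, Nat.card_zpowers, hwX.1, hw₁.1])
    exact (Subgroup.eq_of_le_of_card_ge (Subgroup.zpowers_le.2 hgx) (by
      rw [Nat.card_zpowers, Nat.card_zpowers, hw₁.1, (xType_conj hxT g).1])).trans e1.symm
  refine ⟨g * i * g⁻¹, ((MulAut.conj g).orderOf_eq i).trans (HallJankoPairs.ord_of hii hi1), ?_, ?_⟩
  · obtain ⟨k, hk⟩ := Subgroup.mem_zpowers_iff.1 (hww.ge (Subgroup.mem_zpowers w))
    rw [← hk]
    exact ((Commute.conj_iff g).2 hix).zpow_right k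
  · rw [hcoe, Subgroup.mem_normalizer_iff_map_conj_eq, Subgroup.map_map]
    conv_rhs => rw [← Subgroup.mem_normalizer_iff_map_conj_eq.1 hiN, Subgroup.map_map]
    congr 1
    ext q
    simp
    group

end Cfsg.Agent.Lie.HJType
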