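import Mathlib
import Cfsg.Agent.Lib.Lie.HJType.ThreeNormalizer

/-!
Groups of Hall–Janko type: the classes of elements of order three, and the Sylow 7-normaliser.
-/

set_option autoImplicit false
set_option linter.style.haveILetI false
set_option linter.unusedSectionVars false
set_option linter.constructorNameAsVariable false

namespace Cfsg.Agent.Lie.HJType

universe u

variable {G : Type u} [Group G] [Finite G] {z : G} {Q : Subgroup G}

theorem norm_center {P : Sylow 3 G} {w n : G} (hwP : w ∈ (P : Subgroup G)) (hwc : ∀ p ∈ (P : Subgroup G), Commute p w)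
    (hwu : ∀ g ∈ (P : Subgroup G), (∀ p ∈ (P : Subgroup G), Commute p g) → g ∈ Subgroup.zpowers w)
    (hn : n ∈ Subgroup.normalizer ((P : Subgroup G) : Set G)) : n * w * n⁻¹ ∈ Subgroup.zpowers w := by
  refine hwu _ ((Subgroup.mem_normalizer_iff.1 hn w).1 hwP) fun p hp => ?_
  have hm : n⁻¹ * p * n ∈ (P : Subgroup G) := by
    have := (Subgroup.mem_normalizer_iff.1 (inv_mem hn) p).1 hp
    rwa [inv_inv] at this
  have := (Commute.conj_iff n).2 (hwc _ hm)
  rwa [show n * (n⁻¹ * p * n) * n⁻¹ = p by group] at this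

set_option maxHeartbeats 400000 in
/-- the part of the normaliser centralising the centre -/
theorem norm_cent_w (h : Hyp z Q) (P : Sylow 3 G) {w y : G} (hwP : w ∈ (P : Subgroup G)) (hyP : y ∈ (P : Subgroup G))
    (hwX : XType z w) (hy : YType z y) (hwc : ∀ p ∈ (P : Subgroup G), Commute p w) :
    Nat.card ↥(Subgroup.normalizer ((P : Subgroup G) : Set G) ⊓ Subgroup.centralizer ({w} : Set G)) = 108 := by
  classical
  haveI : Fact (Nat.Prime 3) := ⟨Nat.prime_three⟩
  haveI : Fact (Nat.Prime 5) := ⟨by norm_num⟩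
  have hPC : (P : Subgroup G) ≤ Subgroup.centralizer ({w} : Set G) := fun p hp => mem_cent.2 (hwc p hp)
  obtain ⟨n, hn, hmod⟩ := count_in P hPC
  rw [x_card h hwX] at hn
  set T := Subgroup.normalizer ((P : Subgroup G) : Set G) ⊓ Subgroup.centralizer ({w} : Set G) with hT
  obtain ⟨i, hio, hiw, hiN⟩ := exists_invol h P hwP hwX hwc
  have hP27 : Nat.card (P : Subgroup G) = 27 := card_three_part h P
  obtain ⟨k, hk⟩ : 54 ∣ Nat.card T := Nat.Coprime.mul_dvd_of_dvd_of_dvd (by norm_num : Nat.Coprime 27 2)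
    (hP27.symm.dvd.trans (Subgroup.card_dvd_of_le (le_inf Subgroup.le_normalizer hPC)))
    (hio.symm.dvd.trans (Subgroup.orderOf_dvd_natCard T (⟨hiN, mem_cent.2 hiw⟩ : i ∈ T)))
  have h5 : ¬ 5 ∣ Nat.card T := fun hd => by
    obtain ⟨d, hd5⟩ := exists_prime_orderOf_dvd_card' (G := T) 5 hd
    have hdo : orderOf (d : G) = 5 := (Subgroup.orderOf_coe d).trans hd5
    have hm := fixed_card (P : Subgroup G) d.2.1 hdo
    set F := (P : Subgroup G) ⊓ Subgroup.centralizer ({(d : G)} : Set G) with hF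
    have hFd : Nat.card F ∣ 3 ^ 3 := by
      rw [show (3 : ℕ) ^ 3 = 27 from rfl, ← hP27]; exact Subgroup.card_dvd_of_le inf_le_left
    obtain ⟨j, hj, he⟩ := (Nat.dvd_prime_pow Nat.prime_three).1 hFd
    rw [hP27, he] at hm
    have hj3 : j = 3 := by
      unfold Nat.ModEq at hm
      interval_cases j <;> first | rfl | (norm_num at hm)
    have hFP : F = P := Subgroup.eq_of_le_of_card_ge inf_le_left (by rw [he, hj3, hP27]; norm_num)
    have := Subgroup.orderOf_dvd_natCard (Subgroup.centralizer ({y} : Set G))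
      (mem_cent.2 (mem_cent.1 (hFP.ge hyP).2).symm)
    rw [hdo, y_card h hy] at this
    norm_num at this
  rw [hk] at hn h5 ⊢
  have hk20 : k * n = 20 := by
    have : 54 * (k * n) = 54 * 20 := by rw [← mul_assoc, hn]
    exact Nat.eq_of_mul_eq_mul_left (by norm_num) this
  have hk5 : ¬ 5 ∣ k := fun hd => h5 (hd.mul_left 54)
  have hkd : k ∈ Nat.divisors 20 := Nat.mem_divisors.2 ⟨⟨n, hk20.symm⟩, by norm_num⟩
  rw [show Nat.divisors 20 = {1, 2, 4, 5, 10, 20} by decide +kernel] at hkd
  simp only [Finset.mem_insert, Finset.mem_singleton] at hkd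
  unfold Nat.ModEq at hmod
  rcases hkd with rfl | rfl | rfl | rfl | rfl | rfl <;> omega

set_option maxHeartbeats 400000 in
theorem card_normalizer_three (h : Hyp z Q) (P : Sylow 3 G) :
    Nat.card (Subgroup.normalizer ((P : Subgroup G) : Set G)) = 216 := by
  classical
  haveI : Fact (Nat.Prime 3) := ⟨Nat.prime_three⟩
  obtain ⟨w, y, hwP, hyP, hwX, hy, hwc, hwu, -⟩ := sylow_center h P
  set N := Subgroup.normalizer ((P : Subgroup G) : Set G) with hN
  rw [← orbit_card N w, norm_cent_w h P hwP hyP hwX hy hwc]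
  obtain ⟨h3, hw1⟩ := three_ne hwX.1
  have hset : {x : G | ∃ n ∈ N, n * w * n⁻¹ = x} = {w, w⁻¹} := by
    refine Set.Subset.antisymm ?_ (Set.insert_subset ⟨1, N.one_mem, by group⟩ (Set.singleton_subset_iff.2 ?_))
    · rintro _ ⟨n, hn, rfl⟩
      rcases three_zpowers hwX.1 (norm_center hwP hwc hwu hn) with e | e | e
      · exact absurd (conj_eq_one_iff.1 e) hw1
      · exact Set.mem_insert_iff.2 (Or.inl e)
      · exact Set.mem_insert_iff.2 (Or.inr e)
    · obtain ⟨g, hg⟩ := isConj_iff.1 (x_conj_all h hwX (xType_inv hwX))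
      obtain ⟨P', hP'⟩ : ∃ P' : Sylow 3 G, (P' : Subgroup G) = (P : Subgroup G).map (MulAut.conj g).toMonoidHom :=
        ⟨g • P, by rw [Sylow.coe_subgroup_smul]; rfl⟩
      have hP'C : (P' : Subgroup G) ≤ Subgroup.centralizer ({w} : Set G) := by
        rw [hP']
        rintro _ ⟨p, hp, rfl⟩
        have := (Commute.conj_iff g).2 (hwc p hp)
        rw [hg] at this
        exact mem_cent.2 (Commute.inv_right_iff.1 this)
      obtain ⟨c, hcC, hc⟩ := conj_in P' P hP'C (fun p hp => mem_cent.2 (hwc p hp))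
      have hcw : Commute c w := mem_cent.1 hcC
      refine ⟨c * g, ?_, ?_⟩
      · rw [hN, Subgroup.mem_normalizer_iff_map_conj_eq]
        show (P : Subgroup G).map (MulAut.conj (c * g)).toMonoidHom = _
        rw [map_mul, show ((MulAut.conj c * MulAut.conj g : MulAut G)).toMonoidHom =
          (MulAut.conj c).toMonoidHom.comp (MulAut.conj g).toMonoidHom from rfl, ← Subgroup.map_map, ← hP', hc]
      · rw [show c * g * w * (c * g)⁻¹ = c * (g * w * g⁻¹) * c⁻¹ by group, hg, hcw.inv_right.eq,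
          mul_inv_cancel_right]
  rw [hset, Set.ncard_pair (fun e => by
    have h2 : w ^ 2 = 1 := by rw [sq]; exact eq_inv_iff_mul_eq_one.1 e
    exact hw1 (by rw [pow_succ, h2, one_mul] at h3; exact h3))]

/-- the non-central elements of a Sylow 3-subgroup are of the second kind -/
theorem noncentral_yType (h : Hyp z Q) (P : Sylow 3 G) :
    ∃ w y : G, w ∈ (P : Subgroup G) ∧ y ∈ (P : Subgroup G) ∧ XType z w ∧ YType z y ∧
      (∀ p ∈ (P : Subgroup G), Commute p w) ∧
      (∀ g ∈ (P : Subgroup G), (∀ p ∈ (P : Subgroup G), Commute p g) → g ∈ Subgroup.zpowers w) ∧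
      (∀ a ∈ (P : Subgroup G), ∀ b ∈ (P : Subgroup G), a * b * a⁻¹ * b⁻¹ ∈ Subgroup.zpowers w) ∧
      ∀ g ∈ (P : Subgroup G), g ∉ Subgroup.zpowers w → YType z g := by
  classical
  haveI : Fact (Nat.Prime 2) := ⟨Nat.prime_two⟩
  obtain ⟨w, y, hwP, hyP, hwX, hy, hwc, hwu, hcomm⟩ := sylow_center h P
  refine ⟨w, y, hwP, hyP, hwX, hy, hwc, hwu, hcomm, ?_⟩
  set N := Subgroup.normalizer ((P : Subgroup G) : Set G) with hN
  have hP27 : Nat.card (P : Subgroup G) = 27 := card_three_part h P
  have hw3 := hwX.1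
  obtain ⟨hwc3, hw1⟩ := three_ne hw3
  have hwy : Commute w y := (hwc y hyP).symm
  have hT : Nat.card ↥(N ⊓ Subgroup.centralizer ({y} : Set G)) ≤ 9 := by
    have hodd : ¬ 2 ∣ Nat.card ↥(N ⊓ Subgroup.centralizer ({y} : Set G)) := fun hd => by
      obtain ⟨i, hi⟩ := exists_prime_orderOf_dvd_card' (G := ↥(N ⊓ Subgroup.centralizer ({y} : Set G))) 2 hd
      have hio : orderOf (i : G) = 2 := (Subgroup.orderOf_coe i).trans hi
      obtain ⟨hii, hi1⟩ := HallJankoPairs.ord_two hio
      obtain ⟨V, x₀, -, -, -, hVn, hV2, hVz, hVinv⟩ := y_cent h hy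
      have hiV : (i : G) ∈ V := hVinv _ (mem_cent.1 i.2.2) hio
      have hwV : w * i * w⁻¹ ∈ V := hVn w hwy _ hiV
      rcases three_zpowers hw3 (norm_center hwP hwc hwu i.2.1) with e | e | e
      · exact hw1 (conj_eq_one_iff.1 e)
      · exact hVz _ hiV hi1 (x_invol h hwX hio (mul_inv_eq_iff_eq_mul.1 e).symm)
      · have hiinv : (i : G)⁻¹ = i := inv_eq_of_mul_eq_one_right hii
        have hm : w * w ∈ V := by
          have h1 := V.mul_mem hwV hiV
          rwa [show w * (i : G) * w⁻¹ * i = w * ((i : G) * w * (i : G)⁻¹)⁻¹ * ((i : G) * i) by group,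
            hii, mul_one, e, inv_inv] at h1
        have h4 := hV2 _ hm
        have h6 : w ^ 4 = 1 := by rw [← h4, ← pow_two, ← pow_mul]
        exact hw1 (by rw [pow_succ, hwc3, one_mul] at h6; exact h6)
    have h36 : Nat.card ↥(N ⊓ Subgroup.centralizer ({y} : Set G)) ∣ 2 ^ 2 * 9 := by
      rw [show (2 : ℕ) ^ 2 * 9 = 36 from rfl, ← y_card h hy]; exact Subgroup.card_dvd_of_le inf_le_right
    exact Nat.le_of_dvd (by norm_num)
      ((Nat.Coprime.pow_right 2 ((Nat.Prime.coprime_iff_not_dvd Nat.prime_two).2 hodd).symm).dvd_of_dvd_mul_left h36)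
  set O := {x : G | ∃ n ∈ N, n * y * n⁻¹ = x} with hO
  have hOc : 24 ≤ O.ncard := by
    have := orbit_card N y
    rw [card_normalizer_three h P] at this
    have : 216 ≤ O.ncard * 9 := this ▸ Nat.mul_le_mul_left _ hT
    omega
  have hsub : O ⊆ ((P : Subgroup G) : Set G) \ (Subgroup.zpowers w : Set G) := by
    rintro _ ⟨n, hn, rfl⟩
    refine ⟨(Subgroup.mem_normalizer_iff.1 hn y).1 hyP, fun hm => ?_⟩
    rcases three_zpowers hw3 hm with e | e | e
    · exact (three_ne hy.1).2 (conj_eq_one_iff.1 e)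
    · exact not_yType h hwX (e ▸ yType_conj hy n)
    · exact not_yType h (xType_inv hwX) (e ▸ yType_conj hy n)
  have heq : O = ((P : Subgroup G) : Set G) \ (Subgroup.zpowers w : Set G) := by
    refine Set.eq_of_subset_of_ncard_le hsub (le_trans (le_of_eq ?_) hOc) (Set.toFinite _)
    rw [Set.ncard_sdiff (Subgroup.zpowers_le.2 hwP) (Set.toFinite _), ← Nat.card_coe_set_eq, ← Nat.card_coe_set_eq,
      show Nat.card ↥((P : Subgroup G) : Set G) = 27 from hP27,
      show Nat.card ↥(Subgroup.zpowers w : Set G) = 3 from (Nat.card_zpowers w).trans hw3]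
  intro g hg hgw
  obtain ⟨n, -, rfl⟩ := heq.ge ⟨hg, hgw⟩
  exact yType_conj hy n

theorem three_cases (h : Hyp z Q) {c : G} (hc : orderOf c = 3) : XType z c ∨ YType z c := by
  obtain ⟨P⟩ := (inferInstance : Nonempty (Sylow 3 G))
  obtain ⟨g, hg⟩ := exists_conj_mem3 P c hc
  obtain ⟨w, y, -, -, hwX, -, -, -, -, hY⟩ := noncentral_yType h P
  have hback : c = g⁻¹ * (g * c * g⁻¹) * g⁻¹⁻¹ := by group
  rw [hback]
  by_cases hm : g * c * g⁻¹ ∈ Subgroup.zpowers w
  · left
    refine xType_conj ?_ _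
    rcases three_zpowers hwX.1 hm with e | e | e
    · exact absurd (conj_eq_one_iff.1 e) (three_ne hc).2
    · exact e ▸ hwX
    · exact e ▸ xType_inv hwX
  · exact Or.inr (yType_conj (hY _ hg hm) _)

theorem three_extraspecial (h : Hyp z Q) (P : Sylow 3 G) : Cfsg.IsExtraspecial 3 (P : Subgroup G) := by
  classical
  haveI : Fact (Nat.Prime 3) := ⟨Nat.prime_three⟩
  obtain ⟨w, y, hwP, hyP, hwX, hy, hwc, hwu, hcomm, hY⟩ := noncentral_yType h P
  set wP : (P : Subgroup G) := ⟨w, hwP⟩
  have hcen : Subgroup.center (P : Subgroup G) = Subgroup.zpowers wP := by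
    refine le_antisymm (fun g hg => ?_) (Subgroup.zpowers_le.2 (Subgroup.mem_center_iff.2 fun p =>
      Subtype.ext (hwc p p.2).eq))
    obtain ⟨k, hk⟩ := Subgroup.mem_zpowers_iff.1 (hwu g g.2 fun p hp =>
      congrArg Subtype.val (Subgroup.mem_center_iff.1 hg ⟨p, hp⟩))
    exact Subgroup.mem_zpowers_iff.2 ⟨k, Subtype.ext hk⟩
  have hwo : orderOf wP = 3 := by rw [← Subgroup.orderOf_coe]; exact hwX.1
  refine Solv.isExtraspecial_of P.isPGroup' (by rw [hcen, Nat.card_zpowers, hwo]) ?_ fun g => ?_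
  · have hle : commutator (P : Subgroup G) ≤ Subgroup.center (P : Subgroup G) := by
      rw [commutator_def, Subgroup.commutator_le]
      intro a _ b _
      rw [hcen]
      obtain ⟨k, hk⟩ := Subgroup.mem_zpowers_iff.1 (hcomm a a.2 b b.2)
      exact Subgroup.mem_zpowers_iff.2 ⟨k, Subtype.ext hk⟩
    refine Subgroup.eq_of_le_of_card_ge hle ?_
    rw [hcen, Nat.card_zpowers, hwo]
    by_contra hlt
    have hne : Nat.card (commutator (P : Subgroup G)) ∣ 27 :=
      (Subgroup.card_subgroup_dvd_card _).trans (card_three_part h P).dvd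
    have h1 : Nat.card (commutator (P : Subgroup G)) = 1 := by
      have hp := Nat.card_pos (α := commutator (P : Subgroup G))
      rcases (show Nat.card (commutator (P : Subgroup G)) = 1 ∨ Nat.card (commutator (P : Subgroup G)) = 2 by omega) with e | e
      · exact e
      · rw [e] at hne; norm_num at hne
    haveI := (commutator_eq_bot_iff (P : Subgroup G)).1 (Subgroup.card_eq_one.1 h1)
    have hd : Nat.card (P : Subgroup G) ∣ Nat.card (Subgroup.centralizer ({y} : Set G)) :=
      Subgroup.card_dvd_of_le fun p hp => mem_cent.2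
        (congrArg Subtype.val (mul_comm' (⟨p, hp⟩ : (P : Subgroup G)) ⟨y, hyP⟩))
    rw [y_card h hy, show Nat.card (P : Subgroup G) = 27 from card_three_part h P] at hd
    norm_num at hd
  · have hg3 : (g : G) ^ 3 = 1 := by
      by_cases hm : (g : G) ∈ Subgroup.zpowers w
      · rcases three_zpowers hwX.1 hm with e | e | e <;> rw [e]
        · exact one_pow 3
        · exact (three_ne hwX.1).1
        · rw [inv_pow, (three_ne hwX.1).1, inv_one]
      · exact (three_ne (hY g g.2 hm).1).1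
    rw [show g ^ 3 = 1 from Subtype.ext hg3]
    exact Subgroup.one_mem _

theorem classes_three (h : Hyp z Q) :
    ∃ a b : G, orderOf a = 3 ∧ orderOf b = 3 ∧ ¬ IsConj a b ∧
      ∀ c : G, orderOf c = 3 → IsConj c a ∨ IsConj c b := by
  obtain ⟨P⟩ := (inferInstance : Nonempty (Sylow 3 G))
  obtain ⟨w, y, -, -, hwX, hy, -, -, -⟩ := sylow_center h P
  refine ⟨w, y, hwX.1, hy.1, fun hc => ?_, fun c hc => ?_⟩
  · obtain ⟨g, hg⟩ := isConj_iff.1 hc
    exact not_yType h (xType_conj hwX g) (hg ▸ hy)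
  · rcases three_cases h hc with hX | hY
    · exact Or.inl (x_conj_all h hX hwX)
    · exact Or.inr (y_conj_all h hY hy)

theorem seven_normalizer (h : Hyp z Q) (D : Sylow 7 G) :
    Subgroup.centralizer ((D : Subgroup G) : Set G) = D ∧
      Nat.card (Subgroup.normalizer ((D : Subgroup G) : Set G)) = 42 ∧
      ¬ IsMulCommutative (Subgroup.normalizer ((D : Subgroup G) : Set G)) := by
  classical
  haveI : Fact (Nat.Prime 7) := ⟨by norm_num⟩
  haveI : Fact (Nat.Prime 3) := ⟨Nat.prime_three⟩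
  obtain ⟨c, hc, hcase⟩ := seven_options h D
  set C := Subgroup.centralizer ((D : Subgroup G) : Set G) with hC
  have hD7 := card_seven_part h D
  have hc1 : c = 1 := by
    by_contra hne
    have h3 : 3 ∣ Nat.card C := by
      rw [hc]
      rcases hcase with ⟨-, e | e⟩ | ⟨-, e | e⟩ <;> subst e <;> first | exact absurd rfl hne | norm_num
    obtain ⟨v, hv⟩ := exists_prime_orderOf_dvd_card' (G := C) 3 h3
    have hvo : orderOf (v : G) = 3 := (Subgroup.orderOf_coe v).trans hv
    have hd : 7 ∣ Nat.card (Subgroup.centralizer ({(v : G)} : Set G)) :=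
      hD7.symm.dvd.trans (Subgroup.card_dvd_of_le fun q hq =>
        mem_cent.2 (Subgroup.mem_centralizer_iff.1 v.2 q hq))
    rcases three_cases h hvo with hX | hY
    · exact no_seven h hX hd
    · rw [y_card h hY] at hd; norm_num at hd
  subst hc1
  haveI : IsCyclic (D : Subgroup G) := isCyclic_of_prime_card hD7
  have hDC : (D : Subgroup G) ≤ C := fun a ha => Subgroup.mem_centralizer_iff.2 fun b hb =>
    congrArg Subtype.val (mul_comm' (⟨b, hb⟩ : (D : Subgroup G)) ⟨a, ha⟩)
  have hCD : C = D := (Subgroup.eq_of_le_of_card_ge hDC (by rw [hc, hD7])).symm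
  have h42 : Nat.card (Subgroup.normalizer ((D : Subgroup G) : Set G)) = 42 := by
    rcases hcase with ⟨e, -⟩ | ⟨-, e | e⟩
    · exact e
    · norm_num at e
    · norm_num at e
  refine ⟨hCD, h42, fun hab => ?_⟩
  have hle : Subgroup.normalizer ((D : Subgroup G) : Set G) ≤ C := fun n hn => Subgroup.mem_centralizer_iff.2
    fun q hq => congrArg Subtype.val (mul_comm'
      (⟨q, Subgroup.le_normalizer hq⟩ : Subgroup.normalizer ((D : Subgroup G) : Set G)) ⟨n, hn⟩)
  have := Subgroup.card_le_of_le hle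
  rw [h42, hc] at this
  norm_num at this

end Cfsg.Agent.Lie.HJType
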