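import Mathlib
import Cfsg.Agent.Lib.Lie.HJType.Counts
import Cfsg.Agent.Lib.Char.ZStar

/-!
Groups of Hall–Janko type: in a simple group the central involution is not weakly closed in the core.
-/

set_option autoImplicit false
set_option linter.style.haveILetI false
set_option linter.unusedSectionVars false

namespace Cfsg.Agent.Lie.HJType

open Equiv

universe u

local notation "A5" => alternatingGroup (Fin 5)

theorem a5_noncomm : ∃ a b : A5, a * b ≠ b * a := by decide +kernel

variable {G : Type u} [Group G] [Finite G] {z : G} {Q : Subgroup G}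

theorem exists_noncentral_invol (S : CentTransfer.Setting z Q) (hQ : Nat.card Q = 32) :
    ∃ u ∈ Q, u * u = 1 ∧ u ≠ 1 ∧ u ≠ z := by
  classical
  by_contra! hall
  have hsq : ∀ x ∈ Q, x ≠ 1 → x ≠ z → x * x = z := fun x hx h1 h2 =>
    (S.sq x hx).resolve_left fun e => h2 (hall x hx e h1)
  obtain ⟨x, hx, hx1, hxz⟩ : ∃ x ∈ Q, x ≠ 1 ∧ x ≠ z := by
    by_contra! h2
    have hle : Nat.card Q ≤ Nat.card ({1, z} : Finset G) :=
      Nat.card_le_card_of_injective (fun q : Q => ⟨(q : G), by
        rw [Finset.mem_insert, Finset.mem_singleton]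
        exact or_iff_not_imp_left.2 (h2 q q.2)⟩) fun a b e => Subtype.ext (congrArg Subtype.val e :)
    rw [hQ, Nat.card_eq_finsetCard] at hle
    have := Finset.card_le_two (a := (1 : G)) (b := z)
    omega
  obtain ⟨y, hy, hy1, hy2, hy3, hy4⟩ : ∃ y ∈ Q ⊓ Subgroup.centralizer ({x} : Set G),
      y ≠ 1 ∧ y ≠ z ∧ y ≠ x ∧ y ≠ x * z := by
    by_contra! h2
    have hle : Nat.card (Q ⊓ Subgroup.centralizer ({x} : Set G) : Subgroup G) ≤
        Nat.card ({1, z, x, x * z} : Finset G) :=
      Nat.card_le_card_of_injective (fun q : (Q ⊓ Subgroup.centralizer ({x} : Set G) : Subgroup G) => ⟨(q : G), by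
        simp only [Finset.mem_insert, Finset.mem_singleton]
        by_cases e1 : (q : G) = 1
        · exact Or.inl e1
        by_cases e2 : (q : G) = z
        · exact Or.inr (Or.inl e2)
        by_cases e3 : (q : G) = x
        · exact Or.inr (Or.inr (Or.inl e3))
        exact Or.inr (Or.inr (Or.inr (h2 q q.2 e1 e2 e3)))⟩) fun a b e => Subtype.ext (congrArg Subtype.val e :)
    rw [HallJankoPairs.card_centralizer_in S hQ hx hx1 hxz, Nat.card_eq_finsetCard] at hle
    have := Finset.card_le_four (a := (1 : G)) (b := z) (c := x) (d := x * z)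
    omega
  have hxy : Commute y x := mem_cent.1 hy.2
  have hzz := S.xt.sq
  have hyx : y * x * (y * x) = 1 := by
    rw [hxy.symm.mul_mul_mul_comm, hsq y hy.1 hy1 hy2, hsq x hx hx1 hxz, hzz]
  have hxx := hsq x hx hx1 hxz
  have hzx : Commute z x := S.xt.cen x hx
  have hxi : x⁻¹ = x * z := inv_eq_of_mul_eq_one_right (by rw [← mul_assoc, hxx, hzz])
  refine hy4 ?_
  by_cases e : y * x = 1
  · rw [eq_inv_of_mul_eq_one_left e, hxi]
  · exfalso
    have h3 := hall _ (Q.mul_mem hy.1 hx) hyx e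
    refine hy3 ?_
    rw [eq_mul_inv_of_mul_eq h3, hxi, ← mul_assoc, hzx.eq, mul_assoc, hzz, mul_one]

theorem Frame.outer_conj (F : Frame z Q) {t t' : G} (htz : Commute t z) (htt : t * t = 1) (htQ : t ∉ Q)
    (ht'z : Commute t' z) (ht't' : t' * t' = 1) (ht'Q : t' ∉ Q) : IsConj t t' := by
  obtain ⟨hs, hs1⟩ := Frame.pi_inv (F := F) htz htt htQ
  obtain ⟨hs', hs1'⟩ := Frame.pi_inv (F := F) ht'z ht't' ht'Q
  obtain ⟨g, hg⟩ := a5_inv_conj _ hs hs1 _ hs' hs1'
  obtain ⟨c, rfl⟩ := F.surj g
  have hc1 : Commute ((c : G) * t * (c : G)⁻¹) z :=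
    (c * cen z htz * c⁻¹ : Subgroup.centralizer ({z} : Set G)) |> F.comm_z
  have hc2 : (c : G) * t * (c : G)⁻¹ * ((c : G) * t * (c : G)⁻¹) = 1 := by
    rw [conj_mul, htt, mul_one, mul_inv_cancel]
  have hc3 : (c : G) * t * (c : G)⁻¹ ∉ Q := fun e => htQ (by
    have := F.S.norm _ (F.comm_z c⁻¹) _ e
    simpa [mul_assoc] using this)
  obtain ⟨r, -, e⟩ := F.conj_in_coset hc1 hc2 hc3 ht'z ht't' (by
    rw [show cen z hc1 = c * cen z htz * c⁻¹ from rfl, map_mul, map_mul, map_inv, hg])
  exact (isConj_iff.2 ⟨c, rfl⟩ : IsConj t _).trans (isConj_iff.2 ⟨r, e⟩)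

/-- in a simple group some other conjugate of the involution lies in the core -/
theorem nwc_of_simple [IsSimpleGroup G] (S : CentTransfer.Setting z Q) (hQ : Nat.card Q = 32)
    (hquot : ∃ f : Subgroup.centralizer ({z} : Set G) →* alternatingGroup (Fin 5),
      Function.Surjective f ∧ f.ker = Q.subgroupOf (Subgroup.centralizer ({z} : Set G))) :
    ∃ u ∈ Q, u ≠ z ∧ IsConj z u := by
  classical
  by_contra! hwc
  obtain ⟨F⟩ := exists_frame_of S hQ hquot (exists_noncentral_invol S hQ)
  have hzz := S.xt.sq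
  have hzo : orderOf z = 2 := HallJankoPairs.ord_of hzz S.xt.ne
  obtain ⟨g, hgc, hgne⟩ : ∃ g : G, Commute z (g * z * g⁻¹) ∧ g * z * g⁻¹ ≠ z := by
    by_contra! hiso
    have h1 := Char.zStar_isolated (z := z) ⟨hzo, hiso⟩
    haveI : (Cfsg.oddCore G).Normal := Solv.pPrimeCore_normal 2
    rcases (inferInstance : (Cfsg.oddCore G).Normal).eq_bot_or_eq_top with e | e
    · have hzc : z ∈ Subgroup.center G := Subgroup.mem_center_iff.2 fun x => by
        have := h1 x
        rw [e, Subgroup.mem_bot, mul_inv_eq_one, mul_inv_eq_iff_eq_mul] at this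
        exact this.symm
      have htop : Subgroup.center G = ⊤ := ((inferInstance : (Subgroup.center G).Normal).eq_bot_or_eq_top).resolve_left
        fun e' => S.xt.ne (by rwa [e', Subgroup.mem_bot] at hzc)
      obtain ⟨f, hf, -⟩ := hquot
      obtain ⟨a, b, hab⟩ := a5_noncomm
      obtain ⟨s, hs⟩ := hf a
      obtain ⟨s', hs'⟩ := hf b
      have hss : f (s * s') = f (s' * s) := congrArg f (Subtype.ext
        (Subgroup.mem_center_iff.1 (htop ▸ Subgroup.mem_top (s' : G)) (s : G)))
      rw [map_mul, map_mul, hs, hs'] at hss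
      exact hab hss
    · have hodd := Char.card_oddCore_odd G
      rw [e, Subgroup.card_top] at hodd
      exact (Nat.not_even_iff_odd.2 hodd) (even_iff_two_dvd.2 (hzo ▸ orderOf_dvd_natCard z))
  set t := g * z * g⁻¹ with ht
  have htz : Commute t z := hgc.symm
  have htt : t * t = 1 := by rw [ht, conj_mul, hzz, mul_one, mul_inv_cancel]
  have hzt : IsConj z t := isConj_iff.2 ⟨g, rfl⟩
  have htQ : t ∉ Q := fun e => hwc t e hgne hzt
  obtain ⟨hs, hs1⟩ := Frame.pi_inv (F := F) htz htt htQ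
  -- every involution outside the core is conjugate to `z`
  have hout : ∀ {x : G}, Commute x z → x * x = 1 → x ∉ Q → IsConj z x := fun hx hxx hxQ =>
    hzt.trans (F.outer_conj htz htt htQ hx hxx hxQ)
  have hback : ∀ {x : G}, Commute x t → Commute (g⁻¹ * x * g) z := fun {x} hx => by
    have := (Commute.conj_iff g⁻¹).2 hx
    rwa [inv_inv, ht, show g⁻¹ * (g * z * g⁻¹) * g = z by group] at this
  have hzR : g⁻¹ * z * g ∉ Q := fun e => by
    refine hgne ?_
    by_contra hne
    refine hwc _ e (fun e' => hne ?_) (isConj_iff.2 ⟨g⁻¹, by group⟩)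
    show g * z * g⁻¹ = z
    nth_rw 1 [← e']
    group
  -- squares of fixed elements of the core
  have hfix : ∀ {q : G}, q ∈ Q → Commute q t → q * q = 1 := fun {q} hq hqt => by
    refine (S.sq q hq).resolve_right fun e => hzR ?_
    have h4 := a5_four (F.π (cen z (hback hqt))) (by
      rw [← map_mul, ← map_mul,
        show cen z (hback hqt) * cen z (hback hqt) * (cen z (hback hqt) * cen z (hback hqt)) = 1 from Subtype.ext (by
          show g⁻¹ * q * g * (g⁻¹ * q * g) * (g⁻¹ * q * g * (g⁻¹ * q * g)) = 1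
          rw [show g⁻¹ * q * g * (g⁻¹ * q * g) = g⁻¹ * (q * q) * g by group, e,
            show g⁻¹ * z * g * (g⁻¹ * z * g) = g⁻¹ * (z * z) * g by group, hzz, mul_one, inv_mul_cancel]),
        map_one])
    rw [← map_mul, F.ker] at h4
    change g⁻¹ * q * g * (g⁻¹ * q * g) ∈ Q at h4
    rwa [show g⁻¹ * q * g * (g⁻¹ * q * g) = g⁻¹ * (q * q) * g by group, e] at h4
  obtain ⟨i, hi, huniq⟩ := a5_fix _ hs hs1
  have hti : t⁻¹ = t := inv_eq_of_mul_eq_one_right htt
  have htQ' : ∀ {q : G}, q ∈ Q → t * q * t ∈ Q := fun {q} hq => by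
    have := S.norm t htz q hq; rwa [hti] at this
  have hcomm : ∀ {q : G}, t * q * t = q → Commute q t := fun {q} e => by
    show q * t = t * q
    conv_lhs => rw [← e]
    rw [mul_assoc, htt, mul_one]
  have hzt' : z * t = t * z := htz.eq.symm
  -- the fixed involution
  have hut : Commute (F.u i) t := by
    obtain ⟨v, hv, hvf, hv0, hvE⟩ := fixed_plain _ hs hs1
    obtain ⟨p, hp, rfl⟩ := F.vec_surj hv
    have hpp := F.sq_eq_z hp hv0 hvE
    have htp : t * p * t = p * z := by
      refine (F.vec_eq (htQ' hp) hp ((F.vconj_inv htz htt htQ hp).trans hvf)).resolve_left fun e => ?_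
      exact S.xt.ne (hpp.symm.trans (hfix hp (hcomm e)))
    have hvu : F.vec (t * F.u i * t) = F.vec (F.u i) := by
      rw [F.vconj_inv htz htt htQ (F.mem i), F.vec_u, act_E, hi]
    rcases F.vec_eq (htQ' (F.mem i)) (F.mem i) hvu with e | e
    · exact hcomm e
    exfalso
    have hq : t * (p * F.u i) * t = p * F.u i := by
      calc t * (p * F.u i) * t = t * p * t * (t * F.u i * t) := by
            rw [show t * p * t * (t * F.u i * t) = t * p * (t * t) * F.u i * t by group, htt]; group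
        _ = p * (z * F.u i) * z := by rw [htp, e]; group
        _ = p * F.u i * (z * z) := by rw [(S.xt.cen _ (F.mem i)).eq]; group
        _ = p * F.u i := by rw [hzz, mul_one]
    have hqQ := Q.mul_mem hp (F.mem i)
    have hqq := hfix hqQ (hcomm hq)
    have hvp : F.vec (p * F.u i) = F.vec p + E i := by rw [F.vec_mul hp (F.mem i), F.vec_u]
    rcases F.vec_of_sq hqQ hqq with h0 | ⟨j, hj⟩
    · exact hvE i (add_eq_zero_iff'.1 (hvp.symm.trans h0))
    · have hji : j = i := by
        refine huniq j (E_injective ?_)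
        rw [← act_E, ← hj, ← F.vconj_inv htz htt htQ hqQ, hq]
      rw [hvp, hji, add_eq_right] at hj
      exact hv0 hj
  -- its conjugate back at `z` lies in the core
  have hu'Q : g⁻¹ * F.u i * g ∈ Q := by
    by_contra hn
    refine hwc (F.u i) (F.mem i) (F.ne_z i) ?_
    refine (hout (hback hut) ?_ hn).trans (isConj_iff.2 ⟨g, by group⟩)
    rw [show g⁻¹ * F.u i * g * (g⁻¹ * F.u i * g) = g⁻¹ * (F.u i * F.u i) * g by group, F.sq, mul_one, inv_mul_cancel]
  have htu : t * F.u i ∉ Q := fun e => htQ (by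
    have := Q.mul_mem e (Q.inv_mem (F.mem i)); rwa [mul_inv_cancel_right] at this)
  have htu2 : t * F.u i * (t * F.u i) = 1 := by
    rw [hut.mul_mul_mul_comm, htt, F.sq, one_mul]
  have hback2 : g⁻¹ * (t * F.u i) * g = z * (g⁻¹ * F.u i * g) := by rw [ht]; group
  refine hwc _ (hback2 ▸ Q.mul_mem S.xt.mem hu'Q : g⁻¹ * (t * F.u i) * g ∈ Q) (fun e => ?_)
    ((hout (htz.mul_left (F.S.xt.cen _ (F.mem i)).symm) htu2 htu).trans (isConj_iff.2 ⟨g⁻¹, by group⟩))
  rw [hback2, mul_eq_left] at e
  exact F.ne_one i ((conj_eq_one_iff (a := g⁻¹)).1 (by rw [inv_inv]; exact e))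

end Cfsg.Agent.Lie.HJType
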